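import Groth.Agent.Proj16.BaseChange

/-!
# Degree-zero localizations commute with base change, gradings by additive subgroups
-/

noncomputable section

universe u

set_option backward.isDefEq.respectTransparency false
set_option backward.isDefEq.respectTransparency.types false

open CategoryTheory CategoryTheory.Limits AlgebraicGeometry HomogeneousLocalization DirectSum
open scoped TensorProduct

namespace Groth.Agent.ProjQ

open Groth.Agent

variable {R A : Type u} [CommRing R] [CommRing A] [Algebra R A] (𝒜 : ℕ → AddSubgroup A) [GradedRing 𝒜]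

/-- A grading by additive subgroups, as submodules over a ring landing in degree zero. -/
def subDeg (h0 : ∀ r, algebraMap R A r ∈ 𝒜 0) (n : ℕ) : Submodule R A where
  carrier := 𝒜 n
  add_mem' := (𝒜 n).add_mem
  zero_mem' := (𝒜 n).zero_mem
  smul_mem' r x hx := by
    rw [Algebra.smul_def]
    simpa using SetLike.mul_mem_graded (A := 𝒜) (h0 r) hx

instance gradedSubDeg (h0 : ∀ r, algebraMap R A r ∈ 𝒜 0) : GradedAlgebra (subDeg 𝒜 h0) where
  one_mem := SetLike.one_mem_graded 𝒜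
  mul_mem _ _ _ _ ha hb := SetLike.mul_mem_graded (A := 𝒜) ha hb
  decompose' a := DirectSum.decompose 𝒜 a
  left_inv := DirectSum.Decomposition.left_inv (ℳ := 𝒜)
  right_inv := DirectSum.Decomposition.right_inv (ℳ := 𝒜)

variable (h0 : ∀ r, algebraMap R A r ∈ 𝒜 0)

/-- The identity into the submodule grading. -/
def toSubDeg : 𝒜 →+*ᵍ subDeg 𝒜 h0 :=
  { RingHom.id A with map_mem := fun h => h }

/-- The identity from the submodule grading. -/
def ofSubDeg : subDeg 𝒜 h0 →+*ᵍ 𝒜 :=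
  { RingHom.id A with map_mem := fun h => h }

/-- The two degree-zero localizations agree. -/
def awaySubDeg {d : ℕ} {f : A} (hf : f ∈ 𝒜 d) : Away 𝒜 f ≃+* Away (subDeg 𝒜 h0) f where
  toFun := Away.map (toSubDeg 𝒜 h0) f
  invFun := Away.map (ofSubDeg 𝒜 h0) f
  left_inv x := by
    obtain ⟨n, a, ha, rfl⟩ := Away.mk_surjective 𝒜 hf x
    rw [Away.map_mk]
    exact Away.map_mk (ofSubDeg 𝒜 h0) f hf n a ha
  right_inv x := by
    obtain ⟨n, a, ha, rfl⟩ := Away.mk_surjective (subDeg 𝒜 h0) (show f ∈ subDeg 𝒜 h0 d from hf) x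
    rw [Away.map_mk]
    exact Away.map_mk (toSubDeg 𝒜 h0) f hf n a ha
  map_mul' := map_mul _
  map_add' := map_add _

theorem awaySubDeg_mk {d : ℕ} {f : A} (hf : f ∈ 𝒜 d) (n : ℕ) (a : A) (ha : a ∈ 𝒜 (n • d)) :
    awaySubDeg 𝒜 h0 hf (Away.mk 𝒜 hf n a ha) =
      Away.mk (subDeg 𝒜 h0) (show f ∈ subDeg 𝒜 h0 d from hf) n a ha :=
  Away.map_mk (toSubDeg 𝒜 h0) f hf n a ha

end Groth.Agent.ProjQ
namespace Groth.Agent.ProjQ

open Groth.Agent

/-- `(A ⊗ R')_(f) = A_(f) ⊗ R'`. -/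
theorem isPushout_away {R R' A A' : CommRingCat.{u}} (φ : R ⟶ R') (a : R ⟶ A) (a' : R' ⟶ A')
    {𝒜 : ℕ → AddSubgroup A} {𝒜' : ℕ → AddSubgroup A'} [GradedRing 𝒜] [GradedRing 𝒜'] (γ : 𝒜 →+*ᵍ 𝒜')
    (ha : ∀ r, a.hom r ∈ 𝒜 0) (ha' : ∀ r, a'.hom r ∈ 𝒜' 0)
    (H : IsPushout φ a a' (CommRingCat.ofHom γ.toRingHom)) {d : ℕ} (hd : 0 < d) {f : A} (hf : f ∈ 𝒜 d)
    (b : R ⟶ CommRingCat.of (Away 𝒜 f)) (b' : R' ⟶ CommRingCat.of (Away 𝒜' (γ f)))
    (hb : ∀ r, (b.hom r).val = algebraMap A (Localization.Away f) (a.hom r))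
    (hb' : ∀ r, (b'.hom r).val = algebraMap A' (Localization.Away (γ f)) (a'.hom r)) :
    IsPushout φ b b' (CommRingCat.ofHom (Away.map γ f)) := by
  algebraize [φ.hom, a.hom, a'.hom, γ.toRingHom]
  letI : Algebra R A' := (a'.hom.comp φ.hom).toAlgebra
  haveI : IsScalarTower R R' A' := IsScalarTower.of_algebraMap_eq fun _ => rfl
  haveI : IsScalarTower R A A' := IsScalarTower.of_algebraMap_eq fun r => congr($(H.w) r)
  haveI hP : Algebra.IsPushout R R' A A' := CommRingCat.isPushout_iff_isPushout.1 H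
  let ψ : subDeg 𝒜 (R := R) ha →+*ᵍ subDeg 𝒜' (R := R') ha' := { γ.toRingHom with map_mem := fun h => γ.map_mem h }
  letI : Algebra R (Away (subDeg 𝒜 ha) f) := (Proj16.BaseChange.str (subDeg 𝒜 ha) f).toAlgebra
  letI : Algebra R (Away (subDeg 𝒜' ha') (ψ f)) :=
    ((Proj16.BaseChange.str (subDeg 𝒜' ha') (ψ f)).comp (algebraMap R R')).toAlgebra
  obtain ⟨L, hL, hL1, hL2⟩ := Proj16.BaseChange.bijective_chart (R' := R) (R := R') ψ (fun _ => rfl) hd
    (show f ∈ subDeg 𝒜 ha d from hf)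
  let eA := awaySubDeg 𝒜 (R := R) ha hf
  let eA' := awaySubDeg 𝒜' (R := R') ha' (γ.map_mem hf)
  have h1 : IsPushout φ (CommRingCat.ofHom (algebraMap R (Away (subDeg 𝒜 ha) f)))
      (CommRingCat.ofHom (Proj16.BaseChange.str (subDeg 𝒜' ha') (ψ f))) (CommRingCat.ofHom (Away.map ψ f)) := by
    refine IsPushout.of_iso (CommRingCat.isPushout_tensorProduct R R' (Away (subDeg 𝒜 ha) f))
      (Iso.refl _) (Iso.refl _) (Iso.refl _) (RingEquiv.ofBijective L hL).toCommRingCatIso ?_ ?_ ?_ ?_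
    · exact CommRingCat.hom_ext (RingHom.ext fun x => rfl)
    · exact CommRingCat.hom_ext (RingHom.ext fun x => rfl)
    · exact CommRingCat.hom_ext (RingHom.ext fun x => hL1 x)
    · exact CommRingCat.hom_ext (RingHom.ext fun x => hL2 x)
  refine IsPushout.of_iso h1 (Iso.refl _) (Iso.refl _) eA.symm.toCommRingCatIso eA'.symm.toCommRingCatIso
    (by simp) ?_ ?_ ?_
  · refine CommRingCat.hom_ext (RingHom.ext fun r => ?_)
    show eA.symm (Proj16.BaseChange.str (subDeg 𝒜 ha) f r) = b.hom r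
    rw [RingEquiv.symm_apply_eq]
    apply HomogeneousLocalization.val_injective
    obtain ⟨n, x, hx, e⟩ := Away.mk_surjective 𝒜 hf (b.hom r)
    rw [Proj16.BaseChange.val_str, ← e, awaySubDeg_mk, Away.val_mk]
    have h := hb r
    rw [← e, Away.val_mk] at h
    exact h.symm
  · refine CommRingCat.hom_ext (RingHom.ext fun r => ?_)
    show eA'.symm (Proj16.BaseChange.str (subDeg 𝒜' ha') (ψ f) r) = b'.hom r
    rw [RingEquiv.symm_apply_eq]
    apply HomogeneousLocalization.val_injective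
    obtain ⟨n, x, hx, e⟩ := Away.mk_surjective 𝒜' (γ.map_mem hf) (b'.hom r)
    rw [Proj16.BaseChange.val_str, ← e, awaySubDeg_mk, Away.val_mk]
    have h := hb' r
    rw [← e, Away.val_mk] at h
    exact h.symm
  · refine CommRingCat.hom_ext (RingHom.ext fun x => ?_)
    show eA'.symm (Away.map ψ f x) = Away.map γ f (eA.symm x)
    rw [RingEquiv.symm_apply_eq]
    obtain ⟨n, y, hy, rfl⟩ := Away.mk_surjective (subDeg 𝒜 ha) (show f ∈ subDeg 𝒜 ha d from hf) x
    rw [show eA.symm (Away.mk (subDeg 𝒜 ha) (show f ∈ subDeg 𝒜 ha d from hf) n y hy) = Away.mk 𝒜 hf n y hy from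
      (RingEquiv.symm_apply_eq _).2 (awaySubDeg_mk 𝒜 ha hf n y hy).symm, Away.map_mk, Away.map_mk, awaySubDeg_mk]
    rfl

end Groth.Agent.ProjQ
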