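import Groth.Agent.ProjQ.SameBase
import Groth.Agent.ProjQ.SubDeg

/-!
# Base change of the relative `Proj`
-/

universe u

open CategoryTheory CategoryTheory.Limits AlgebraicGeometry TopologicalSpace Opposite HomogeneousLocalization
open scoped HomogeneousIdeal

set_option linter.style.haveILetI false
set_option backward.isDefEq.respectTransparency false
set_option backward.isDefEq.respectTransparency.types false

noncomputable section

namespace Groth.Agent.ProjQ

open Groth.Agent

theorem isPullback_compMono {P X Y Z W : Scheme.{u}} {a : P ⟶ X} {b : P ⟶ Y} {f : X ⟶ Z} {g : Y ⟶ Z}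
    (h : IsPullback a b f g) (m : Z ⟶ W) [Mono m] : IsPullback a b (f ≫ m) (g ≫ m) := by
  refine IsPullback.mk' (by rw [h.w_assoc]) (fun T φ φ' h1 h2 => h.hom_ext h1 h2) fun T x y hxy => ?_
  have hxy' : x ≫ f = y ≫ g := by rw [← cancel_mono m, Category.assoc, Category.assoc]; exact hxy
  exact ⟨h.lift x y hxy', h.lift_fst _ _ _, h.lift_snd _ _ _⟩

variable {Y Y' : Scheme.{u}} {ψ : Y' ⟶ Y} {𝒮 : RelProj.QCGrAlg Y} {𝒮' : RelProj.QCGrAlg Y'}
  (u : RelProj.QGrHom ψ 𝒮 𝒮')
  {P : Scheme.{u}} {p : P ⟶ Y}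
  {chart : ∀ (U : Y.Opens) (hU : IsAffineOpen U), (((p ⁻¹ᵁ U : P.Opens) : Scheme.{u}) ≅ Proj (𝒮.deg U hU))}
  {P' : Scheme.{u}} {p' : P' ⟶ Y'}
  {chart' : ∀ (U : Y'.Opens) (hU : IsAffineOpen U), (((p' ⁻¹ᵁ U : P'.Opens) : Scheme.{u}) ≅ Proj (𝒮'.deg U hU))}

theorem chartStr_val {S : Scheme.{u}} {𝒜 : RelProj.QCGrAlg S} (U : S.Opens) (hU : IsAffineOpen U)
    (f : 𝒜.presheaf.obj (op U)) (r : Γ(S, U)) :
    ((chartStr (𝒜 := 𝒜) U hU f).hom r).val =
      algebraMap (𝒜.presheaf.obj (op U)) (Localization.Away f) ((𝒜.str.app (op U)).hom r) := by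
  show HomogeneousLocalization.val (HomogeneousLocalization.mk _) = _
  rw [HomogeneousLocalization.val_mk, Localization.mk_eq_mk', ← IsLocalization.mk'_one (M := Submonoid.powers f)]
  rfl

variable (hu : RelSpec.IsQBaseChange u.toQHom) (hP : RelProj.IsRelProj 𝒮 p chart)
  (hP' : RelProj.IsRelProj 𝒮' p' chart')

include hu in
theorem isPushout_chart {U : Y.Opens} (hU : IsAffineOpen U) {U' : Y'.Opens} (hU' : IsAffineOpen U')
    (hle : U' ≤ ψ ⁻¹ᵁ U) {d : ℕ} (hd : 0 < d) {f : 𝒮.presheaf.obj (op U)} (hf : f ∈ 𝒮.deg U hU d) :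
    IsPushout (ψ.appLE U U' hle) (chartStr U hU f) (chartStr U' hU' (u.gradedAt U hU U' hU' hle f))
      (CommRingCat.ofHom (Away.map (u.gradedAt U hU U' hU' hle) f)) :=
  isPushout_away (ψ.appLE U U' hle) (𝒮.str.app (op U)) (𝒮'.str.app (op U')) (u.gradedAt U hU U' hU' hle)
    (𝒮.str_mem U hU) (𝒮'.str_mem U' hU') (hu U hU U' hU' hle) hd hf _ _ (chartStr_val U hU f)
    (chartStr_val U' hU' _)

include hu in
theorem domQ_eq_top_of_baseChange : RelProj.domQ u p' chart' = ⊤ := by
  classical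
  refine top_unique fun x _ => ?_
  obtain ⟨U, hU, hxU, -⟩ := exists_isAffineOpen_mem_and_subset (X := Y) (x := ψ (p' x)) (U := ⊤) trivial
  obtain ⟨U', hU', hxU', hle⟩ := exists_affine_le (show p' x ∈ ψ ⁻¹ᵁ U from hxU)
  obtain ⟨w, rfl⟩ := exists_emb (chart := chart') hU' hxU'
  by_contra hne
  let γ := u.gradedAt U hU U' hU' hle
  have hγ : ∀ e, 0 < e → ∀ a ∈ 𝒮.deg U hU e, γ a ∈ w.asHomogeneousIdeal := fun e he a ha => by
    by_contra haw
    exact hne ((mem_domQ u).2 ⟨U, hU, U', hU', hle, e, a, he, ha, emb_mem_pbasic.2 haw⟩)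
  refine w.not_irrelevant_le ?_
  refine (HomogeneousIdeal.toIdeal_irrelevant_le _).2 fun i hi b hb => ?_
  show b ∈ w.asHomogeneousIdeal
  rw [← DirectSum.decompose_of_mem_same (ℳ := 𝒮'.deg U' hU') (show b ∈ 𝒮'.deg U' hU' i from hb)]
  let P : 𝒮'.presheaf.obj (op U') → Prop := fun z => ∀ k, 0 < k →
    (DirectSum.decompose (𝒮'.deg U' hU') z k : 𝒮'.presheaf.obj (op U')) ∈ w.asHomogeneousIdeal
  suffices h : ∀ z, P z from h b i hi
  intro z
  have hz : z ∈ Subring.closure (Set.range (𝒮'.str.app (op U')) ∪ Set.range (u.appLE U U' hle)) :=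
    (CommRingCat.closure_range_union_range_eq_top_of_isPushout (hu U hU U' hU' hle)).ge trivial
  induction hz using Subring.closure_induction with
  | mem z hz =>
    intro k hk
    rcases hz with ⟨r, rfl⟩ | ⟨a, rfl⟩
    · rw [DirectSum.decompose_of_mem_ne _ (𝒮'.str_mem U' hU' r) hk.ne]
      exact zero_mem _
    · show (DirectSum.decompose (𝒮'.deg U' hU') (γ a) k : 𝒮'.presheaf.obj (op U')) ∈ w.asHomogeneousIdeal
      have e : γ (DirectSum.decompose (𝒮.deg U hU) a k : 𝒮.presheaf.obj (op U)) =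
          (DirectSum.decompose (𝒮'.deg U' hU') (γ a) k : 𝒮'.presheaf.obj (op U')) :=
        (u.gradedAt U hU U' hU' hle).map_directSumDecompose
      rw [← e]
      exact hγ k hk _ (SetLike.coe_mem _)
  | zero => intro k _; rw [DirectSum.decompose_zero, DirectSum.zero_apply, AddSubgroup.coe_zero]; exact w.asHomogeneousIdeal.toIdeal.zero_mem
  | one => intro k hk; rw [DirectSum.decompose_of_mem_ne _ (SetLike.one_mem_graded _) hk.ne]; exact zero_mem _
  | add x y _ _ hx hy =>
    intro k hk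
    rw [DirectSum.decompose_add, DirectSum.add_apply, AddSubgroup.coe_add]
    exact add_mem (hx k hk) (hy k hk)
  | neg x _ hx =>
    intro k hk
    rw [DirectSum.decompose_neg, DFinsupp.neg_apply, AddSubgroup.coe_neg]
    exact w.asHomogeneousIdeal.toIdeal.neg_mem (hx k hk)
  | mul x y _ _ hx hy =>
    intro k hk
    rw [DirectSum.decompose_mul, DirectSum.coe_mul_apply]
    refine sum_mem fun ij hij => ?_
    obtain ⟨-, hk'⟩ := Finset.mem_filter.1 hij
    rcases Nat.eq_zero_or_pos ij.1 with h | h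
    · exact Ideal.mul_mem_left _ _ (hy ij.2 (by omega))
    · exact Ideal.mul_mem_right _ _ (hx ij.1 h)

include hu hP hP' in
theorem isPullback_of_baseChange {h : P' ⟶ P} (hh : RelProj.IsProjQMap u p chart p' chart' h) :
    IsPullback h p' p ψ := by
  have hv := isProjQMapOn_of_isProjQMap u hh
  haveI := isIso_ι_of_eq_top hh.1
  have w : h ≫ p = p' ≫ ψ := by
    rw [← cancel_epi (RelProj.domQ u p' chart').ι, ← Category.assoc]
    exact projQMap_comp u hP hP' hv
  have hdom : ∀ x : P', x ∈ RelProj.domQ u p' chart' := fun x => hh.1.ge trivial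
  let L := pullback.lift h p' w
  have hLf : L ≫ pullback.fst p ψ = h := pullback.lift_fst _ _ _
  have hLs : L ≫ pullback.snd p ψ = p' := pullback.lift_snd _ _ _
  haveI : IsIso L := by
    let m : ∀ i : Idx (g := ψ) (𝒮 := 𝒮), pullback (RelQuot.stdChart chart i.U i.hU i.hd i.f i.hf ≫ p)
        (i.hU'.fromSpec ≫ ψ) ⟶ pullback p ψ := fun i =>
      pullback.map _ _ _ _ (RelQuot.stdChart chart i.U i.hU i.hd i.f i.hf) i.hU'.fromSpec (𝟙 _)
        (Category.comp_id _) (Category.comp_id _)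
    have hm : ∀ i, Set.range (m i) = pullback.fst p ψ ⁻¹' (pbasic chart i.U i.hU i.f : Set P) ∩
        pullback.snd p ψ ⁻¹' (i.U' : Set Y') := fun i => by
      rw [Scheme.Pullback.range_map, range_stdChart, IsAffineOpen.range_fromSpec]
    let 𝒬 : (pullback p ψ).OpenCover := Scheme.Cover.mkOfCovers (Idx (g := ψ) (𝒮 := 𝒮)) _ m
      (fun z => by
        obtain ⟨U, hU, hzU, -⟩ := exists_isAffineOpen_mem_and_subset (X := Y)
          (x := p (pullback.fst p ψ z)) (U := ⊤) trivial
        obtain ⟨d, f, hd, hf, hzf⟩ := exists_mem_pbasic (chart := chart) _ hU hzU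
        obtain ⟨U', hU', hzU', hle⟩ := exists_affine_le (show pullback.snd p ψ z ∈ ψ ⁻¹ᵁ U by
          show ψ _ ∈ U
          rw [← Scheme.Hom.comp_apply, ← pullback.condition]
          exact hzU)
        have : z ∈ Set.range (m ⟨U, hU, U', hU', hle, d, hd, f, hf⟩) := by
          rw [hm]; exact ⟨hzf, hzU'⟩
        exact ⟨_, this⟩)
      (fun i => inferInstance)
    refine IsZariskiLocalAtTarget.of_openCover (P := MorphismProperty.isomorphisms Scheme.{u}) 𝒬 fun i => ?_
    change MorphismProperty.isomorphisms Scheme.{u} (pullback.snd L (m i))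
    have hc : IsPullback (Spec.map (CommRingCat.ofHom (Away.map (u.gradedAt i.U i.hU i.U' i.hU' i.hle) i.f)))
        (Spec.map (chartStr i.U' i.hU' (u.gradedAt i.U i.hU i.U' i.hU' i.hle i.f)))
        (RelQuot.stdChart chart i.U i.hU i.hd i.f i.hf ≫ p) (i.hU'.fromSpec ≫ ψ) := by
      have h1 := isPullback_compMono
        (isPullback_SpecMap_of_isPushout _ _ _ _ (isPushout_chart u hu i.hU i.hU' i.hle i.hd i.hf).flip)
        i.hU.fromSpec
      rwa [i.hU.SpecMap_appLE_fromSpec ψ i.hU' i.hle, ← stdChart_comp hP i.hU i.hd i.f i.hf] at h1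
    let e := hc.isoPullback
    have hcL : (idxPiece u chart chart' i).c ≫ L = e.hom ≫ m i := by
      apply pullback.hom_ext
      · rw [Category.assoc, hLf, Category.assoc, pullback.lift_fst, ← Category.assoc, hc.isoPullback_hom_fst]
        exact hh.2 i.U i.hU i.U' i.hU' i.hle i.d i.hd i.f i.hf
      · rw [Category.assoc, hLs, Category.assoc, pullback.lift_snd, ← Category.assoc, hc.isoPullback_hom_snd]
        exact stdChart_comp hP' i.hU' i.hd _ _
    haveI : IsOpenImmersion (e.hom ≫ m i) := inferInstance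
    have sq : IsPullback (idxPiece u chart chart' i).c e.hom L (m i) := by
      refine (IsOpenImmersion.isPullback _ _ _ _ hcL ?_).flip
      ext x
      symm
      simp only [Scheme.Hom.coe_opensRange, Scheme.Hom.coe_preimage, Set.mem_preimage]
      rw [hm, idxPiece, range_piece]
      constructor
      · intro hx
        have h1 : (pullback.fst p ψ) (L x) = h x := by rw [← Scheme.Hom.comp_apply, hLf]
        have h2 : (pullback.snd p ψ) (L x) = p' x := by rw [← Scheme.Hom.comp_apply, hLs]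
        refine ⟨?_, ?_⟩
        · show _ ∈ (pbasic chart i.U i.hU i.f : Set P)
          rw [h1]
          exact (apply_mem_iff u hP hP' hv ⟨x, hdom x⟩ i.hU i.hU' i.hle (pbasic_le hx) i.hd i.f i.hf).2 hx
        · show _ ∈ (i.U' : Set Y')
          rw [h2]
          exact pbasic_le hx
      · rintro ⟨hx1, hx2⟩
        have h1 : (pullback.fst p ψ) (L x) = h x := by rw [← Scheme.Hom.comp_apply, hLf]
        have h2 : (pullback.snd p ψ) (L x) = p' x := by rw [← Scheme.Hom.comp_apply, hLs]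
        simp only [Set.mem_preimage, h1] at hx1
        simp only [Set.mem_preimage, h2] at hx2
        exact (apply_mem_iff u hP hP' hv ⟨x, hdom x⟩ i.hU i.hU' i.hle hx2 i.hd i.f i.hf).1 hx1
    rw [← sq.isoPullback_inv_snd]
    exact (MorphismProperty.isomorphisms.iff _).mpr inferInstance
  exact IsPullback.of_iso_pullback ⟨w⟩ (asIso L) hLf hLs

end Groth.Agent.ProjQ
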