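import Groth.Agent.ProjQ.BC

/-!
# Base change of `Proj`, presented on presheaves
-/

universe u

open CategoryTheory CategoryTheory.Limits AlgebraicGeometry TopologicalSpace Opposite HomogeneousLocalization
open scoped HomogeneousIdeal

set_option linter.style.haveILetI false
set_option backward.isDefEq.respectTransparency false
set_option backward.isDefEq.respectTransparency.types false
set_option autoImplicit false

noncomputable section

namespace Groth.Agent.ProjQ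

open Groth.Agent

variable {Y Y' : Scheme.{u}} {ψ : Y' ⟶ Y} {𝒮 : RelProj.QCGrAlg Y} {𝒮' : RelProj.QCGrAlg Y'}

/-- The graded morphism given by a morphism of presheaves of algebras. -/
def presheafHom (u : 𝒮.presheaf ⟶ ψ.base _* 𝒮'.presheaf)
    (hu : 𝒮.str ≫ u = ψ.c ≫ (TopCat.Presheaf.pushforward CommRingCat.{u} ψ.base).map 𝒮'.str)
    (hdeg : ∀ (U : Y.Opens) (hU : IsAffineOpen U) (U' : Y'.Opens) (hU' : IsAffineOpen U') (hle : U' ≤ ψ ⁻¹ᵁ U)
      {d : ℕ} {x : 𝒮.presheaf.obj (op U)}, x ∈ 𝒮.deg U hU d →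
      (𝒮'.presheaf.map (homOfLE hle).op).hom ((u.app (op U)).hom x) ∈ 𝒮'.deg U' hU' d) :
    RelProj.QGrHom ψ 𝒮 𝒮' where
  app U := u.app (op U)
  naturality i := (u.naturality (homOfLE i).op).symm
  str_app U := congrArg (fun f => f.app (op U)) hu
  map_mem := hdeg

theorem gradedHom_eq {A B : Type u} [CommRing A] [CommRing B] {𝒜 : ℕ → AddSubgroup A} {ℬ : ℕ → AddSubgroup B}
    {f g : 𝒜 →+*ᵍ ℬ} (h : f.toRingHom = g.toRingHom) : f = g := by
  ext x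
  exact RingHom.congr_fun h x

theorem emb_comp_of_chart {U' : Y'.Opens} {P P' Z : Scheme.{u}} {p' : P' ⟶ Y'}
    (e : ((p' ⁻¹ᵁ U' : P'.Opens) : Scheme.{u}) ≅ Z) (g : P' ⟶ P) (m : Z ⟶ P)
    (h : (p' ⁻¹ᵁ U').ι ≫ g = e.hom ≫ m) : (e.inv ≫ (p' ⁻¹ᵁ U').ι) ≫ g = m := by
  rw [Category.assoc, h, Iso.inv_hom_id_assoc]

theorem isProjQMap_of_chart {P : Scheme.{u}} {p : P ⟶ Y}
    {chart : ∀ (U : Y.Opens) (hU : IsAffineOpen U), (((p ⁻¹ᵁ U : P.Opens) : Scheme.{u}) ≅ Proj (𝒮.deg U hU))}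
    {P' : Scheme.{u}} {p' : P' ⟶ Y'}
    {chart' : ∀ (U : Y'.Opens) (hU : IsAffineOpen U), (((p' ⁻¹ᵁ U : P'.Opens) : Scheme.{u}) ≅ Proj (𝒮'.deg U hU))}
    (u : RelProj.QGrHom ψ 𝒮 𝒮') (hu : RelSpec.IsQBaseChange u.toQHom) (g : P' ⟶ P)
    (hirr : ∀ (U : Y.Opens) (hU : IsAffineOpen U) (U' : Y'.Opens) (hU' : IsAffineOpen U') (hle : U' ≤ ψ ⁻¹ᵁ U),
      (𝒮'.deg U' hU')₊ ≤ ((𝒮.deg U hU)₊).map (u.gradedAt U hU U' hU' hle))
    (hg : ∀ (U : Y.Opens) (hU : IsAffineOpen U) (U' : Y'.Opens) (hU' : IsAffineOpen U') (hle : U' ≤ ψ ⁻¹ᵁ U),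
      RelProj.emb p' chart' U' hU' ≫ g =
        Proj.map (u.gradedAt U hU U' hU' hle) (hirr U hU U' hU' hle) ≫ RelProj.emb p chart U hU) :
    RelProj.IsProjQMap u p chart p' chart' g := by
  refine ⟨domQ_eq_top_of_baseChange u hu, fun U hU U' hU' hle d hd f hf => ?_⟩
  rw [RelProj.awayEmb, Category.assoc, hg U hU U' hU' hle, ← Category.assoc,
    AlgebraicGeometry.Proj.awayι_comp_map _ _ hd f hf, Category.assoc]

end Groth.Agent.ProjQ
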