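import Mathlib.AlgebraicGeometry.OpenImmersion
import Mathlib.AlgebraicGeometry.Restrict
import Mathlib.AlgebraicGeometry.Gluing

/-!
# Gluing a morphism on an open from pieces
-/

universe u

open CategoryTheory CategoryTheory.Limits AlgebraicGeometry TopologicalSpace

noncomputable section

namespace Groth.Agent.ProjQ

/-- A chart of `X` with a morphism to `Y` on it. -/
structure Piece (X Y : Scheme.{u}) where
  T : Scheme.{u}
  c : T ⟶ X
  v : T ⟶ Y
  [isOpen : IsOpenImmersion c]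

attribute [instance] Piece.isOpen

variable {X Y : Scheme.{u}}

/-- The piece `a` is a restriction of the piece `b`. -/
def Below (a b : Piece X Y) : Prop := ∃ j : a.T ⟶ b.T, j ≫ b.c = a.c ∧ j ≫ b.v = a.v

theorem Below.refl (a : Piece X Y) : Below a a := ⟨𝟙 _, Category.id_comp _, Category.id_comp _⟩

theorem Below.trans {a b c : Piece X Y} (h : Below a b) (h' : Below b c) : Below a c := by
  obtain ⟨j, hj, hj'⟩ := h
  obtain ⟨k, hk, hk'⟩ := h'
  exact ⟨j ≫ k, by rw [Category.assoc, hk, hj], by rw [Category.assoc, hk', hj']⟩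

theorem Below.of_eq {a b : Piece X Y} (h : a = b) : Below a b := h ▸ Below.refl a

theorem Below.range_subset {a b : Piece X Y} (h : Below a b) : Set.range a.c ⊆ Set.range b.c := by
  obtain ⟨j, hj, -⟩ := h
  rintro _ ⟨z, rfl⟩
  exact ⟨j z, by rw [← Scheme.Hom.comp_apply, hj]⟩

variable {ι : Type u} (q : ι → Piece X Y) (W : X.Opens)
  (hsub : ∀ i, Set.range (q i).c ⊆ Set.range W.ι)
  (hcov : ∀ x ∈ W, ∃ i, x ∈ Set.range (q i).c)

/-- The cover of an open by pieces. -/
def pieceCover : W.toScheme.OpenCover :=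
  Scheme.Cover.mkOfCovers ι (fun i => (q i).T) (fun i => IsOpenImmersion.lift W.ι (q i).c (hsub i))
    (fun x => by
      obtain ⟨i, z, hz⟩ := hcov x.1 x.2
      refine ⟨i, z, W.ι.isOpenEmbedding.injective ?_⟩
      rw [← Scheme.Hom.comp_apply, IsOpenImmersion.lift_fac]
      exact hz)
    (fun i => by
      haveI : IsOpenImmersion (IsOpenImmersion.lift W.ι (q i).c (hsub i) ≫ W.ι) := by
        rw [IsOpenImmersion.lift_fac]; infer_instance
      exact IsOpenImmersion.of_comp (IsOpenImmersion.lift W.ι (q i).c (hsub i)) W.ι)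

include hcov in
/-- Pieces agreeing locally glue uniquely. -/
theorem existsUnique_glue
    (hcompat : ∀ i j, ∀ x ∈ Set.range (q i).c, x ∈ Set.range (q j).c →
      ∃ k, x ∈ Set.range (q k).c ∧ Below (q k) (q i) ∧ Below (q k) (q j)) :
    ∃! r : (W : Scheme.{u}) ⟶ Y, ∀ i, IsOpenImmersion.lift W.ι (q i).c (hsub i) ≫ r = (q i).v := by
  let 𝒰 := pieceCover q W hsub hcov
  let l : ∀ i, (q i).T ⟶ (W : Scheme.{u}) := fun i => IsOpenImmersion.lift W.ι (q i).c (hsub i)
  have h : ∀ i j : ι, pullback.fst (l i) (l j) ≫ (q i).v = pullback.snd (l i) (l j) ≫ (q j).v := by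
    intro i j
    have hc : pullback.fst (l i) (l j) ≫ (q i).c = pullback.snd (l i) (l j) ≫ (q j).c := by
      have h1 : ∀ k, l k ≫ W.ι = (q k).c := fun k => IsOpenImmersion.lift_fac _ _ (hsub k)
      exact ((congrArg (_ ≫ ·) (h1 i).symm).trans (pullback.condition_assoc W.ι)).trans
        (congrArg (_ ≫ ·) (h1 j))
    refine Scheme.hom_ext_of_forall _ _ fun z => ?_
    have hxi : (pullback.fst (l i) (l j) ≫ (q i).c) z ∈ Set.range (q i).c :=
      ⟨_, (Scheme.Hom.comp_apply _ _ z).symm⟩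
    have hxj : (pullback.fst (l i) (l j) ≫ (q i).c) z ∈ Set.range (q j).c := by
      rw [hc]; exact ⟨_, (Scheme.Hom.comp_apply _ _ z).symm⟩
    obtain ⟨k, hk, ⟨a, ha, ha'⟩, ⟨b, hb, hb'⟩⟩ := hcompat i j _ hxi hxj
    let O := (pullback.fst (l i) (l j) ≫ (q i).c) ⁻¹ᵁ (q k).c.opensRange
    refine ⟨O, hk, ?_⟩
    have hr : Set.range (O.ι ≫ pullback.fst (l i) (l j) ≫ (q i).c) ⊆ Set.range (q k).c := by
      rintro _ ⟨w, rfl⟩; exact w.2
    let e := IsOpenImmersion.lift (q k).c (O.ι ≫ pullback.fst (l i) (l j) ≫ (q i).c) hr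
    have he : e ≫ (q k).c = O.ι ≫ pullback.fst (l i) (l j) ≫ (q i).c :=
      IsOpenImmersion.lift_fac _ _ _
    have hi : e ≫ a = O.ι ≫ pullback.fst (l i) (l j) := by
      rw [← cancel_mono (q i).c, Category.assoc, ha, he, Category.assoc]
    have hj : e ≫ b = O.ι ≫ pullback.snd (l i) (l j) := by
      rw [← cancel_mono (q j).c, Category.assoc, hb, he, hc, Category.assoc]
    rw [← reassoc_of% hi, ← reassoc_of% hj, ha', hb']
  exact ⟨𝒰.glueMorphisms (fun i => (q i).v) h, fun i => 𝒰.ι_glueMorphisms _ h i,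
    fun r hr => 𝒰.hom_ext _ _ fun i => (hr i).trans (𝒰.ι_glueMorphisms _ h i).symm⟩

end Groth.Agent.ProjQ
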