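import Groth.Agent.RelQuot.QMap
import Groth.Agent.ProjQ.Glue

/-!
# Standard opens of a relative `Proj` and graded morphisms over a morphism of bases
-/

universe u

open CategoryTheory CategoryTheory.Limits AlgebraicGeometry TopologicalSpace Opposite HomogeneousLocalization
open scoped HomogeneousIdeal

set_option linter.style.haveILetI false
set_option backward.isDefEq.respectTransparency false
set_option backward.isDefEq.respectTransparency.types false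

noncomputable section

namespace Groth.Agent.ProjQ

open Groth.Agent

section pbasic

variable {S P : Scheme.{u}} {𝒜 : RelProj.QCGrAlg S} {p : P ⟶ S}

variable (chart : ∀ (U : S.Opens) (hU : IsAffineOpen U), (((p ⁻¹ᵁ U : P.Opens) : Scheme.{u}) ≅ Proj (𝒜.deg U hU)))

/-- The standard open `D₊(a)` over an affine open, inside the relative `Proj`. -/
def pbasic (U : S.Opens) (hU : IsAffineOpen U) (a : 𝒜.presheaf.obj (op U)) : P.Opens :=
  RelProj.emb p chart U hU ''ᵁ Proj.basicOpen (𝒜.deg U hU) a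

variable {chart}

theorem pbasic_le {U : S.Opens} {hU : IsAffineOpen U} {a : 𝒜.presheaf.obj (op U)} :
    pbasic chart U hU a ≤ p ⁻¹ᵁ U := by
  rw [← RelTildeX.opensRange_emb p chart U hU]
  exact (RelProj.emb p chart U hU).image_le_opensRange _

theorem exists_emb {U : S.Opens} (hU : IsAffineOpen U) {x : P} (hx : p x ∈ U) :
    ∃ w, RelProj.emb p chart U hU w = x := by
  have h : x ∈ (RelProj.emb p chart U hU).opensRange := by rw [RelTildeX.opensRange_emb]; exact hx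
  exact h

theorem emb_mem_pbasic {U : S.Opens} {hU : IsAffineOpen U} {a : 𝒜.presheaf.obj (op U)} {w : Proj (𝒜.deg U hU)} :
    RelProj.emb p chart U hU w ∈ pbasic chart U hU a ↔ a ∉ w.asHomogeneousIdeal :=
  ⟨fun ⟨_, hy, e⟩ => (RelProj.emb p chart U hU).isOpenEmbedding.injective e ▸ hy, fun h => ⟨w, h, rfl⟩⟩

theorem pbasic_mul (U : S.Opens) (hU : IsAffineOpen U) (a b : 𝒜.presheaf.obj (op U)) :
    pbasic chart U hU (a * b) = pbasic chart U hU a ⊓ pbasic chart U hU b := by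
  refine le_antisymm (fun x hx => ?_) fun x hx => ?_
  · obtain ⟨w, rfl⟩ := exists_emb (chart := chart) hU (pbasic_le hx)
    rw [emb_mem_pbasic] at hx
    exact ⟨emb_mem_pbasic.2 fun h => hx (Ideal.mul_mem_right _ _ h),
      emb_mem_pbasic.2 fun h => hx (Ideal.mul_mem_left _ _ h)⟩
  · obtain ⟨w, rfl⟩ := exists_emb (chart := chart) hU (pbasic_le hx.1)
    have ha := emb_mem_pbasic.1 hx.1
    have hb := emb_mem_pbasic.1 hx.2
    exact emb_mem_pbasic.2 fun h => (w.isPrime.mem_or_mem h).elim ha hb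

theorem range_stdChart {U : S.Opens} (hU : IsAffineOpen U) {d : ℕ} (hd : 0 < d) (a : 𝒜.presheaf.obj (op U))
    (ha : a ∈ 𝒜.deg U hU d) :
    Set.range (RelQuot.stdChart chart U hU hd a ha) = (pbasic chart U hU a : Set P) := by
  rw [RelQuot.stdChart, Scheme.Hom.comp_base, TopCat.coe_comp, Set.range_comp, pbasic, Scheme.Hom.coe_image,
    ← Proj.opensRange_awayι (𝒜.deg U hU) a ha hd, Scheme.Hom.coe_opensRange]

variable (hP : RelProj.IsRelProj 𝒜 p chart)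

include hP in
theorem mem_pbasic_good {U D : S.Opens} (g : RelTwistX.Good U D) (hU : IsAffineOpen U) (hD : IsAffineOpen D)
    (a : 𝒜.presheaf.obj (op U)) {x : P} (hx : p x ∈ D) :
    x ∈ pbasic chart U hU a ↔ x ∈ pbasic chart D hD (𝒜.res hU hD g.le a) := by
  obtain ⟨z, rfl⟩ := exists_emb (chart := chart) hD hx
  have e : RelProj.emb p chart U hU (Proj.map (𝒜.res hU hD g.le) (g.irr hU hD) z) = RelProj.emb p chart D hD z := by
    rw [← Scheme.Hom.comp_apply, g.map_emb hP hU hD]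
  conv_lhs => rw [← e]
  rw [emb_mem_pbasic, emb_mem_pbasic]
  exact Iff.rfl

theorem res_res_apply {U W D : S.Opens} (hU : IsAffineOpen U) (hW : IsAffineOpen W) (hD : IsAffineOpen D)
    (i : W ≤ U) (j : D ≤ W) (a : 𝒜.presheaf.obj (op U)) :
    𝒜.res hW hD j (𝒜.res hU hW i a) = 𝒜.res hU hD (j.trans i) a :=
  congr($(𝒜.presheaf.map_comp (homOfLE i).op (homOfLE j).op) a).symm

include hP in
theorem pbasic_res {U W : S.Opens} (hU : IsAffineOpen U) (hW : IsAffineOpen W) (i : W ≤ U)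
    (a : 𝒜.presheaf.obj (op U)) :
    pbasic chart W hW (𝒜.res hU hW i a) = pbasic chart U hU a ⊓ p ⁻¹ᵁ W := by
  have key : ∀ x : P, p x ∈ W → (x ∈ pbasic chart U hU a ↔ x ∈ pbasic chart W hW (𝒜.res hU hW i a)) := by
    intro x hx
    obtain ⟨D, hD, g, g', hxD⟩ := RelTwistX.exists_good hU hW (i hx) hx
    rw [mem_pbasic_good hP g hU hD a hxD, mem_pbasic_good hP g' hW hD _ hxD, res_res_apply]
  exact le_antisymm (fun x hx => ⟨(key x (pbasic_le hx)).2 hx, pbasic_le hx⟩) fun x hx => (key x hx.2).1 hx.1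

include hP in
theorem mem_pbasic_res {U W : S.Opens} (hU : IsAffineOpen U) (hW : IsAffineOpen W) (i : W ≤ U)
    (a : 𝒜.presheaf.obj (op U)) {x : P} (hx : p x ∈ W) :
    x ∈ pbasic chart W hW (𝒜.res hU hW i a) ↔ x ∈ pbasic chart U hU a := by
  rw [pbasic_res hP hU hW i a]
  exact ⟨And.left, fun h => ⟨h, hx⟩⟩

end pbasic

section qgrhom

variable {S S' : Scheme.{u}} {g : S' ⟶ S} {𝒮 : RelProj.QCGrAlg S} {𝒮' : RelProj.QCGrAlg S'}
  (u : RelProj.QGrHom g 𝒮 𝒮')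

theorem gradedAt_res_right (U : S.Opens) (hU : IsAffineOpen U) {U' W' : S'.Opens} (hU' : IsAffineOpen U')
    (hW' : IsAffineOpen W') (hle : U' ≤ g ⁻¹ᵁ U) (i : W' ≤ U') :
    u.gradedAt U hU W' hW' (i.trans hle) = (𝒮'.res hU' hW' i).comp (u.gradedAt U hU U' hU' hle) := by
  ext x
  exact congr($(u.toQHom.appLE_map hle i) x).symm

theorem gradedAt_res_left {U W : S.Opens} (hU : IsAffineOpen U) (hW : IsAffineOpen W) (U' : S'.Opens)
    (hU' : IsAffineOpen U') (i : W ≤ U) (hle : U' ≤ g ⁻¹ᵁ W) :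
    u.gradedAt U hU U' hU' (hle.trans (g.preimage_mono i)) = (u.gradedAt W hW U' hU' hle).comp (𝒮.res hU hW i) := by
  ext x
  exact congr($(u.toQHom.map_appLE i hle) x).symm

theorem gradedAt_res_right_apply (U : S.Opens) (hU : IsAffineOpen U) {U' W' : S'.Opens} (hU' : IsAffineOpen U')
    (hW' : IsAffineOpen W') (hle : U' ≤ g ⁻¹ᵁ U) (i : W' ≤ U') (x : 𝒮.presheaf.obj (op U)) :
    u.gradedAt U hU W' hW' (i.trans hle) x = 𝒮'.res hU' hW' i (u.gradedAt U hU U' hU' hle x) :=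
  congr($(gradedAt_res_right u U hU hU' hW' hle i) x)

theorem gradedAt_res_left_apply {U W : S.Opens} (hU : IsAffineOpen U) (hW : IsAffineOpen W) (U' : S'.Opens)
    (hU' : IsAffineOpen U') (i : W ≤ U) (hle : U' ≤ g ⁻¹ᵁ W) (x : 𝒮.presheaf.obj (op U)) :
    u.gradedAt U hU U' hU' (hle.trans (g.preimage_mono i)) x = u.gradedAt W hW U' hU' hle (𝒮.res hU hW i x) :=
  congr($(gradedAt_res_left u hU hW U' hU' i hle) x)

theorem ofHom_gradedAt_self {S : Scheme.{u}} {𝒜 ℬ : RelProj.QCGrAlg S} (φ : 𝒜.toQCAlg ⟶ ℬ.toQCAlg)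
    (hφ : RelProj.IsGradedHom φ) (U : S.Opens) (hU : IsAffineOpen U) :
    (RelProj.QGrHom.ofHom φ hφ).gradedAt U hU U hU le_rfl = RelProj.gradedHomAt φ hφ U hU := by
  ext x
  exact congr($(ℬ.presheaf.map_id (op U)) ((φ.hom.app (op U)) x))

end qgrhom

section pieces

variable {S S' : Scheme.{u}} {𝒮 : RelProj.QCGrAlg S} {𝒮' : RelProj.QCGrAlg S'}
  {P : Scheme.{u}} {p : P ⟶ S}
  (chart : ∀ (U : S.Opens) (hU : IsAffineOpen U), (((p ⁻¹ᵁ U : P.Opens) : Scheme.{u}) ≅ Proj (𝒮.deg U hU)))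
  {P' : Scheme.{u}} {p' : P' ⟶ S'}
  (chart' : ∀ (U : S'.Opens) (hU : IsAffineOpen U), (((p' ⁻¹ᵁ U : P'.Opens) : Scheme.{u}) ≅ Proj (𝒮'.deg U hU)))

/-- The standard piece of the induced morphism. -/
def piece {U : S.Opens} {hU : IsAffineOpen U} {U' : S'.Opens} {hU' : IsAffineOpen U'}
    (χ : 𝒮.deg U hU →+*ᵍ 𝒮'.deg U' hU') {d : ℕ} (hd : 0 < d) (f : 𝒮.presheaf.obj (op U))
    (hf : f ∈ 𝒮.deg U hU d) : Piece P' P where
  T := Spec (.of (Away (𝒮'.deg U' hU') (χ f)))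
  c := RelQuot.stdChart chart' U' hU' hd (χ f) (χ.map_mem hf)
  v := Spec.map (CommRingCat.ofHom (Away.map χ f)) ≫ RelQuot.stdChart chart U hU hd f hf

variable {chart chart'}

theorem range_piece {U : S.Opens} {hU : IsAffineOpen U} {U' : S'.Opens} {hU' : IsAffineOpen U'}
    (χ : 𝒮.deg U hU →+*ᵍ 𝒮'.deg U' hU') {d : ℕ} (hd : 0 < d) (f : 𝒮.presheaf.obj (op U))
    (hf : f ∈ 𝒮.deg U hU d) :
    Set.range (piece chart chart' χ hd f hf).c = (pbasic chart' U' hU' (χ f) : Set P') :=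
  range_stdChart hU' hd _ _

theorem Below.of_res_right (hP' : RelProj.IsRelProj 𝒮' p' chart') {U : S.Opens} {hU : IsAffineOpen U}
    {U' W' : S'.Opens} {hU' : IsAffineOpen U'} {hW' : IsAffineOpen W'}
    (χ : 𝒮.deg U hU →+*ᵍ 𝒮'.deg U' hU') (χ' : 𝒮.deg U hU →+*ᵍ 𝒮'.deg W' hW') (i : W' ≤ U')
    (e : χ' = (𝒮'.res hU' hW' i).comp χ) {d : ℕ} (hd : 0 < d) (f : 𝒮.presheaf.obj (op U))
    (hf : f ∈ 𝒮.deg U hU d) :
    Below (piece chart chart' χ' hd f hf) (piece chart chart' χ hd f hf) := by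
  subst e
  refine ⟨Spec.map (CommRingCat.ofHom (Away.map (𝒮'.res hU' hW' i) (χ f))),
    RelQuot.SpecMap_res_stdChart_of_le hP' hU' hW' i hd (χ f) (χ.map_mem hf), ?_⟩
  simp only [piece]
  rw [RelQuot.awayMap_comp (𝒮'.res hU' hW' i) χ hf, Spec.map_comp_assoc]

theorem Below.of_res_left (hP : RelProj.IsRelProj 𝒮 p chart) {U W : S.Opens} {hU : IsAffineOpen U}
    {hW : IsAffineOpen W} {W' : S'.Opens} {hW' : IsAffineOpen W'}
    (χ : 𝒮.deg U hU →+*ᵍ 𝒮'.deg W' hW') (γ : 𝒮.deg W hW →+*ᵍ 𝒮'.deg W' hW') (i : W ≤ U)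
    (e : χ = γ.comp (𝒮.res hU hW i)) {d : ℕ} (hd : 0 < d) (f : 𝒮.presheaf.obj (op U))
    (hf : f ∈ 𝒮.deg U hU d) :
    Below (piece chart chart' γ hd (𝒮.res hU hW i f) ((𝒮.res hU hW i).map_mem hf))
      (piece chart chart' χ hd f hf) := by
  subst e
  refine ⟨𝟙 _, Category.id_comp _, (Category.id_comp _).trans ?_⟩
  simp only [piece]
  rw [RelQuot.awayMap_comp γ (𝒮.res hU hW i) hf, Spec.map_comp_assoc,
    RelQuot.SpecMap_res_stdChart_of_le hP hU hW i hd f hf]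

theorem awayMap_awayMap {A B : Type u} [CommRing A] [CommRing B] {𝒜 : ℕ → AddSubgroup A}
    {ℬ : ℕ → AddSubgroup B} [GradedRing 𝒜] [GradedRing ℬ] (χ : 𝒜 →+*ᵍ ℬ) {d e : ℕ} {f g x : A}
    (hf : f ∈ 𝒜 d) (hg : g ∈ 𝒜 e) (hx : x = f * g) (hx' : χ x = χ f * χ g) :
    CommRingCat.ofHom (Away.map χ f) ≫ CommRingCat.ofHom (awayMap ℬ (χ.map_mem hg) hx') =
      CommRingCat.ofHom (awayMap 𝒜 hg hx) ≫ CommRingCat.ofHom (Away.map χ x) := by
  refine CommRingCat.hom_ext (RingHom.ext fun z => ?_)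
  obtain ⟨n, a, ha, rfl⟩ := z.mk_surjective 𝒜 hf
  simp only [CommRingCat.hom_comp, CommRingCat.hom_ofHom, RingHom.comp_apply]
  rw [Away.map_mk, HomogeneousLocalization.awayMap_mk, HomogeneousLocalization.awayMap_mk, Away.map_mk]
  apply HomogeneousLocalization.val_injective
  simp only [Away.val_mk, map_mul, map_pow]
  rfl

theorem Below.of_mul {U : S.Opens} {hU : IsAffineOpen U} {U' : S'.Opens} {hU' : IsAffineOpen U'}
    (χ : 𝒮.deg U hU →+*ᵍ 𝒮'.deg U' hU') {d e k : ℕ} (hd : 0 < d) (hk : 0 < k)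
    {f g x : 𝒮.presheaf.obj (op U)} (hf : f ∈ 𝒮.deg U hU d) (hg : g ∈ 𝒮.deg U hU e) (hxk : x ∈ 𝒮.deg U hU k)
    (hx : x = f * g) (hke : k = d + e) :
    Below (piece chart chart' χ hk x hxk) (piece chart chart' χ hd f hf) := by
  have hx' : χ x = χ f * χ g := by rw [hx, map_mul]
  refine ⟨Spec.map (CommRingCat.ofHom (awayMap (𝒮'.deg U' hU') (χ.map_mem hg) hx')),
    RelQuot.SpecMap_awayMap_stdChart hU' hd (χ.map_mem hf) (χ.map_mem hg) hx' hke hk (χ.map_mem hxk), ?_⟩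
  simp only [piece]
  rw [← Spec.map_comp_assoc, awayMap_awayMap χ hf hg hx hx', Spec.map_comp_assoc,
    RelQuot.SpecMap_awayMap_stdChart hU hd hf hg hx hke hk hxk]

end pieces

end Groth.Agent.ProjQ
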