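import Groth.Agent.ProjQ.Line

/-!
# `G(u)` for a filtered colimit of graded algebras
-/

universe u

open CategoryTheory CategoryTheory.Limits AlgebraicGeometry TopologicalSpace Opposite HomogeneousLocalization
open scoped HomogeneousIdeal

set_option linter.style.haveILetI false
set_option backward.isDefEq.respectTransparency false
set_option backward.isDefEq.respectTransparency.types false

noncomputable section

namespace Groth.Agent.ProjQ

open Groth.Agent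

variable {Y X PL : Scheme.{u}} {q : X ⟶ Y} {𝒮 : RelProj.QCGrAlg Y} {𝒮L : RelProj.QCGrAlg X}
  {u : RelProj.QGrHom q 𝒮 𝒮L} {pL : PL ⟶ X}
  {chartL : ∀ (U : X.Opens) (hU : IsAffineOpen U), (((pL ⁻¹ᵁ U : PL.Opens) : Scheme.{u}) ≅ Proj (𝒮L.deg U hU))}
  {Λ : Type u} {𝒮i : Λ → RelProj.QCGrAlg Y} {φ : ∀ i, (𝒮i i).toQCAlg ⟶ 𝒮.toQCAlg}
  (hφ : ∀ i, RelProj.IsGradedHom (φ i)) {ui : ∀ i, RelProj.QGrHom q (𝒮i i) 𝒮L}
  (hui : ∀ i (U : Y.Opens), (ui i).app U = (φ i).hom.app (op U) ≫ u.app U)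

include hφ in
theorem exists_lift_deg (hsurj : ∀ (U : Y.Opens), IsAffineOpen U → ∀ x : 𝒮.presheaf.obj (op U),
      ∃ (i : Λ) (y : (𝒮i i).presheaf.obj (op U)), ((φ i).hom.app (op U)).hom y = x)
    {U : Y.Opens} (hU : IsAffineOpen U) {d : ℕ} {a : 𝒮.presheaf.obj (op U)} (ha : a ∈ 𝒮.deg U hU d) :
    ∃ (i : Λ) (b : (𝒮i i).presheaf.obj (op U)), b ∈ (𝒮i i).deg U hU d ∧
      RelProj.gradedHomAt (φ i) (hφ i) U hU b = a := by
  classical
  obtain ⟨i, y, hy⟩ := hsurj U hU a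
  refine ⟨i, _, (DirectSum.decompose ((𝒮i i).deg U hU) y d).2, ?_⟩
  have e : RelProj.gradedHomAt (φ i) (hφ i) U hU y = a := hy
  rw [GradedRingHom.map_directSumDecompose, e, DirectSum.decompose_of_mem_same _ ha]

include hui hφ in
theorem domQ_sub_le (i : Λ) : RelProj.domQ (ui i) pL chartL ≤ RelProj.domQ u pL chartL :=
  fun x hx => by
    obtain ⟨U, hU, V, hV, hle, d, f, hd, hf, hxf⟩ := (mem_domQ (ui i)).1 hx
    have e : (ui i).gradedAt U hU V hV hle f =
        u.gradedAt U hU V hV hle (RelProj.gradedHomAt (φ i) (hφ i) U hU f) := by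
      show ((ui i).app U ≫ 𝒮L.presheaf.map (homOfLE hle).op).hom f = _
      rw [hui i U]
      rfl
    rw [e] at hxf
    exact pbasic_le_domQ u hle hd ((RelProj.gradedHomAt (φ i) (hφ i) U hU).map_mem hf) hxf

include hui hφ in
theorem domQ_eq_iSup (hsurj : ∀ (U : Y.Opens), IsAffineOpen U → ∀ x : 𝒮.presheaf.obj (op U),
      ∃ (i : Λ) (y : (𝒮i i).presheaf.obj (op U)), ((φ i).hom.app (op U)).hom y = x) :
    RelProj.domQ u pL chartL = ⨆ i, RelProj.domQ (ui i) pL chartL := by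
  refine le_antisymm (fun x hx => ?_) (iSup_le (domQ_sub_le hφ hui))
  obtain ⟨U, hU, V, hV, hle, d, a, hd, ha, hxa⟩ := (mem_domQ u).1 hx
  obtain ⟨i, b, hb, rfl⟩ := exists_lift_deg hφ hsurj hU ha
  refine Opens.mem_iSup.2 ⟨i, pbasic_le_domQ (ui i) (hU' := hV) hle hd hb ?_⟩
  have e : (ui i).gradedAt U hU V hV hle b =
      u.gradedAt U hU V hV hle (RelProj.gradedHomAt (φ i) (hφ i) U hU b) := by
    show ((ui i).app U ≫ 𝒮L.presheaf.map (homOfLE hle).op).hom b = _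
    rw [hui i U]
    rfl
  rw [e]
  exact hxa

include hui in
theorem domQ_mono [Preorder Λ] {t : ∀ i j, i ≤ j → ((𝒮i i).toQCAlg ⟶ (𝒮i j).toQCAlg)}
    (ht : ∀ i j (h : i ≤ j), RelProj.IsGradedHom (t i j h)) (hφt : ∀ i j (h : i ≤ j), t i j h ≫ φ j = φ i)
    {i j : Λ} (h : i ≤ j) : RelProj.domQ (ui i) pL chartL ≤ RelProj.domQ (ui j) pL chartL :=
  fun x hx => by
    obtain ⟨U, hU, V, hV, hle, d, f, hd, hf, hxf⟩ := (mem_domQ (ui i)).1 hx
    have e : (ui i).gradedAt U hU V hV hle f =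
        (ui j).gradedAt U hU V hV hle (RelProj.gradedHomAt (t i j h) (ht i j h) U hU f) := by
      show ((ui i).app U ≫ 𝒮L.presheaf.map (homOfLE hle).op).hom f =
        ((ui j).app U ≫ 𝒮L.presheaf.map (homOfLE hle).op).hom (((t i j h).hom.app (op U)).hom f)
      rw [hui i U, hui j U, ← hφt i j h]
      rfl
    rw [e] at hxf
    exact pbasic_le_domQ (ui j) hle hd ((RelProj.gradedHomAt (t i j h) (ht i j h) U hU).map_mem hf) hxf

theorem compactSpace_line [CompactSpace Y] [QuasiCompact q] {L : X.Modules} (hL : PicF.IsInvertible L)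
    (hLq : Coh.IsQCoh L) {j : L ⟶ 𝒮L.toModule} (hj : RelProj.IsGrSymAlg L 𝒮L j)
    (hPL : RelProj.IsRelProj 𝒮L pL chartL) : CompactSpace PL := by
  haveI := isIso_structure hLq hj hPL hL
  exact (QuasiCompact.compactSpace_of_compactSpace (pL ≫ q))

theorem exists_eq_top_of_directed [CompactSpace PL] [Nonempty Λ] (W : Λ → PL.Opens) (h : Directed (· ≤ ·) W)
    (hW : ⨆ i, W i = ⊤) : ∃ i, W i = ⊤ := by
  obtain ⟨i, hi⟩ := isCompact_univ.elim_directed_cover (fun i => (W i : Set PL)) (fun i => (W i).2)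
    (by rw [← Opens.coe_iSup, hW]; exact subset_rfl) h
  exact ⟨i, top_unique hi⟩

end Groth.Agent.ProjQ
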