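import Groth.Agent.ProjQ.Props
import Groth.Agent.Proj16.Map
import Mathlib.AlgebraicGeometry.Morphisms.UnderlyingMap

/-!
# When is `Proj(u)` dominant
-/

universe u

open CategoryTheory CategoryTheory.Limits AlgebraicGeometry TopologicalSpace Opposite HomogeneousLocalization
open scoped HomogeneousIdeal

set_option linter.style.haveILetI false
set_option backward.isDefEq.respectTransparency false
set_option backward.isDefEq.respectTransparency.types false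

noncomputable section

namespace Groth.Agent.ProjQ

open Groth.Agent

variable {S S' : Scheme.{u}} {g : S' ⟶ S} {𝒮 : RelProj.QCGrAlg S} {𝒮' : RelProj.QCGrAlg S'}
  (u : RelProj.QGrHom g 𝒮 𝒮')
  {P : Scheme.{u}} {p : P ⟶ S}
  {chart : ∀ (U : S.Opens) (hU : IsAffineOpen U), (((p ⁻¹ᵁ U : P.Opens) : Scheme.{u}) ≅ Proj (𝒮.deg U hU))}
  {P' : Scheme.{u}} {p' : P' ⟶ S'}
  {chart' : ∀ (U : S'.Opens) (hU : IsAffineOpen U), (((p' ⁻¹ᵁ U : P'.Opens) : Scheme.{u}) ≅ Proj (𝒮'.deg U hU))}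

theorem nonempty_pbasic_iff {U : S.Opens} (hU : IsAffineOpen U) {d : ℕ} (hd : 0 < d)
    {a : 𝒮.presheaf.obj (op U)} (ha : a ∈ 𝒮.deg U hU d) :
    (pbasic chart U hU a : Set P).Nonempty ↔ ¬ IsNilpotent a := by
  constructor
  · rintro ⟨x, hx⟩ ⟨N, hN⟩
    obtain ⟨w, rfl⟩ := exists_emb (chart := chart) hU (pbasic_le hx)
    exact emb_mem_pbasic.1 hx (w.isPrime.mem_of_pow_mem N (hN ▸ zero_mem _))
  · intro h
    obtain ⟨w, -, hw⟩ := Proj16.exists_point (𝒮.deg U hU) (Ideal.IsHomogeneous.bot (𝒮.deg U hU)) hd ha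
      (by rwa [← mem_nilradical, nilradical, Ideal.zero_eq_bot] at h)
    exact ⟨RelProj.emb p chart U hU w, emb_mem_pbasic.2 hw⟩

theorem exists_pbasic_subset {O : Set P} (hO : IsOpen O) {y : P} (hy : y ∈ O) :
    ∃ (U : S.Opens) (hU : IsAffineOpen U) (d : ℕ) (f : 𝒮.presheaf.obj (op U)), 0 < d ∧ f ∈ 𝒮.deg U hU d ∧
      y ∈ pbasic chart U hU f ∧ (pbasic chart U hU f : Set P) ⊆ O := by
  obtain ⟨U, hU, hyU, -⟩ := exists_affine_le (show p y ∈ (⊤ : S.Opens) from trivial)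
  obtain ⟨w, rfl⟩ := exists_emb (chart := chart) hU hyU
  obtain ⟨d, f, hd, hf, hwf, hsub⟩ := Proj16.exists_basicOpen_subset
    (hO.preimage (RelProj.emb p chart U hU).continuous) hy
  refine ⟨U, hU, d, f, hd, hf, ⟨w, hwf, rfl⟩, ?_⟩
  rintro _ ⟨v, hv, rfl⟩
  exact hsub hv

variable {v : ((RelProj.domQ u p' chart' : P'.Opens) : Scheme.{u}) ⟶ P}
  (hP : RelProj.IsRelProj 𝒮 p chart) (hP' : RelProj.IsRelProj 𝒮' p' chart')
  (hv : RelProj.IsProjQMapOn u p chart p' chart' (RelProj.domQ u p' chart') v)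

include hP hP' hv in
/-- `Proj(u)` is dominant iff no `u(a)` of a non-nilpotent `a` is locally empty. -/
theorem isDominant_iff_pbasic :
    IsDominant v ↔ ∀ (U : S.Opens) (hU : IsAffineOpen U) (d : ℕ) (a : 𝒮.presheaf.obj (op U)), 0 < d →
      a ∈ 𝒮.deg U hU d → ¬ IsNilpotent a → ∃ (U' : S'.Opens) (hU' : IsAffineOpen U') (hle : U' ≤ g ⁻¹ᵁ U)
        (x : P'), x ∈ pbasic chart' U' hU' (u.gradedAt U hU U' hU' hle a) := by
  constructor
  · intro hdom U hU d a hd ha hne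
    obtain ⟨x, hy⟩ := hdom.denseRange.exists_mem_open (pbasic chart U hU a).2
      ((nonempty_pbasic_iff (chart := chart) hU hd ha).2 hne)
    obtain ⟨U', hU', hxU', hle⟩ := exists_affine_le (show p' x.1 ∈ g ⁻¹ᵁ U by
      show g (p' x.1) ∈ U
      rw [← apply_mem_base u hP hP' hv x]
      exact pbasic_le hy)
    exact ⟨U', hU', hle, x.1, (apply_mem_iff u hP hP' hv x hU hU' hle hxU' hd a ha).1 hy⟩
  · intro h
    refine ⟨dense_iff_inter_open.2 fun O hO ⟨y, hy⟩ => ?_⟩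
    obtain ⟨U, hU, d, a, hd, ha, hya, hsub⟩ := exists_pbasic_subset (chart := chart) hO hy
    obtain ⟨U', hU', hle, x, hx⟩ := h U hU d a hd ha ((nonempty_pbasic_iff (chart := chart) hU hd ha).1 ⟨y, hya⟩)
    exact ⟨v ⟨x, pbasic_le_domQ u hle hd ha hx⟩,
      hsub ((apply_mem_iff u hP hP' hv ⟨x, pbasic_le_domQ u hle hd ha hx⟩ hU hU' hle (pbasic_le hx) hd a ha).2 hx),
      ⟨x, pbasic_le_domQ u hle hd ha hx⟩, rfl⟩

end Groth.Agent.ProjQ
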