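import Groth.Agent.ProjQ.Colim
import Groth.Agent.ProjQ.Dense

/-!
# Dominance of `Proj(u)` for a filtered colimit
-/

universe u

open CategoryTheory CategoryTheory.Limits AlgebraicGeometry TopologicalSpace Opposite HomogeneousLocalization
open scoped HomogeneousIdeal

set_option linter.style.haveILetI false
set_option backward.isDefEq.respectTransparency false
set_option backward.isDefEq.respectTransparency.types false

noncomputable section

namespace Groth.Agent.ProjQ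

open Groth.Agent

variable {Y X PL P : Scheme.{u}} {q : X ⟶ Y} {𝒮 : RelProj.QCGrAlg Y} {𝒮L : RelProj.QCGrAlg X}
  {u : RelProj.QGrHom q 𝒮 𝒮L} {pL : PL ⟶ X}
  {chartL : ∀ (U : X.Opens) (hU : IsAffineOpen U), (((pL ⁻¹ᵁ U : PL.Opens) : Scheme.{u}) ≅ Proj (𝒮L.deg U hU))}
  {p : P ⟶ Y} {chart : ∀ (U : Y.Opens) (hU : IsAffineOpen U), (((p ⁻¹ᵁ U : P.Opens) : Scheme.{u}) ≅ Proj (𝒮.deg U hU))}
  {Λ : Type u} {𝒮i : Λ → RelProj.QCGrAlg Y} {φ : ∀ i, (𝒮i i).toQCAlg ⟶ 𝒮.toQCAlg}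
  {ui : ∀ i, RelProj.QGrHom q (𝒮i i) 𝒮L} {Pi : Λ → Scheme.{u}} {pi : ∀ i, Pi i ⟶ Y}
  {charti : ∀ i (U : Y.Opens) (hU : IsAffineOpen U),
    ((((pi i) ⁻¹ᵁ U : (Pi i).Opens) : Scheme.{u}) ≅ Proj ((𝒮i i).deg U hU))}

theorem ui_gradedAt (hφ : ∀ i, RelProj.IsGradedHom (φ i))
    (hui : ∀ i (U : Y.Opens), (ui i).app U = (φ i).hom.app (op U) ≫ u.app U) (i : Λ)
    {U : Y.Opens} (hU : IsAffineOpen U) {V : X.Opens} (hV : IsAffineOpen V) (hle : V ≤ q ⁻¹ᵁ U)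
    (b : (𝒮i i).presheaf.obj (op U)) :
    (ui i).gradedAt U hU V hV hle b = u.gradedAt U hU V hV hle (RelProj.gradedHomAt (φ i) (hφ i) U hU b) := by
  show ((ui i).app U ≫ 𝒮L.presheaf.map (homOfLE hle).op).hom b = _
  rw [hui i U]
  rfl

variable (hP : RelProj.IsRelProj 𝒮 p chart) (hPL : RelProj.IsRelProj 𝒮L pL chartL)
  (hPi : ∀ i, RelProj.IsRelProj (𝒮i i) (pi i) (charti i))
  {r : ((RelProj.domQ u pL chartL : PL.Opens) : Scheme.{u}) ⟶ P}
  (hr : RelProj.IsProjQMapOn u p chart pL chartL (RelProj.domQ u pL chartL) r)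
  {ri : ∀ i, ((RelProj.domQ (ui i) pL chartL : PL.Opens) : Scheme.{u}) ⟶ Pi i}
  (hri : ∀ i, RelProj.IsProjQMapOn (ui i) (pi i) (charti i) pL chartL (RelProj.domQ (ui i) pL chartL) (ri i))
  (hφ : ∀ i, RelProj.IsGradedHom (φ i))
  (hui : ∀ i (U : Y.Opens), (ui i).app U = (φ i).hom.app (op U) ≫ u.app U)

include hP hPL hPi hr hri hφ hui in
theorem isDominant_colim (hsurj : ∀ (U : Y.Opens), IsAffineOpen U → ∀ x : 𝒮.presheaf.obj (op U),
      ∃ (i : Λ) (y : (𝒮i i).presheaf.obj (op U)), ((φ i).hom.app (op U)).hom y = x)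
    (h : ∀ i, IsDominant (ri i)) : IsDominant r := by
  rw [isDominant_iff_pbasic u hP hPL hr]
  intro U hU d a hd ha hne
  obtain ⟨i, b, hb, rfl⟩ := exists_lift_deg hφ hsurj hU ha
  obtain ⟨V, hV, hle, x, hx⟩ := (isDominant_iff_pbasic (ui i) (hPi i) hPL (hri i)).1 (h i) U hU d b hd hb
    fun hn => hne (hn.map _)
  rw [ui_gradedAt hφ hui i hU hV hle b] at hx
  exact ⟨V, hV, hle, x, hx⟩

include hP hPL hPi hr hri hφ hui in
theorem isDominant_of_colim (hinj : ∀ i (U : Y.Opens), IsAffineOpen U → Function.Injective ((φ i).hom.app (op U)).hom)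
    (h : IsDominant r) (i : Λ) : IsDominant (ri i) := by
  rw [isDominant_iff_pbasic (ui i) (hPi i) hPL (hri i)]
  intro U hU d b hd hb hne
  obtain ⟨V, hV, hle, x, hx⟩ := (isDominant_iff_pbasic u hP hPL hr).1 h U hU d
    (RelProj.gradedHomAt (φ i) (hφ i) U hU b) hd
    ((RelProj.gradedHomAt (φ i) (hφ i) U hU).map_mem hb)
    fun hn => hne ((IsNilpotent.map_iff (f := ((φ i).hom.app (op U)).hom) (hinj i U hU)).1 hn)
  rw [← ui_gradedAt hφ hui i hU hV hle b] at hx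
  exact ⟨V, hV, hle, x, hx⟩

end Groth.Agent.ProjQ
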