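import Groth.Agent.ProjQ.SameBase

/-!
# `Proj` of a composite of graded homomorphisms
-/

universe u

open CategoryTheory CategoryTheory.Limits AlgebraicGeometry TopologicalSpace Opposite HomogeneousLocalization
open scoped HomogeneousIdeal

set_option linter.style.haveILetI false
set_option backward.isDefEq.respectTransparency false
set_option backward.isDefEq.respectTransparency.types false

noncomputable section

namespace Groth.Agent.ProjQ

open Groth.Agent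

variable {Y X : Scheme.{u}} {g : X ⟶ Y} {𝒯 𝒮 : RelProj.QCGrAlg Y} {𝒮' : RelProj.QCGrAlg X}
  (φ : 𝒯.toQCAlg ⟶ 𝒮.toQCAlg) (hφ : RelProj.IsGradedHom φ)
  (u : RelProj.QGrHom g 𝒮 𝒮') (u' : RelProj.QGrHom g 𝒯 𝒮')
  {P : Scheme.{u}} {p : P ⟶ Y}
  {chart : ∀ (U : Y.Opens) (hU : IsAffineOpen U), (((p ⁻¹ᵁ U : P.Opens) : Scheme.{u}) ≅ Proj (𝒮.deg U hU))}
  {PT : Scheme.{u}} {pT : PT ⟶ Y}
  {chartT : ∀ (U : Y.Opens) (hU : IsAffineOpen U), (((pT ⁻¹ᵁ U : PT.Opens) : Scheme.{u}) ≅ Proj (𝒯.deg U hU))}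
  {P' : Scheme.{u}} {p' : P' ⟶ X}
  {chart' : ∀ (U : X.Opens) (hU : IsAffineOpen U), (((p' ⁻¹ᵁ U : P'.Opens) : Scheme.{u}) ≅ Proj (𝒮'.deg U hU))}
  (hu' : ∀ U : Y.Opens, u'.app U = φ.hom.app (op U) ≫ u.app U)

include hu' in
theorem gradedAt_comp (U : Y.Opens) (hU : IsAffineOpen U) (U' : X.Opens) (hU' : IsAffineOpen U')
    (hle : U' ≤ g ⁻¹ᵁ U) :
    u'.gradedAt U hU U' hU' hle = (u.gradedAt U hU U' hU' hle).comp (RelProj.gradedHomAt φ hφ U hU) := by
  ext x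
  show ((u'.app U ≫ 𝒮'.presheaf.map (homOfLE hle).op).hom) x = _
  rw [hu' U]
  rfl

include hu' in
theorem gradedAt_comp_apply (U : Y.Opens) (hU : IsAffineOpen U) (U' : X.Opens) (hU' : IsAffineOpen U')
    (hle : U' ≤ g ⁻¹ᵁ U) (x : 𝒯.presheaf.obj (op U)) :
    u'.gradedAt U hU U' hU' hle x = u.gradedAt U hU U' hU' hle (RelProj.gradedHomAt φ hφ U hU x) :=
  congr($(gradedAt_comp φ hφ u u' hu' U hU U' hU' hle) x)

include hφ hu' in
theorem domQ_comp_le : RelProj.domQ u' p' chart' ≤ RelProj.domQ u p' chart' := fun x hx => by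
  obtain ⟨U, hU, U', hU', hle, d, f, hd, hf, hxf⟩ := (mem_domQ u').1 hx
  rw [gradedAt_comp_apply φ hφ u u' hu'] at hxf
  exact (mem_domQ u).2 ⟨U, hU, U', hU', hle, d, _, hd, (RelProj.gradedHomAt φ hφ U hU).map_mem hf, hxf⟩

variable (hP : RelProj.IsRelProj 𝒮 p chart) (hP' : RelProj.IsRelProj 𝒮' p' chart')
  {r : ((RelProj.domQ u p' chart' : P'.Opens) : Scheme.{u}) ⟶ P}
  (hr : RelProj.IsProjQMapOn u p chart p' chart' (RelProj.domQ u p' chart') r)

include hφ hu' hP hP' hr in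
theorem mem_domQ_comp_iff (x : ((RelProj.domQ u p' chart' : P'.Opens) : Scheme.{u})) :
    x.1 ∈ RelProj.domQ u' p' chart' ↔ r x ∈ RelProj.domQ (RelProj.QGrHom.ofHom φ hφ) p chart := by
  constructor
  · intro h
    obtain ⟨U, hU, U', hU', hle, d, f, hd, hf, hxf⟩ := (mem_domQ u').1 h
    rw [gradedAt_comp_apply φ hφ u u' hu'] at hxf
    have h1 := (apply_mem_iff u hP hP' hr x hU hU' hle (pbasic_le hxf) hd (RelProj.gradedHomAt φ hφ U hU f)
      ((RelProj.gradedHomAt φ hφ U hU).map_mem hf)).2 hxf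
    exact (mem_domQ_ofHom_iff φ hφ hP hU (pbasic_le h1)).2 ⟨d, f, hd, hf, h1⟩
  · intro h
    obtain ⟨U, hU, hxU, -⟩ := exists_affine_le (show g (p' x.1) ∈ (⊤ : Y.Opens) from trivial)
    obtain ⟨U', hU', hxU', hle⟩ := exists_affine_le (show p' x.1 ∈ g ⁻¹ᵁ U from hxU)
    obtain ⟨d, f, hd, hf, hxf⟩ := (mem_domQ_ofHom_iff φ hφ hP hU
      (show p (r x) ∈ U by rw [apply_mem_base u hP hP' hr x]; exact hxU)).1 h
    have h1 := (apply_mem_iff u hP hP' hr x hU hU' hle hxU' hd (RelProj.gradedHomAt φ hφ U hU f)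
      ((RelProj.gradedHomAt φ hφ U hU).map_mem hf)).1 hxf
    rw [← gradedAt_comp_apply φ hφ u u' hu'] at h1
    exact (mem_domQ u').2 ⟨U, hU, U', hU', hle, d, f, hd, hf, h1⟩

theorem compMor_range :
    Set.range (P'.homOfLE (domQ_comp_le φ hφ u u' hu' (p' := p') (chart' := chart')) ≫ r) ⊆
      Set.range (RelProj.domQ (RelProj.QGrHom.ofHom φ hφ) p chart).ι ↔
    ∀ x : ((RelProj.domQ u' p' chart' : P'.Opens) : Scheme.{u}),
      r (P'.homOfLE (domQ_comp_le φ hφ u u' hu' (p' := p') (chart' := chart')) x) ∈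
        RelProj.domQ (RelProj.QGrHom.ofHom φ hφ) p chart := by
  rw [Scheme.Opens.range_ι, Set.range_subset_iff]
  rfl

/-- `r` from `G(u ∘ φ)` into `G(φ)`. -/
def compMor : ((RelProj.domQ u' p' chart' : P'.Opens) : Scheme.{u}) ⟶
    (RelProj.domQ (RelProj.QGrHom.ofHom φ hφ) p chart : P.Opens) :=
  IsOpenImmersion.lift (RelProj.domQ (RelProj.QGrHom.ofHom φ hφ) p chart).ι
    (P'.homOfLE (domQ_comp_le φ hφ u u' hu') ≫ r)
    ((compMor_range φ hφ u u' hu').2 fun x => (mem_domQ_comp_iff φ hφ u u' hu' hP hP' hr _).1 (by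
      rw [Scheme.homOfLE_apply]; exact x.2))

theorem compMor_ι :
    compMor φ hφ u u' hu' hP hP' hr ≫ (RelProj.domQ (RelProj.QGrHom.ofHom φ hφ) p chart).ι =
      P'.homOfLE (domQ_comp_le φ hφ u u' hu') ≫ r :=
  IsOpenImmersion.lift_fac _ _ _

variable {Φ : ((RelProj.domQ (RelProj.QGrHom.ofHom φ hφ) p chart : P.Opens) : Scheme.{u}) ⟶ PT}
  (hΦ : RelProj.IsProjQMapOn (RelProj.QGrHom.ofHom φ hφ) pT chartT p chart
    (RelProj.domQ (RelProj.QGrHom.ofHom φ hφ) p chart) Φ)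
  {r' : ((RelProj.domQ u' p' chart' : P'.Opens) : Scheme.{u}) ⟶ PT}
  (hr' : RelProj.IsProjQMapOn u' pT chartT p' chart' (RelProj.domQ u' p' chart') r')

include hΦ in
theorem lift_ofHom_piece {U : Y.Opens} {hU : IsAffineOpen U} (χ : 𝒯.deg U hU →+*ᵍ 𝒮.deg U hU)
    (hχ : χ = (RelProj.QGrHom.ofHom φ hφ).gradedAt U hU U hU le_rfl) {d : ℕ} (hd : 0 < d)
    (f : 𝒯.presheaf.obj (op U)) (hf : f ∈ 𝒯.deg U hU d)
    (h : Set.range (piece chartT chart χ hd f hf).c ⊆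
      Set.range (RelProj.domQ (RelProj.QGrHom.ofHom φ hφ) p chart).ι) :
    IsOpenImmersion.lift (RelProj.domQ (RelProj.QGrHom.ofHom φ hφ) p chart).ι (piece chartT chart χ hd f hf).c h ≫ Φ =
      (piece chartT chart χ hd f hf).v := by
  subst hχ
  exact hΦ U hU U hU le_rfl d hd f hf h

include hr hΦ in
theorem comp_piece {U : Y.Opens} {hU : IsAffineOpen U} {U' : X.Opens} {hU' : IsAffineOpen U'} (hle : U' ≤ g ⁻¹ᵁ U)
    (χ : 𝒯.deg U hU →+*ᵍ 𝒮'.deg U' hU')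
    (hχ : χ = (u.gradedAt U hU U' hU' hle).comp (RelProj.gradedHomAt φ hφ U hU)) {d : ℕ} (hd : 0 < d)
    (f : 𝒯.presheaf.obj (op U)) (hf : f ∈ 𝒯.deg U hU d)
    (h : Set.range (piece chartT chart' χ hd f hf).c ⊆ Set.range (RelProj.domQ u' p' chart').ι) :
    IsOpenImmersion.lift (RelProj.domQ u' p' chart').ι (piece chartT chart' χ hd f hf).c h ≫
      compMor φ hφ u u' hu' hP hP' hr ≫ Φ = (piece chartT chart' χ hd f hf).v := by
  subst hχ
  let k : Idx (g := g) (𝒮 := 𝒮) :=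
    ⟨U, hU, U', hU', hle, d, hd, RelProj.gradedHomAt φ hφ U hU f, (RelProj.gradedHomAt φ hφ U hU).map_mem hf⟩
  have hjr : Set.range (piece chartT chart (RelProj.gradedHomAt φ hφ U hU) hd f hf).c ⊆
      Set.range (RelProj.domQ (RelProj.QGrHom.ofHom φ hφ) p chart).ι := by
    rw [range_piece, Scheme.Opens.range_ι]
    intro z hz
    exact (mem_domQ_ofHom_iff φ hφ hP hU (pbasic_le hz)).2 ⟨d, f, hd, hf, hz⟩
  have e : IsOpenImmersion.lift (RelProj.domQ u' p' chart').ι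
      (piece chartT chart' ((u.gradedAt U hU U' hU' hle).comp (RelProj.gradedHomAt φ hφ U hU)) hd f hf).c h ≫
      compMor φ hφ u u' hu' hP hP' hr =
      Spec.map (CommRingCat.ofHom (Away.map (u.gradedAt U hU U' hU' hle) (RelProj.gradedHomAt φ hφ U hU f))) ≫
        IsOpenImmersion.lift (RelProj.domQ (RelProj.QGrHom.ofHom φ hφ) p chart).ι
          (piece chartT chart (RelProj.gradedHomAt φ hφ U hU) hd f hf).c hjr := by
    rw [← cancel_mono (RelProj.domQ (RelProj.QGrHom.ofHom φ hφ) p chart).ι, Category.assoc, Category.assoc,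
      compMor_ι, IsOpenImmersion.lift_fac, ← Category.assoc]
    have e2 : IsOpenImmersion.lift (RelProj.domQ u' p' chart').ι
        (piece chartT chart' ((u.gradedAt U hU U' hU' hle).comp (RelProj.gradedHomAt φ hφ U hU)) hd f hf).c h ≫
        P'.homOfLE (domQ_comp_le φ hφ u u' hu') = idxLift u chart chart' k := by
      rw [← cancel_mono (RelProj.domQ u p' chart').ι, Category.assoc, Scheme.homOfLE_ι, IsOpenImmersion.lift_fac,
        idxLift_ι]
      rfl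
    rw [e2, (isProjQMapOn_iff u r).1 hr k]
    rfl
  rw [reassoc_of% e, lift_ofHom_piece φ hφ hΦ _ (ofHom_gradedAt_self φ hφ U hU).symm hd f hf hjr]
  show Spec.map _ ≫ Spec.map _ ≫ _ = Spec.map _ ≫ _
  rw [RelQuot.awayMap_comp (u.gradedAt U hU U' hU' hle) (RelProj.gradedHomAt φ hφ U hU) hf, Spec.map_comp_assoc]

include hΦ hr' in
theorem compMor_comp : compMor φ hφ u u' hu' hP hP' hr ≫ Φ = r' := by
  refine (domCover u' chartT chart').hom_ext _ _ fun i => ?_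
  show idxLift u' chartT chart' i ≫ _ = idxLift u' chartT chart' i ≫ _
  rw [(isProjQMapOn_iff u' r').1 hr' i]
  exact comp_piece φ hφ u u' hu' hP hP' hr hΦ i.hle (u'.gradedAt i.U i.hU i.U' i.hU' i.hle)
    (gradedAt_comp φ hφ u u' hu' i.U i.hU i.U' i.hU' i.hle) i.hd i.f i.hf _

end Groth.Agent.ProjQ
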