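import Groth.Agent.ProjQ.LineLocus

/-!
# When `r_{L,ψ}` is an immersion
-/

universe u

open CategoryTheory CategoryTheory.Limits AlgebraicGeometry TopologicalSpace Opposite HomogeneousLocalization
open scoped HomogeneousIdeal

set_option linter.style.haveILetI false
set_option backward.isDefEq.respectTransparency false
set_option backward.isDefEq.respectTransparency.types false

noncomputable section

namespace Groth.Agent.ProjQ

open Groth.Agent

section pieces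

variable {Z P : Scheme.{u}}

theorem isPullback_lift {T C : Scheme.{u}} {a : T ⟶ C} {b : T ⟶ Z} {c : C ⟶ P} [IsOpenImmersion c] {r : Z ⟶ P}
    (h : IsPullback a b c r) (W : P.Opens) (hc : Set.range c ⊆ Set.range W.ι) (r' : Z ⟶ (W : Scheme.{u}))
    (hr' : r' ≫ W.ι = r) : IsPullback a b (IsOpenImmersion.lift W.ι c hc) r' := by
  refine IsPullback.mk' ?_ (fun S φ φ' h1 h2 => h.hom_ext h1 h2) fun S x y hxy => ?_
  · rw [← cancel_mono W.ι, Category.assoc, Category.assoc, IsOpenImmersion.lift_fac, hr']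
    exact h.w
  · have hxy' : x ≫ c = y ≫ r := by
      have := congrArg (· ≫ W.ι) hxy
      simpa [IsOpenImmersion.lift_fac, hr'] using this
    exact ⟨h.lift x y hxy', h.lift_fst _ _ _, h.lift_snd _ _ _⟩

/-- A morphism covered by chart squares factors through the union of the charts. -/
theorem exists_factor_of_pieces (Pr : MorphismProperty Scheme.{u}) [IsZariskiLocalAtTarget Pr] (r : Z ⟶ P)
    {ι : Type u} {C T : ι → Scheme.{u}} (c : ∀ i, C i ⟶ P) [∀ i, IsOpenImmersion (c i)] (a : ∀ i, T i ⟶ C i)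
    (b : ∀ i, T i ⟶ Z) (sq : ∀ i, IsPullback (a i) (b i) (c i) r) (ha : ∀ i, Pr (a i))
    (hcov : ∀ z : Z, ∃ i, r z ∈ Set.range (c i)) :
    ∃ r' : Z ⟶ ((⨆ i, (c i).opensRange : P.Opens) : Scheme.{u}),
      r' ≫ (⨆ i, (c i).opensRange).ι = r ∧ Pr r' := by
  let W : P.Opens := ⨆ i, (c i).opensRange
  have hr : Set.range r ⊆ Set.range W.ι := by
    rintro _ ⟨z, rfl⟩
    rw [Scheme.Opens.range_ι]
    obtain ⟨i, hi⟩ := hcov z
    exact Opens.mem_iSup.2 ⟨i, hi⟩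
  let r' := IsOpenImmersion.lift W.ι r hr
  have hr' : r' ≫ W.ι = r := IsOpenImmersion.lift_fac _ _ _
  have hc : ∀ i, Set.range (c i) ⊆ Set.range W.ι := fun i => by
    rw [Scheme.Opens.range_ι]
    rintro x hx
    exact Opens.mem_iSup.2 ⟨i, hx⟩
  refine ⟨r', hr', ?_⟩
  let 𝒬 : W.toScheme.OpenCover := Scheme.Cover.mkOfCovers ι C (fun i => IsOpenImmersion.lift W.ι (c i) (hc i))
    (fun x => by
      obtain ⟨i, z, hz⟩ := Opens.mem_iSup.1 x.2
      refine ⟨i, z, W.ι.isOpenEmbedding.injective ?_⟩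
      rw [← Scheme.Hom.comp_apply, IsOpenImmersion.lift_fac]
      exact hz)
    (fun i => by
      haveI : IsOpenImmersion (IsOpenImmersion.lift W.ι (c i) (hc i) ≫ W.ι) := by
        rw [IsOpenImmersion.lift_fac]; infer_instance
      exact IsOpenImmersion.of_comp (IsOpenImmersion.lift W.ι (c i) (hc i)) W.ι)
  refine IsZariskiLocalAtTarget.of_openCover 𝒬 fun i => ?_
  change Pr (pullback.snd r' (IsOpenImmersion.lift W.ι (c i) (hc i)))
  rw [← (isPullback_lift (sq i) W (hc i) r' hr').flip.isoPullback_inv_snd]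
  exact (MorphismProperty.cancel_left_of_respectsIso Pr _ _).mpr (ha i)

end pieces

variable {Y X : Scheme.{u}} {q : X ⟶ Y} {L : X.Modules} {𝒮 : RelProj.QCGrAlg Y} {𝒮L : RelProj.QCGrAlg X}
  {j : L ⟶ 𝒮L.toModule} (u : RelProj.QGrHom q 𝒮 𝒮L)
  {P : Scheme.{u}} {p : P ⟶ Y}
  {chart : ∀ (U : Y.Opens) (hU : IsAffineOpen U), (((p ⁻¹ᵁ U : P.Opens) : Scheme.{u}) ≅ Proj (𝒮.deg U hU))}
  {PL : Scheme.{u}} {pL : PL ⟶ X}
  {chartL : ∀ (U : X.Opens) (hU : IsAffineOpen U), (((pL ⁻¹ᵁ U : PL.Opens) : Scheme.{u}) ≅ Proj (𝒮L.deg U hU))}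
  (hY : IsAffineOpen (⊤ : Y.Opens))
  (hL : PicF.IsInvertible L) (hLq : Coh.IsQCoh L) (hj : RelProj.IsGrSymAlg L 𝒮L j)
  (hPL : RelProj.IsRelProj 𝒮L pL chartL) (hP : RelProj.IsRelProj 𝒮 p chart)
  {r : ((RelProj.domQ u pL chartL : PL.Opens) : Scheme.{u}) ⟶ P}
  (hr : RelProj.IsProjQMapOn u p chart pL chartL (RelProj.domQ u pL chartL) r)
  {n : ℕ} (hn : 0 < n) {s : 𝒮.presheaf.obj (op ⊤)} (hs : s ∈ 𝒮.deg ⊤ hY n)

include hLq hj in
theorem isUnit_coord (a : LineTriv L) (ha : a.1.1 ≤ genOpen (𝒮L := 𝒮L) u n s) {c : Γ(X, a.1.1)}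
    (hc : imgAt u hY a.1.1 a.1.2 s = (𝒮L.str.app (op a.1.1)).hom c * lgen j a ^ n) : IsUnit c :=
  RingedSpace.isUnit_of_isUnit_germ X.toLocallyRingedSpace.toRingedSpace a.1.1 c fun x hx =>
    (X.mem_basicOpen c x hx).1 ((mem_genOpen_iff u hY hLq hj a hc hx).1 (ha hx))

theorem LineTriv.restr_le {U : X.Opens} (a : LineTriv L) (h : a.1.1 ≤ U) : a.1.1 ≤ U := h

include hL in
theorem exists_triv_cover (U : X.Opens) :
    ∀ x ∈ U, ∃ a : {a : LineTriv L // a.1.1 ≤ U}, x ∈ a.1.1.1 := fun x hx => by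
  obtain ⟨a, hxa, ha⟩ := exists_lineTriv_le hL hx
  exact ⟨⟨a, ha⟩, hxa⟩

include hL hLq hj in
/-- Coordinates with respect to a generating section are unique. -/
theorem str_mul_inj {U : X.Opens} (hU : IsAffineOpen U) (hgen : U ≤ genOpen (𝒮L := 𝒮L) u n s)
    (hs : s ∈ 𝒮.deg ⊤ hY n) (m : ℕ) {t t' : Γ(X, U)}
    (h : (𝒮L.str.app (op U)).hom t * imgAt u hY U hU s ^ m = (𝒮L.str.app (op U)).hom t' * imgAt u hY U hU s ^ m) :
    t = t' := by
  refine X.sheaf.eq_of_locally_eq' (fun a : {a : LineTriv L // a.1.1 ≤ U} => a.1.1.1) U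
    (fun a => homOfLE a.2) (fun x hx => Opens.mem_iSup.2 (exists_triv_cover hL U x hx)) t t' fun a => ?_
  show AModX.resR a.2 t = AModX.resR a.2 t'
  obtain ⟨c, hc⟩ := exists_coord_img u hY hLq hj a.1 hs
  have hu := isUnit_coord u hY hLq hj a.1 (a.2.trans hgen) hc
  have h1 := congrArg (𝒮L.res hU a.1.1.2 a.2) h
  rw [map_mul, map_mul, map_pow, ← imgAt_res u hY hU a.1.1.2 a.2, res_str hU a.1.1.2 a.2, res_str hU a.1.1.2 a.2,
    hc, mul_pow, ← map_pow, ← pow_mul, ← mul_assoc, ← mul_assoc, ← map_mul, ← map_mul] at h1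
  exact (hu.pow m).mul_right_cancel (coord_inj hLq hj a.1 _ h1)

variable [IsIso pL]

include hL hLq hj hPL hn hs in
theorem inv_mem_pbasic {x : X} (hx : x ∈ genOpen (𝒮L := 𝒮L) u n s) :
    inv pL x ∈ RelProj.domQ u pL chartL := by
  have h : pL (inv pL x) = x := by rw [← Scheme.Hom.comp_apply, IsIso.inv_hom_id]; rfl
  refine (mem_domQ_line_iff u hY hL hLq hj hPL).2 ⟨n, s, hn, hs, ?_⟩
  rw [h]; exact hx

/-- `U ≅ pL⁻¹ U ⊆ G(ψ)`. -/
def toDom {U : X.Opens} (hU : IsAffineOpen U) (hgen : U ≤ genOpen (𝒮L := 𝒮L) u n s) :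
    Spec Γ(X, U) ⟶ (RelProj.domQ u pL chartL : PL.Opens) :=
  IsOpenImmersion.lift (RelProj.domQ u pL chartL).ι (hU.fromSpec ≫ inv pL) (by
    rw [Scheme.Opens.range_ι]
    rintro _ ⟨z, rfl⟩
    rw [Scheme.Hom.comp_apply]
    exact inv_mem_pbasic u hY hL hLq hj hPL hn hs (hgen (hU.range_fromSpec.le ⟨z, rfl⟩)))

theorem toDom_ι {U : X.Opens} (hU : IsAffineOpen U) (hgen : U ≤ genOpen (𝒮L := 𝒮L) u n s) :
    toDom u hY hL hLq hj hPL hn hs hU hgen ≫ (RelProj.domQ u pL chartL).ι = hU.fromSpec ≫ inv pL :=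
  IsOpenImmersion.lift_fac _ _ _

include hP hr in
theorem range_toDom_comp {U : X.Opens} (hU : IsAffineOpen U) (hgen : U ≤ genOpen (𝒮L := 𝒮L) u n s) :
    Set.range (toDom u hY hL hLq hj hPL hn hs hU hgen ≫ r) ⊆
      Set.range (RelQuot.stdChart chart ⊤ hY hn s hs) := by
  rintro _ ⟨z, rfl⟩
  rw [range_stdChart, Scheme.Hom.comp_apply]
  let x := toDom u hY hL hLq hj hPL hn hs hU hgen z
  have hx : x.1 = inv pL (hU.fromSpec z) := by
    show (RelProj.domQ u pL chartL).ι x = _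
    rw [← Scheme.Hom.comp_apply, toDom_ι, Scheme.Hom.comp_apply]
  have hxU : pL x.1 ∈ U := by
    rw [hx, ← Scheme.Hom.comp_apply, IsIso.inv_hom_id]
    exact hU.range_fromSpec.le ⟨z, rfl⟩
  exact (apply_mem_iff u hP hPL hr x hY hU (le_preimage_top U) hxU hn s hs).2
    ((mem_pbasic_imgAt_iff u hY hL hLq hj hPL hs hU hxU).2 (hgen hxU))

/-- `r` on `U`, in the standard chart. -/
def kmap {U : X.Opens} (hU : IsAffineOpen U) (hgen : U ≤ genOpen (𝒮L := 𝒮L) u n s) :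
    Spec Γ(X, U) ⟶ Spec (.of (Away (𝒮.deg ⊤ hY) s)) :=
  IsOpenImmersion.lift (RelQuot.stdChart chart ⊤ hY hn s hs) (toDom u hY hL hLq hj hPL hn hs hU hgen ≫ r)
    (range_toDom_comp u hY hL hLq hj hPL hP hr hn hs hU hgen)

theorem kmap_stdChart {U : X.Opens} (hU : IsAffineOpen U) (hgen : U ≤ genOpen (𝒮L := 𝒮L) u n s) :
    kmap u hY hL hLq hj hPL hP hr hn hs hU hgen ≫ RelQuot.stdChart chart ⊤ hY hn s hs =
      toDom u hY hL hLq hj hPL hn hs hU hgen ≫ r :=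
  IsOpenImmersion.lift_fac _ _ _

/-- The ring map of `r` on `U`. -/
def theta {U : X.Opens} (hU : IsAffineOpen U) (hgen : U ≤ genOpen (𝒮L := 𝒮L) u n s) :
    CommRingCat.of (Away (𝒮.deg ⊤ hY) s) ⟶ Γ(X, U) :=
  Spec.preimage (kmap u hY hL hLq hj hPL hP hr hn hs hU hgen)

theorem map_theta {U : X.Opens} (hU : IsAffineOpen U) (hgen : U ≤ genOpen (𝒮L := 𝒮L) u n s) :
    Spec.map (theta u hY hL hLq hj hPL hP hr hn hs hU hgen) = kmap u hY hL hLq hj hPL hP hr hn hs hU hgen :=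
  Spec.map_preimage _

theorem theta_res {U V : X.Opens} (hU : IsAffineOpen U) (hV : IsAffineOpen V) (i : V ≤ U)
    (hgen : U ≤ genOpen (𝒮L := 𝒮L) u n s) :
    theta u hY hL hLq hj hPL hP hr hn hs hU hgen ≫ X.presheaf.map (homOfLE i).op =
      theta u hY hL hLq hj hPL hP hr hn hs hV (i.trans hgen) := by
  apply Spec.map_injective
  rw [Spec.map_comp, map_theta, map_theta, ← cancel_mono (RelQuot.stdChart chart ⊤ hY hn s hs), Category.assoc,
    kmap_stdChart, kmap_stdChart, ← Category.assoc]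
  congr 1
  rw [← cancel_mono (RelProj.domQ u pL chartL).ι, Category.assoc, toDom_ι, toDom_ι, ← Category.assoc,
    hU.map_fromSpec hV (homOfLE i).op]

theorem theta_chartStr (a : LineTriv L) (ha : a.1.1 ≤ genOpen (𝒮L := 𝒮L) u n s) :
    theta u hY hL hLq hj hPL hP hr hn hs a.1.2 ha ≫ chartStr a.1.1 a.1.2 (imgAt u hY a.1.1 a.1.2 s) =
      CommRingCat.ofHom (Away.map (u.gradedAt ⊤ hY a.1.1 a.1.2 (le_preimage_top _)) s) := by
  apply Spec.map_injective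
  rw [Spec.map_comp, map_theta, ← cancel_mono (RelQuot.stdChart chart ⊤ hY hn s hs), Category.assoc,
    kmap_stdChart]
  let i : Idx (g := q) (𝒮 := 𝒮) := ⟨⊤, hY, a.1.1, a.1.2, le_preimage_top _, n, hn, s, hs⟩
  show _ = (idxPiece u chart chartL i).v
  rw [← (isProjQMapOn_iff u r).1 hr i, ← Category.assoc]
  congr 1
  rw [← cancel_mono (RelProj.domQ u pL chartL).ι, Category.assoc, toDom_ι, idxLift_ι]
  rw [← cancel_mono pL, Category.assoc, Category.assoc, IsIso.inv_hom_id, Category.comp_id]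
  exact (stdChart_comp hPL a.1.2 hn (imgAt u hY a.1.1 a.1.2 s)
    ((u.gradedAt ⊤ hY a.1.1 a.1.2 (le_preimage_top _)).map_mem hs)).symm

include hL hLq hj in
theorem formula_local (a : LineTriv L) (ha : a.1.1 ≤ genOpen (𝒮L := 𝒮L) u n s) (m : ℕ)
    (x : 𝒮.presheaf.obj (op ⊤)) (hx : x ∈ 𝒮.deg ⊤ hY (m • n)) :
    (𝒮L.str.app (op a.1.1)).hom
        ((theta u hY hL hLq hj hPL hP hr hn hs a.1.2 ha).hom (Away.mk (𝒮.deg ⊤ hY) hs m x hx)) *
      imgAt u hY a.1.1 a.1.2 s ^ m = imgAt u hY a.1.1 a.1.2 x := by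
  obtain ⟨c, hc⟩ := exists_coord_img u hY hLq hj a hs
  obtain ⟨b, hb⟩ := exists_coord_img u hY hLq hj a hx
  have hu := isUnit_coord u hY hLq hj a ha hc
  set t := (theta u hY hL hLq hj hPL hP hr hn hs a.1.2 ha).hom (Away.mk (𝒮.deg ⊤ hY) hs m x hx)
  have h : ((chartStr (𝒜 := 𝒮L) a.1.1 a.1.2 (imgAt u hY a.1.1 a.1.2 s)).hom t).val =
      Localization.mk (imgAt u hY a.1.1 a.1.2 x)
        (⟨imgAt u hY a.1.1 a.1.2 s ^ m, m, rfl⟩ : Submonoid.powers (imgAt u hY a.1.1 a.1.2 s)) := by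
    have h0 := congr(($(theta_chartStr u hY hL hLq hj hPL hP hr hn hs a ha)).hom (Away.mk (𝒮.deg ⊤ hY) hs m x hx))
    refine (congrArg HomogeneousLocalization.val (h0.trans (Away.map_mk (u.gradedAt ⊤ hY a.1.1 a.1.2 (le_preimage_top _)) s hs m x hx))).trans ?_
    exact (Away.val_mk ..)
  rw [show ((chartStr (𝒜 := 𝒮L) a.1.1 a.1.2 (imgAt u hY a.1.1 a.1.2 s)).hom t).val =
      Localization.mk ((𝒮L.str.app (op a.1.1)).hom t) (1 : Submonoid.powers (imgAt u hY a.1.1 a.1.2 s)) from rfl,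
    Localization.mk_eq_mk_iff, Localization.r_iff_exists] at h
  obtain ⟨⟨_, k, rfl⟩, hk⟩ := h
  simp only [OneMemClass.coe_one, one_mul] at hk
  rw [hc, hb, mul_pow, mul_pow, ← map_pow (𝒮L.str.app (op a.1.1)).hom, ← map_pow (𝒮L.str.app (op a.1.1)).hom,
    ← pow_mul, ← pow_mul] at hk
  have hk' : (𝒮L.str.app (op a.1.1)).hom (c ^ k * (c ^ m * t)) * lgen j a ^ (n * k + n * m) =
      (𝒮L.str.app (op a.1.1)).hom (c ^ k * b) * lgen j a ^ (n * k + n * m) := by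
    rw [smul_eq_mul, mul_comm m n] at hk
    rw [map_mul, map_mul, map_mul, pow_add]
    linear_combination hk
  have h1 := (hu.pow k).mul_left_cancel (coord_inj hLq hj a _ hk')
  rw [hc, hb, mul_pow, ← map_pow (𝒮L.str.app (op a.1.1)).hom, ← pow_mul, smul_eq_mul, mul_comm m n, ← h1, map_mul]
  ring

include hL hLq hj in
/-- `θ(x / s^m) · (ψ s)^m = ψ x`. -/
theorem formula {U : X.Opens} (hU : IsAffineOpen U) (hgen : U ≤ genOpen (𝒮L := 𝒮L) u n s) (m : ℕ)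
    (x : 𝒮.presheaf.obj (op ⊤)) (hx : x ∈ 𝒮.deg ⊤ hY (m • n)) :
    (𝒮L.str.app (op U)).hom
        ((theta u hY hL hLq hj hPL hP hr hn hs hU hgen).hom (Away.mk (𝒮.deg ⊤ hY) hs m x hx)) *
      imgAt u hY U hU s ^ m = imgAt u hY U hU x := by
  refine TopCat.Sheaf.eq_of_locally_eq' ⟨𝒮L.presheaf, 𝒮L.isSheaf⟩
    (fun a : {a : LineTriv L // a.1.1 ≤ U} => a.1.1.1) U (fun a => homOfLE a.2)
    (fun z hz => Opens.mem_iSup.2 (exists_triv_cover hL U z hz)) _ _ fun a => ?_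
  show 𝒮L.res hU a.1.1.2 a.2 _ = 𝒮L.res hU a.1.1.2 a.2 _
  rw [map_mul, map_pow, res_str, ← imgAt_res, ← imgAt_res]
  have h := formula_local u hY hL hLq hj hPL hP hr hn hs a.1 (a.2.trans hgen) m x hx
  rwa [← theta_res u hY hL hLq hj hPL hP hr hn hs hU a.1.1.2 a.2 hgen] at h

include hP hr in
/-- The square over `D₊(s)`. -/
theorem isPullback_kmap {U : X.Opens} (hU : IsAffineOpen U) (hgen : U = genOpen (𝒮L := 𝒮L) u n s) :
    IsPullback (kmap u hY hL hLq hj hPL hP hr hn hs hU hgen.le) (toDom u hY hL hLq hj hPL hn hs hU hgen.le)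
      (RelQuot.stdChart chart ⊤ hY hn s hs) r := by
  haveI : IsOpenImmersion (toDom u hY hL hLq hj hPL hn hs hU hgen.le) := by
    haveI : IsOpenImmersion (toDom u hY hL hLq hj hPL hn hs hU hgen.le ≫ (RelProj.domQ u pL chartL).ι) := by
      rw [toDom_ι]; infer_instance
    exact IsOpenImmersion.of_comp _ (RelProj.domQ u pL chartL).ι
  refine IsOpenImmersion.isPullback _ _ _ _ (kmap_stdChart u hY hL hLq hj hPL hP hr hn hs hU hgen.le).symm ?_
  ext x
  simp only [Scheme.Hom.coe_opensRange, Scheme.Hom.coe_preimage, Set.mem_preimage]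
  rw [range_stdChart]
  constructor
  · intro hx
    have h1 : x.1 ∈ (RelProj.domQ u pL chartL).ι ''ᵁ (r ⁻¹ᵁ pbasic chart ⊤ hY s) := ⟨x, hx, rfl⟩
    rw [image_preimage_pbasic_line u hY hL hLq hj hPL hP hr hn hs, ← hgen] at h1
    obtain ⟨z, hz⟩ := hU.range_fromSpec.ge h1
    refine ⟨z, (RelProj.domQ u pL chartL).ι.isOpenEmbedding.injective ?_⟩
    rw [← Scheme.Hom.comp_apply, toDom_ι, Scheme.Hom.comp_apply, hz, ← Scheme.Hom.comp_apply, IsIso.hom_inv_id]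
    rfl
  · rintro ⟨z, rfl⟩
    rw [← range_stdChart hY hn s hs, ← Scheme.Hom.comp_apply]
    exact range_toDom_comp u hY hL hLq hj hPL hP hr hn hs hU hgen.le ⟨z, rfl⟩

end Groth.Agent.ProjQ
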