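import Groth.Agent.ProjQ.ColimDense
import Groth.Agent.ProjQ.Imm
import Groth.Agent.ProjQ.Comp
import Mathlib.AlgebraicGeometry.Morphisms.Immersion

/-!
# Immersions into the `Proj` of a filtered colimit
-/

universe u

open CategoryTheory CategoryTheory.Limits AlgebraicGeometry TopologicalSpace Opposite HomogeneousLocalization
open scoped HomogeneousIdeal

set_option linter.style.haveILetI false
set_option backward.isDefEq.respectTransparency false
set_option backward.isDefEq.respectTransparency.types false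

noncomputable section

namespace Groth.Agent.ProjQ

open Groth.Agent

section ring

/-- Generators of a finitely generated algebra cut out a surjection. -/
theorem surjective_of_gens {O A B : Type u} [CommRing O] [CommRing A] [CommRing B] {f : O →+* B} {g : A →+* B}
    (s : Finset B) (hs : letI := f.toAlgebra; Algebra.adjoin O (s : Set B) = ⊤)
    (hf : ∀ x, f x ∈ g.range) (hg : ∀ y ∈ s, y ∈ g.range) : Function.Surjective g := by
  letI := f.toAlgebra
  intro y
  have hy : y ∈ Algebra.adjoin O (s : Set B) := by rw [hs]; exact Algebra.mem_top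
  induction hy using Algebra.adjoin_induction with
  | mem x hx => exact hg x hx
  | algebraMap x => exact hf x
  | add x x' _ _ hx hx' => exact g.range.add_mem hx hx'
  | mul x x' _ _ hx hx' => exact g.range.mul_mem hx hx'

end ring

variable {Y : Scheme.{u}}

section sameBase

variable {𝒜 ℬ : RelProj.QCGrAlg Y} (φ : 𝒜.toQCAlg ⟶ ℬ.toQCAlg) (hφ : RelProj.IsGradedHom φ)
  {PA PB : Scheme.{u}} {pA : PA ⟶ Y}
  {chartA : ∀ (U : Y.Opens) (hU : IsAffineOpen U), (((pA ⁻¹ᵁ U : PA.Opens) : Scheme.{u}) ≅ Proj (𝒜.deg U hU))}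
  {pB : PB ⟶ Y}
  {chartB : ∀ (U : Y.Opens) (hU : IsAffineOpen U), (((pB ⁻¹ᵁ U : PB.Opens) : Scheme.{u}) ≅ Proj (ℬ.deg U hU))}

theorem chartStr_map (U : Y.Opens) (hU : IsAffineOpen U) (f : 𝒜.presheaf.obj (op U)) :
    chartStr U hU f ≫ CommRingCat.ofHom (Away.map (RelProj.gradedHomAt φ hφ U hU) f) =
      chartStr U hU (RelProj.gradedHomAt φ hφ U hU f) := by
  refine CommRingCat.hom_ext (RingHom.ext fun r => ?_)
  apply HomogeneousLocalization.val_injective
  simp only [chartStr, CommRingCat.hom_comp, CommRingCat.hom_ofHom, RingHom.comp_apply,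
    HomogeneousLocalization.Away.map, HomogeneousLocalization.fromZeroRingHom, RingHom.coe_mk,
    MonoidHom.coe_mk, OneHom.coe_mk, HomogeneousLocalization.map_mk, HomogeneousLocalization.val_mk]
  refine congr_arg₂ Localization.mk ?_ (Subtype.ext (map_one _))
  exact congr((($(φ.comm)).app (op U)).hom r)

theorem exists_isPullback_ofHom (hA : RelProj.IsRelProj 𝒜 pA chartA) (hB : RelProj.IsRelProj ℬ pB chartB)
    {Φ : ((RelProj.domQ (RelProj.QGrHom.ofHom φ hφ) pB chartB : PB.Opens) : Scheme.{u}) ⟶ PA}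
    (hΦ : RelProj.IsProjQMapOn (RelProj.QGrHom.ofHom φ hφ) pA chartA pB chartB
      (RelProj.domQ (RelProj.QGrHom.ofHom φ hφ) pB chartB) Φ)
    {U : Y.Opens} (hU : IsAffineOpen U) {d : ℕ} (hd : 0 < d) (f : 𝒜.presheaf.obj (op U))
    (hf : f ∈ 𝒜.deg U hU d) (a : ℬ.presheaf.obj (op U)) (ha : a ∈ ℬ.deg U hU d)
    (e : RelProj.gradedHomAt φ hφ U hU f = a) :
    ∃ (c : Spec (.of (Away (ℬ.deg U hU) a)) ⟶ (RelProj.domQ (RelProj.QGrHom.ofHom φ hφ) pB chartB : PB.Opens))
      (m : Away (𝒜.deg U hU) f →+* Away (ℬ.deg U hU) a),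
      c ≫ (RelProj.domQ (RelProj.QGrHom.ofHom φ hφ) pB chartB).ι = RelQuot.stdChart chartB U hU hd a ha ∧
      IsPullback (Spec.map (CommRingCat.ofHom m)) c (RelQuot.stdChart chartA U hU hd f hf) Φ ∧
      chartStr U hU f ≫ CommRingCat.ofHom m = chartStr U hU a ∧
      ∀ (n : ℕ) (x : 𝒜.presheaf.obj (op U)) (hx : x ∈ 𝒜.deg U hU (n • d)),
        m (Away.mk _ hf n x hx) =
          Away.mk _ ha n (RelProj.gradedHomAt φ hφ U hU x) ((RelProj.gradedHomAt φ hφ U hU).map_mem hx) := by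
  subst e
  have key : ∀ (χ : 𝒜.deg U hU →+*ᵍ ℬ.deg U hU), χ = RelProj.gradedHomAt φ hφ U hU →
      ∀ (c : Spec (.of (Away (ℬ.deg U hU) (χ f))) ⟶
        (RelProj.domQ (RelProj.QGrHom.ofHom φ hφ) pB chartB : PB.Opens)),
      c ≫ (RelProj.domQ (RelProj.QGrHom.ofHom φ hφ) pB chartB).ι =
        RelQuot.stdChart chartB U hU hd (χ f) (χ.map_mem hf) →
      IsPullback (Spec.map (CommRingCat.ofHom (Away.map χ f))) c (RelQuot.stdChart chartA U hU hd f hf) Φ →
      ∃ c', c' ≫ (RelProj.domQ (RelProj.QGrHom.ofHom φ hφ) pB chartB).ι =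
          RelQuot.stdChart chartB U hU hd (RelProj.gradedHomAt φ hφ U hU f)
            ((RelProj.gradedHomAt φ hφ U hU).map_mem hf) ∧
        IsPullback (Spec.map (CommRingCat.ofHom (Away.map (RelProj.gradedHomAt φ hφ U hU) f))) c'
          (RelQuot.stdChart chartA U hU hd f hf) Φ := by
    rintro _ rfl c h1 h2
    exact ⟨c, h1, h2⟩
  obtain ⟨c, hc, hsq⟩ := key _ (ofHom_gradedAt_self φ hφ U hU) _
    (idxLift_ι (RelProj.QGrHom.ofHom φ hφ) (chart := chartA) (chart' := chartB) ⟨U, hU, U, hU, le_rfl, d, hd, f, hf⟩)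
    (isPullback_piece (RelProj.QGrHom.ofHom φ hφ) hA hB hΦ ⟨U, hU, U, hU, le_rfl, d, hd, f, hf⟩ fun x hx => by
      have := pbasic_le hx
      change pA (Φ x) ∈ U at this
      rwa [apply_mem_base (RelProj.QGrHom.ofHom φ hφ) hA hB hΦ x] at this)
  exact ⟨c, Away.map (RelProj.gradedHomAt φ hφ U hU) f, hc, hsq, chartStr_map φ hφ U hU f,
    fun n x hx => by rw [Away.map_mk]⟩

end sameBase

section colim

variable {X PL P : Scheme.{u}} {q : X ⟶ Y} {𝒮 : RelProj.QCGrAlg Y} {𝒮L : RelProj.QCGrAlg X}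
  {u : RelProj.QGrHom q 𝒮 𝒮L} {pL : PL ⟶ X}
  {chartL : ∀ (U : X.Opens) (hU : IsAffineOpen U), (((pL ⁻¹ᵁ U : PL.Opens) : Scheme.{u}) ≅ Proj (𝒮L.deg U hU))}
  {p : P ⟶ Y} {chart : ∀ (U : Y.Opens) (hU : IsAffineOpen U), (((p ⁻¹ᵁ U : P.Opens) : Scheme.{u}) ≅ Proj (𝒮.deg U hU))}
  {Λ : Type u} {𝒮i : Λ → RelProj.QCGrAlg Y} {φ : ∀ i, (𝒮i i).toQCAlg ⟶ 𝒮.toQCAlg}
  {ui : ∀ i, RelProj.QGrHom q (𝒮i i) 𝒮L} {Pi : Λ → Scheme.{u}} {pi : ∀ i, Pi i ⟶ Y}
  {charti : ∀ i (U : Y.Opens) (hU : IsAffineOpen U),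
    ((((pi i) ⁻¹ᵁ U : (Pi i).Opens) : Scheme.{u}) ≅ Proj ((𝒮i i).deg U hU))}
  (hP : RelProj.IsRelProj 𝒮 p chart) (hPL : RelProj.IsRelProj 𝒮L pL chartL)
  (hPi : ∀ i, RelProj.IsRelProj (𝒮i i) (pi i) (charti i))
  {r : ((RelProj.domQ u pL chartL : PL.Opens) : Scheme.{u}) ⟶ P}
  (hr : RelProj.IsProjQMapOn u p chart pL chartL (RelProj.domQ u pL chartL) r)
  {ri : ∀ i, ((RelProj.domQ (ui i) pL chartL : PL.Opens) : Scheme.{u}) ⟶ Pi i}
  (hri : ∀ i, RelProj.IsProjQMapOn (ui i) (pi i) (charti i) pL chartL (RelProj.domQ (ui i) pL chartL) (ri i))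
  (hφ : ∀ i, RelProj.IsGradedHom (φ i))
  (hui : ∀ i (U : Y.Opens), (ui i).app U = (φ i).hom.app (op U) ≫ u.app U)

theorem isIso_homOfLE_of_top {Z : Scheme.{u}} {A B : Z.Opens} (h : A ≤ B) (hA : A = ⊤) : IsIso (Z.homOfLE h) := by
  haveI := isIso_ι_of_eq_top hA
  haveI := isIso_ι_of_eq_top (top_unique (hA.ge.trans h) : B = ⊤)
  haveI : IsIso (Z.homOfLE h ≫ B.ι) := by rw [Scheme.homOfLE_ι]; infer_instance
  exact IsIso.of_isIso_comp_right (Z.homOfLE h) B.ι

include hP hPL hPi hr hri hφ hui in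
/-- An immersion at a finite stage gives one in the limit. -/
theorem isImmersion_of_stage {i : Λ} (htop : RelProj.domQ (ui i) pL chartL = ⊤) [IsImmersion (ri i)] :
    IsImmersion r := by
  obtain ⟨Φ, hΦ, -⟩ := existsUnique_projQMap (RelProj.QGrHom.ofHom (φ i) (hφ i)) (chart := charti i) hP (hPi i)
  let c := compMor (φ i) (hφ i) u (ui i) (hui i) hP hPL hr
  haveI : IsImmersion (c ≫ Φ) := by
    rw [compMor_comp (φ i) (hφ i) u (ui i) (hui i) hP hPL hr hΦ (hri i)]; infer_instance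
  haveI : IsImmersion c := IsImmersion.of_comp c Φ
  haveI := isIso_homOfLE_of_top (domQ_comp_le (φ i) (hφ i) u (ui i) (hui i) (p' := pL) (chart' := chartL)) htop
  have h : IsImmersion (PL.homOfLE (domQ_comp_le (φ i) (hφ i) u (ui i) (hui i) (p' := pL) (chart' := chartL)) ≫ r) := by
    rw [← compMor_ι (φ i) (hφ i) u (ui i) (hui i) hP hPL hr]; infer_instance
  exact (MorphismProperty.cancel_left_of_respectsIso @IsImmersion _ r).mp h

variable [Preorder Λ] {t : ∀ i j, i ≤ j → ((𝒮i i).toQCAlg ⟶ (𝒮i j).toQCAlg)}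
  (ht : ∀ i j (h : i ≤ j), RelProj.IsGradedHom (t i j h)) (hφt : ∀ i j (h : i ≤ j), t i j h ≫ φ j = φ i)

include ht hφt in
theorem exists_mem_stage {U : Y.Opens} (hU : IsAffineOpen U) {d : ℕ} {i j : Λ} (h : i ≤ j)
    {b : (𝒮i i).presheaf.obj (op U)} (hb : b ∈ (𝒮i i).deg U hU d) :
    ∃ b' : (𝒮i j).presheaf.obj (op U), b' ∈ (𝒮i j).deg U hU d ∧
      RelProj.gradedHomAt (φ j) (hφ j) U hU b' = RelProj.gradedHomAt (φ i) (hφ i) U hU b := by
  refine ⟨RelProj.gradedHomAt (t i j h) (ht i j h) U hU b, (RelProj.gradedHomAt (t i j h) (ht i j h) U hU).map_mem hb, ?_⟩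
  show ((t i j h ≫ φ j).hom.app (op U)).hom b = ((φ i).hom.app (op U)).hom b
  rw [hφt]

variable [IsDirected Λ (· ≤ ·)] [Nonempty Λ] [LocallyOfFiniteType (pL ≫ q)]

include hP hPL hPi hr hri hφ hui ht hφt in
/-- The local step: near a point the closed immersion descends to all large stages. -/
theorem exists_local_stage (hsurj : ∀ (U : Y.Opens), IsAffineOpen U → ∀ x : 𝒮.presheaf.obj (op U),
      ∃ (i : Λ) (y : (𝒮i i).presheaf.obj (op U)), ((φ i).hom.app (op U)).hom y = x)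
    [IsImmersion r] (z : ((RelProj.domQ u pL chartL : PL.Opens) : Scheme.{u})) :
    ∃ (U : Y.Opens) (hU : IsAffineOpen U) (d : ℕ) (a : 𝒮.presheaf.obj (op U)) (i : Λ),
      r z ∈ pbasic chart U hU a ∧ ∀ j, i ≤ j → RelProj.domQ (ui j) pL chartL = ⊤ →
        ∃ (C T : Scheme.{u}) (c : C ⟶ Pi j) (_ : IsOpenImmersion c) (k : T ⟶ C)
          (e : T ⟶ (RelProj.domQ (ui j) pL chartL : PL.Opens)),
          IsPullback k e c (ri j) ∧ IsClosedImmersion k ∧
          ∀ x : ((RelProj.domQ (ui j) pL chartL : PL.Opens) : Scheme.{u}),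
            r (PL.homOfLE (domQ_comp_le (φ j) (hφ j) u (ui j) (hui j)) x) ∈ pbasic chart U hU a →
              x ∈ Set.range e := by
  classical
  obtain ⟨U, hU, d, a, hd, ha, hza, hsub⟩ := exists_pbasic_subset (chart := chart) r.coborderRange.2
    (show r z ∈ r.coborderRange from (congr($(r.liftCoborder_ι) z) : (r.liftCoborder z).1 = r z) ▸ (r.liftCoborder z).2)
  let C₀ := RelQuot.stdChart chart U hU hd a ha
  let T₀ := pullback r C₀
  have hc₀ : Set.range C₀ ⊆ Set.range r.coborderRange.ι := by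
    rw [Scheme.Opens.range_ι, range_stdChart]; exact hsub
  haveI : IsClosedImmersion (pullback.snd r C₀) :=
    MorphismProperty.of_isPullback (P := @IsClosedImmersion)
      (isPullback_lift (IsPullback.of_hasPullback r C₀).flip r.coborderRange hc₀ r.liftCoborder r.liftCoborder_ι).flip
      inferInstance
  obtain ⟨hT, hκ⟩ := IsClosedImmersion.isAffine_surjective_of_isAffine (f := pullback.snd r C₀)
  let κ : CommRingCat.of (Away (𝒮.deg U hU) a) ⟶ Γ(T₀, ⊤) :=
    (Scheme.ΓSpecIso _).inv ≫ (pullback.snd r C₀).appTop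
  have hft : (chartStr U hU a ≫ κ).hom.FiniteType := by
    let m := pullback.snd r C₀ ≫ Spec.map (chartStr U hU a)
    have hm : m ≫ hU.fromSpec = pullback.fst r C₀ ≫ (RelProj.domQ u pL chartL).ι ≫ pL ≫ q := by
      rw [Category.assoc, ← stdChart_comp hP hU hd a ha, ← reassoc_of% (pullback.condition (f := r) (g := C₀)),
        projQMap_comp u hP hPL hr]
    haveI : LocallyOfFiniteType (m ≫ hU.fromSpec) := by rw [hm]; infer_instance
    haveI : LocallyOfFiniteType m := locallyOfFiniteType_of_comp m hU.fromSpec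
    have h1 : RingHom.FiniteType m.appTop.hom := HasRingHomProperty.appTop (P := @LocallyOfFiniteType) m inferInstance
    have h2 : chartStr U hU a ≫ κ = (Scheme.ΓSpecIso _).inv ≫ m.appTop := by
      simp only [κ, m, Scheme.Hom.comp_appTop]
      rw [← Category.assoc, ← Category.assoc, Scheme.ΓSpecIso_inv_naturality]
    rw [h2, CommRingCat.hom_comp]
    exact h1.comp (RingHom.FiniteType.of_surjective _
      (Scheme.ΓSpecIso Γ(Y, U)).commRingCatIsoToRingEquiv.symm.surjective)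
  have hκs : Function.Surjective κ.hom := by
    rw [show κ.hom = (pullback.snd r C₀).appTop.hom.comp (Scheme.ΓSpecIso _).inv.hom from rfl, RingHom.coe_comp]
    exact hκ.comp (Scheme.ΓSpecIso (.of (Away (𝒮.deg U hU) a))).commRingCatIsoToRingEquiv.symm.surjective
  obtain ⟨⟨gens, hgens⟩⟩ := hft
  have hlift : ∀ y : Γ(T₀, ⊤), ∃ (i : Λ) (n : ℕ) (b : (𝒮i i).presheaf.obj (op U))
      (hb : b ∈ (𝒮i i).deg U hU (n • d)),
      κ (Away.mk _ ha n (RelProj.gradedHomAt (φ i) (hφ i) U hU b)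
        ((RelProj.gradedHomAt (φ i) (hφ i) U hU).map_mem hb)) = y := by
    intro y
    obtain ⟨w, rfl⟩ := hκs y
    obtain ⟨n, x, hx, rfl⟩ := w.mk_surjective (𝒮.deg U hU) ha
    obtain ⟨i, b, hb, rfl⟩ := exists_lift_deg hφ hsurj hU hx
    exact ⟨i, n, b, hb, rfl⟩
  choose iy ny by' hby hy using hlift
  obtain ⟨i₀, b₀, hb₀, hb₀a⟩ := exists_lift_deg hφ hsurj hU ha
  obtain ⟨i, hi⟩ := Finset.exists_le (insert i₀ (gens.image iy))
  refine ⟨U, hU, d, a, i, hza, fun j hij htop => ?_⟩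
  obtain ⟨b, hb, hba⟩ := exists_mem_stage hφ ht hφt hU ((hi i₀ (Finset.mem_insert_self _ _)).trans hij) hb₀
  rw [hb₀a] at hba
  obtain ⟨Φ, hΦ, -⟩ := existsUnique_projQMap (RelProj.QGrHom.ofHom (φ j) (hφ j)) (chart := charti j) hP (hPi j)
  obtain ⟨c, m, hc, hsq, hstr, hm⟩ := exists_isPullback_ofHom (φ j) (hφ j) (hPi j) hP hΦ hU hd b hb a ha hba
  let hle := domQ_comp_le (φ j) (hφ j) u (ui j) (hui j) (p' := pL) (chart' := chartL)
  haveI := isIso_homOfLE_of_top hle htop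
  have sq0 : IsPullback (pullback.snd r C₀) (pullback.fst r C₀ ≫ inv (PL.homOfLE hle)) C₀ (PL.homOfLE hle ≫ r) :=
    IsPullback.of_iso (IsPullback.of_hasPullback r C₀).flip (Iso.refl _) (Iso.refl _)
      (asIso (PL.homOfLE hle)).symm (Iso.refl _) (by simp) (by simp) (by simp) (by simp)
  have hcr : Set.range C₀ ⊆ Set.range (RelProj.domQ (RelProj.QGrHom.ofHom (φ j) (hφ j)) p chart).ι := by
    rintro _ ⟨w, rfl⟩
    exact ⟨c w, by rw [← Scheme.Hom.comp_apply, hc]⟩
  have sq1 := isPullback_lift sq0 _ hcr (compMor (φ j) (hφ j) u (ui j) (hui j) hP hPL hr) (compMor_ι ..)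
  have hcl : IsOpenImmersion.lift _ C₀ hcr = c := (IsOpenImmersion.lift_uniq _ _ _ c hc).symm
  rw [hcl] at sq1
  have sq := (sq1.flip.paste_vert hsq.flip).flip
  rw [compMor_comp (φ j) (hφ j) u (ui j) (hui j) hP hPL hr hΦ (hri j)] at sq
  refine ⟨_, _, RelQuot.stdChart (charti j) U hU hd b hb, inferInstance, _, _, sq, ?_, fun x hx => ?_⟩
  · refine IsClosedImmersion.of_surjective_of_isAffine _ ?_
    have hs : Function.Surjective (κ.hom.comp m) := by
      refine surjective_of_gens gens hgens (fun x => ⟨chartStr U hU b x, ?_⟩) fun y hy' => ?_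
      · exact congrArg κ.hom congr(($hstr).hom x)
      · obtain ⟨b', hb', e⟩ := exists_mem_stage hφ ht hφt hU
          ((hi (iy y) (Finset.mem_insert_of_mem (Finset.mem_image_of_mem iy hy'))).trans hij) (hby y)
        refine ⟨Away.mk _ hb (ny y) b' hb', ?_⟩
        rw [RingHom.comp_apply, hm]
        refine Eq.trans ?_ (hy y)
        simp only [e]
    have e : (pullback.snd r C₀ ≫ Spec.map (CommRingCat.ofHom m)).appTop =
        (Scheme.ΓSpecIso _).hom ≫ CommRingCat.ofHom m ≫ κ := by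
      simp only [κ, Scheme.Hom.comp_appTop]
      rw [← Category.assoc, ← Category.assoc, ← Scheme.ΓSpecIso_naturality, Category.assoc _ _ (Scheme.ΓSpecIso _).inv,
        Iso.hom_inv_id, Category.comp_id]
    show Function.Surjective (pullback.snd r C₀ ≫ Spec.map (CommRingCat.ofHom m)).appTop.hom
    rw [e, CommRingCat.hom_comp, RingHom.coe_comp]
    exact hs.comp (Scheme.ΓSpecIso _).commRingCatIsoToRingEquiv.surjective
  · obtain ⟨w, hw⟩ : r (PL.homOfLE hle x) ∈ Set.range C₀ := by rw [range_stdChart]; exact hx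
    obtain ⟨v, hv, -⟩ := Scheme.Pullback.exists_preimage_pullback (f := r) (g := C₀) (PL.homOfLE hle x) w hw.symm
    refine ⟨v, ?_⟩
    rw [Scheme.Hom.comp_apply, hv, ← Scheme.Hom.comp_apply, IsIso.hom_inv_id]
    rfl

include hP hPL hPi hr hri hφ hui ht hφt in
/-- An immersion in the limit comes from some stage. -/
theorem exists_stage_immersion (hsurj : ∀ (U : Y.Opens), IsAffineOpen U → ∀ x : 𝒮.presheaf.obj (op U),
      ∃ (i : Λ) (y : (𝒮i i).presheaf.obj (op U)), ((φ i).hom.app (op U)).hom y = x)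
    [CompactSpace PL] (htop : RelProj.domQ u pL chartL = ⊤) [IsImmersion r] :
    ∃ i, RelProj.domQ (ui i) pL chartL = ⊤ ∧ IsImmersion (ri i) := by
  classical
  obtain ⟨i₁, hi₁⟩ := exists_eq_top_of_directed (fun i => RelProj.domQ (ui i) pL chartL)
    (fun i j => (exists_ge_ge i j).imp fun k h => ⟨domQ_mono hui ht hφt h.1, domQ_mono hui ht hφt h.2⟩)
    ((domQ_eq_iSup hφ hui hsurj).symm.trans htop)
  choose U hU d a i hz h using fun z => exists_local_stage hP hPL hPi hr hri hφ hui ht hφt hsurj z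
  haveI := isIso_ι_of_eq_top htop
  haveI : CompactSpace (RelProj.domQ u pL chartL : PL.Opens) :=
    (Scheme.homeoOfIso (asIso (RelProj.domQ u pL chartL).ι)).symm.compactSpace
  obtain ⟨F, hF⟩ := isCompact_univ.elim_finite_subcover
    (fun z => (r ⁻¹ᵁ pbasic chart (U z) (hU z) (a z) : Set (RelProj.domQ u pL chartL : PL.Opens)))
    (fun z => (r ⁻¹ᵁ pbasic chart (U z) (hU z) (a z)).2) (fun z _ => Set.mem_iUnion.2 ⟨z, hz z⟩)
  obtain ⟨j, hj⟩ := Finset.exists_le (insert i₁ (F.image i))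
  have hjtop : RelProj.domQ (ui j) pL chartL = ⊤ :=
    top_unique (hi₁.ge.trans (domQ_mono hui ht hφt (hj i₁ (Finset.mem_insert_self _ _))))
  refine ⟨j, hjtop, ?_⟩
  choose C T c hc k e hsq hk hcov using fun z : {z // z ∈ F} =>
    h z.1 j (hj _ (Finset.mem_insert_of_mem (Finset.mem_image_of_mem i z.2))) hjtop
  obtain ⟨r', hr', hcl⟩ := exists_factor_of_pieces @IsClosedImmersion (ri j) c k e hsq hk fun x => by
    obtain ⟨z, hzF, hzx⟩ := Set.mem_iUnion₂.1
      (hF (Set.mem_univ (PL.homOfLE (domQ_comp_le (φ j) (hφ j) u (ui j) (hui j)) x)))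
    obtain ⟨v, rfl⟩ := hcov ⟨z, hzF⟩ x hzx
    exact ⟨⟨z, hzF⟩, k _ v, by rw [← Scheme.Hom.comp_apply, (hsq _).w]; rfl⟩
  rw [← hr']
  haveI := hcl
  infer_instance

end colim

end Groth.Agent.ProjQ
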