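import Groth.Agent.ProjQ.Comp

/-!
# `Proj` of a composite of graded morphisms over morphisms of bases
-/

universe u

open CategoryTheory CategoryTheory.Limits AlgebraicGeometry TopologicalSpace Opposite HomogeneousLocalization
open scoped HomogeneousIdeal

set_option linter.style.haveILetI false
set_option backward.isDefEq.respectTransparency false
set_option backward.isDefEq.respectTransparency.types false

noncomputable section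

namespace Groth.Agent.ProjQ

open Groth.Agent

variable {X Y Z : Scheme.{u}} {g : Y ⟶ X} {h : Z ⟶ Y} {k : Z ⟶ X}
  {𝒜 : RelProj.QCGrAlg X} {ℬ : RelProj.QCGrAlg Y} {𝒞 : RelProj.QCGrAlg Z}
  (u₁ : RelProj.QGrHom g 𝒜 ℬ) (u₂ : RelProj.QGrHom h ℬ 𝒞) (w : RelProj.QGrHom k 𝒜 𝒞)

/-- `w` is the composite of `u₁` and `u₂`, on affine triples. -/
structure IsCompQ : Prop where
  base : ∀ z, k z = g (h z)
  comp : ∀ (U : X.Opens) (hU : IsAffineOpen U) (V : Y.Opens) (hV : IsAffineOpen V) (W : Z.Opens)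
    (hW : IsAffineOpen W) (h₁ : V ≤ g ⁻¹ᵁ U) (h₂ : W ≤ h ⁻¹ᵁ V) (h₃ : W ≤ k ⁻¹ᵁ U) (a : 𝒜.presheaf.obj (op U)),
    w.gradedAt U hU W hW h₃ a = u₂.gradedAt V hV W hW h₂ (u₁.gradedAt U hU V hV h₁ a)

variable {u₁ u₂ w} (hw : IsCompQ u₁ u₂ w)
  {PA : Scheme.{u}} {pA : PA ⟶ X}
  {chartA : ∀ (U : X.Opens) (hU : IsAffineOpen U), (((pA ⁻¹ᵁ U : PA.Opens) : Scheme.{u}) ≅ Proj (𝒜.deg U hU))}
  {PB : Scheme.{u}} {pB : PB ⟶ Y}
  {chartB : ∀ (U : Y.Opens) (hU : IsAffineOpen U), (((pB ⁻¹ᵁ U : PB.Opens) : Scheme.{u}) ≅ Proj (ℬ.deg U hU))}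
  {PC : Scheme.{u}} {pC : PC ⟶ Z}
  {chartC : ∀ (U : Z.Opens) (hU : IsAffineOpen U), (((pC ⁻¹ᵁ U : PC.Opens) : Scheme.{u}) ≅ Proj (𝒞.deg U hU))}
  (hB : RelProj.IsRelProj ℬ pB chartB) (hC : RelProj.IsRelProj 𝒞 pC chartC)

include hw in
theorem IsCompQ.exists_triple (z : Z) :
    ∃ (U : X.Opens) (_ : IsAffineOpen U) (V : Y.Opens) (_ : IsAffineOpen V) (W : Z.Opens) (_ : IsAffineOpen W)
      (_ : V ≤ g ⁻¹ᵁ U) (_ : W ≤ h ⁻¹ᵁ V) (_ : W ≤ k ⁻¹ᵁ U), z ∈ W := by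
  obtain ⟨U, hU, hxU, -⟩ := exists_affine_le (show g (h z) ∈ (⊤ : X.Opens) from trivial)
  obtain ⟨V, hV, hxV, hVU⟩ := exists_affine_le (show h z ∈ g ⁻¹ᵁ U from hxU)
  obtain ⟨W, hW, hxW, hWV⟩ := exists_affine_le (show z ∈ h ⁻¹ᵁ V from hxV)
  exact ⟨U, hU, V, hV, W, hW, hVU, hWV, fun y hy => by
    show k y ∈ U
    rw [hw.base]; exact hVU (hWV hy), hxW⟩

include hw hC in
theorem IsCompQ.domQ_le : RelProj.domQ w pC chartC ≤ RelProj.domQ u₂ pC chartC := fun x hx => by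
  obtain ⟨U, hU, V, hV, W, hW, h₁, h₂, h₃, hxW⟩ := hw.exists_triple (pC x)
  obtain ⟨e, a, he, ha, hxa⟩ := (mem_domQ_iff w hC hU hW h₃ hxW).1 hx
  rw [hw.comp U hU V hV W hW h₁ h₂ h₃] at hxa
  exact (mem_domQ u₂).2 ⟨V, hV, W, hW, h₂, e, _, he, (u₁.gradedAt U hU V hV h₁).map_mem ha, hxa⟩

variable {v₂ : ((RelProj.domQ u₂ pC chartC : PC.Opens) : Scheme.{u}) ⟶ PB}
  (hv₂ : RelProj.IsProjQMapOn u₂ pB chartB pC chartC (RelProj.domQ u₂ pC chartC) v₂)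

include hw hB hC hv₂ in
theorem IsCompQ.mem_domQ_iff' (x : ((RelProj.domQ u₂ pC chartC : PC.Opens) : Scheme.{u})) :
    x.1 ∈ RelProj.domQ w pC chartC ↔ v₂ x ∈ RelProj.domQ u₁ pB chartB := by
  obtain ⟨U, hU, V, hV, W, hW, h₁, h₂, h₃, hxW⟩ := hw.exists_triple (pC x.1)
  rw [mem_domQ_iff w hC hU hW h₃ hxW, mem_domQ_iff u₁ hB hU hV h₁
    (show pB (v₂ x) ∈ V by rw [apply_mem_base u₂ hB hC hv₂ x]; exact h₂ hxW)]
  refine exists_congr fun e => exists_congr fun a => and_congr_right fun he => and_congr_right fun ha => ?_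
  rw [hw.comp U hU V hV W hW h₁ h₂ h₃]
  exact (apply_mem_iff u₂ hB hC hv₂ x hV hW h₂ hxW he _ ((u₁.gradedAt U hU V hV h₁).map_mem ha)).symm

include hw hB hC hv₂ in
theorem IsCompQ.mor_range :
    Set.range (PC.homOfLE (hw.domQ_le hC) ≫ v₂) ⊆ Set.range (RelProj.domQ u₁ pB chartB).ι := by
  rw [Scheme.Opens.range_ι]
  rintro _ ⟨x, rfl⟩
  rw [Scheme.Hom.comp_apply]
  refine (hw.mem_domQ_iff' hB hC hv₂ _).1 ?_
  rw [Scheme.homOfLE_apply]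
  exact x.2

/-- `Proj(u₂)` from `G(w)` into `G(u₁)`. -/
def IsCompQ.mor : ((RelProj.domQ w pC chartC : PC.Opens) : Scheme.{u}) ⟶ (RelProj.domQ u₁ pB chartB : PB.Opens) :=
  IsOpenImmersion.lift (RelProj.domQ u₁ pB chartB).ι (PC.homOfLE (hw.domQ_le hC) ≫ v₂) (hw.mor_range hB hC hv₂)

theorem IsCompQ.mor_ι :
    hw.mor hB hC hv₂ ≫ (RelProj.domQ u₁ pB chartB).ι = PC.homOfLE (hw.domQ_le hC) ≫ v₂ :=
  IsOpenImmersion.lift_fac _ _ _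

variable {v₁ : ((RelProj.domQ u₁ pB chartB : PB.Opens) : Scheme.{u}) ⟶ PA}
  (hv₁ : RelProj.IsProjQMapOn u₁ pA chartA pB chartB (RelProj.domQ u₁ pB chartB) v₁)
  {vw : ((RelProj.domQ w pC chartC : PC.Opens) : Scheme.{u}) ⟶ PA}
  (hvw : RelProj.IsProjQMapOn w pA chartA pC chartC (RelProj.domQ w pC chartC) vw)

include hv₁ hv₂ in
theorem IsCompQ.comp_piece {U : X.Opens} {hU : IsAffineOpen U} {V : Y.Opens} {hV : IsAffineOpen V} {W : Z.Opens}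
    {hW : IsAffineOpen W} (h₁ : V ≤ g ⁻¹ᵁ U) (h₂ : W ≤ h ⁻¹ᵁ V)
    (χ : 𝒜.deg U hU →+*ᵍ 𝒞.deg W hW)
    (hχ : χ = (u₂.gradedAt V hV W hW h₂).comp (u₁.gradedAt U hU V hV h₁)) {d : ℕ} (hd : 0 < d)
    (f : 𝒜.presheaf.obj (op U)) (hf : f ∈ 𝒜.deg U hU d)
    (hr : Set.range (piece chartA chartC χ hd f hf).c ⊆ Set.range (RelProj.domQ w pC chartC).ι) :
    IsOpenImmersion.lift (RelProj.domQ w pC chartC).ι (piece chartA chartC χ hd f hf).c hr ≫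
      hw.mor hB hC hv₂ ≫ v₁ = (piece chartA chartC χ hd f hf).v := by
  subst hχ
  let i₁ : Idx (g := g) (𝒮 := 𝒜) := ⟨U, hU, V, hV, h₁, d, hd, f, hf⟩
  let i₂ : Idx (g := h) (𝒮 := ℬ) :=
    ⟨V, hV, W, hW, h₂, d, hd, u₁.gradedAt U hU V hV h₁ f, (u₁.gradedAt U hU V hV h₁).map_mem hf⟩
  have e : IsOpenImmersion.lift (RelProj.domQ w pC chartC).ι
      (piece chartA chartC ((u₂.gradedAt V hV W hW h₂).comp (u₁.gradedAt U hU V hV h₁)) hd f hf).c hr ≫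
      hw.mor hB hC hv₂ =
      Spec.map (CommRingCat.ofHom (Away.map (u₂.gradedAt V hV W hW h₂) (u₁.gradedAt U hU V hV h₁ f))) ≫
        idxLift u₁ chartA chartB i₁ := by
    rw [← cancel_mono (RelProj.domQ u₁ pB chartB).ι, Category.assoc, Category.assoc,
      IsCompQ.mor_ι, idxLift_ι]
    have e2 : IsOpenImmersion.lift (RelProj.domQ w pC chartC).ι
        (piece chartA chartC ((u₂.gradedAt V hV W hW h₂).comp (u₁.gradedAt U hU V hV h₁)) hd f hf).c hr ≫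
        PC.homOfLE (hw.domQ_le hC) = idxLift u₂ chartB chartC i₂ := by
      rw [← cancel_mono (RelProj.domQ u₂ pC chartC).ι, Category.assoc, Scheme.homOfLE_ι, IsOpenImmersion.lift_fac,
        idxLift_ι]
      rfl
    rw [reassoc_of% e2, (isProjQMapOn_iff u₂ v₂).1 hv₂ i₂]
    rfl
  rw [reassoc_of% e, (isProjQMapOn_iff u₁ v₁).1 hv₁ i₁]
  show Spec.map _ ≫ Spec.map _ ≫ _ = Spec.map _ ≫ _
  rw [RelQuot.awayMap_comp (u₂.gradedAt V hV W hW h₂) (u₁.gradedAt U hU V hV h₁) hf, Spec.map_comp_assoc]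

include hv₁ hv₂ hvw in
/-- `Proj(u₁) ∘ Proj(u₂) = Proj(w)` on `G(w)`. -/
theorem IsCompQ.mor_comp : hw.mor hB hC hv₂ ≫ v₁ = vw := by
  let J := {i : Idx (g := k) (𝒮 := 𝒜) // ∃ (V : Y.Opens) (_ : IsAffineOpen V), V ≤ g ⁻¹ᵁ i.U ∧ i.U' ≤ h ⁻¹ᵁ V}
  refine (pieceCover (fun j : J => idxPiece w chartA chartC j.1) (RelProj.domQ w pC chartC)
    (fun j => idx_range_subset w j.1) (fun x hx => ?_)).hom_ext _ _ fun j => ?_
  · obtain ⟨U, hU, V, hV, W, hW, h₁, h₂, h₃, hxW⟩ := hw.exists_triple (pC x)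
    obtain ⟨e, a, he, ha, hxa⟩ := (mem_domQ_iff w hC hU hW h₃ hxW).1 hx
    refine ⟨⟨⟨U, hU, W, hW, h₃, e, he, a, ha⟩, V, hV, h₁, h₂⟩, ?_⟩
    rw [idxPiece, range_piece]
    exact hxa
  · obtain ⟨i, V, hV, h₁, h₂⟩ := j
    show idxLift w chartA chartC i ≫ _ = idxLift w chartA chartC i ≫ _
    rw [(isProjQMapOn_iff w vw).1 hvw i]
    refine hw.comp_piece hB hC hv₂ hv₁ h₁ h₂ (hV := hV) _ ?_ i.hd i.f i.hf _
    ext a
    exact hw.comp i.U i.hU V hV i.U' i.hU' h₁ h₂ i.hle a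

include hw hB hC hv₂ in
theorem IsCompQ.lift_comp {T : Scheme.{u}} (b : T ⟶ (RelProj.domQ u₂ pC chartC : PC.Opens))
    (c : T ⟶ (RelProj.domQ u₁ pB chartB : PB.Opens)) (hbc : b ≫ v₂ = c ≫ (RelProj.domQ u₁ pB chartB).ι)
    (e : T ⟶ (RelProj.domQ w pC chartC : PC.Opens))
    (he : e ≫ (RelProj.domQ w pC chartC).ι = b ≫ (RelProj.domQ u₂ pC chartC).ι) :
    c = e ≫ hw.mor hB hC hv₂ := by
  have he' : e ≫ PC.homOfLE (hw.domQ_le hC) = b := by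
    rw [← cancel_mono (RelProj.domQ u₂ pC chartC).ι, Category.assoc, Scheme.homOfLE_ι]; exact he
  rw [← cancel_mono (RelProj.domQ u₁ pB chartB).ι, Category.assoc, IsCompQ.mor_ι, reassoc_of% he', hbc]

end Groth.Agent.ProjQ
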