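import Groth.Agent.ProjQ.CompQ

/-!
# Projective cones and graded morphisms over a morphism of bases
-/

universe u

open CategoryTheory CategoryTheory.Limits AlgebraicGeometry TopologicalSpace Opposite HomogeneousLocalization
open scoped HomogeneousIdeal

set_option linter.style.haveILetI false
set_option backward.isDefEq.respectTransparency false
set_option backward.isDefEq.respectTransparency.types false

noncomputable section

namespace Groth.Agent.ProjQ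

open Groth.Agent

section one

variable {S : Scheme.{u}} {𝒮 𝒮h : RelProj.QCGrAlg S} {ι : 𝒮.toQCAlg ⟶ 𝒮h.toQCAlg}
  {z : 𝒮h.presheaf.obj (op ⊤)} (hz : RelCone.IsPolyOver 𝒮 𝒮h ι z)
  {PC : Scheme.{u}} {pC : PC ⟶ S}
  {chartC : ∀ (U : S.Opens) (hU : IsAffineOpen U), (((pC ⁻¹ᵁ U : PC.Opens) : Scheme.{u}) ≅ Proj (𝒮h.deg U hU))}

theorem pointed_eq_domQ (hC : RelProj.IsRelProj 𝒮h pC chartC) :
    RelCone.pointedProjCone 𝒮 hz pC chartC =
      RelProj.domQ (RelProj.QGrHom.ofHom ι hz.graded) pC chartC := by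
  refine le_antisymm (iSup_le fun U => ?_) fun x hx => ?_
  · rw [← domQ_ofHom_inf ι hz.graded hC U.1 U.2]
    exact inf_le_left
  · obtain ⟨U, hU, hxU, -⟩ := exists_affine_le (show pC x ∈ (⊤ : S.Opens) from trivial)
    have h : x ∈ RelProj.emb pC chartC U hU ''ᵁ RelCone.domOpen (RelProj.gradedHomAt ι hz.graded U hU) := by
      rw [← domQ_ofHom_inf ι hz.graded hC U hU]
      exact ⟨hx, hxU⟩
    exact le_iSup (fun U : S.affineOpens =>
      RelProj.emb pC chartC U.1 U.2 ''ᵁ RelCone.domOpen (RelProj.gradedHomAt ι hz.graded U.1 U.2)) ⟨U, hU⟩ h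

include hz in
/-- Two homomorphisms out of `𝒮h(U)` agree when they agree on `ι` and on `z`. -/
theorem poly_ext {U : S.Opens} (hU : IsAffineOpen U) {R : Type u} [CommRing R]
    {f g : 𝒮h.presheaf.obj (op U) →+* R}
    (h₁ : ∀ x, f ((ι.hom.app (op U)).hom x) = g ((ι.hom.app (op U)).hom x))
    (h₂ : f (RelCone.restrictTop 𝒮h z U) = g (RelCone.restrictTop 𝒮h z U)) : f = g := by
  have key : f.comp (Polynomial.eval₂RingHom (ι.hom.app (op U)).hom (RelCone.restrictTop 𝒮h z U)) =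
      g.comp (Polynomial.eval₂RingHom (ι.hom.app (op U)).hom (RelCone.restrictTop 𝒮h z U)) :=
    Polynomial.ringHom_ext (fun x => by simpa using h₁ x) (by simpa using h₂)
  ext y
  obtain ⟨p, rfl⟩ := (hz.bij U hU).2 y
  exact congr($key p)

include hz in
/-- Modulo `z`, an element of positive degree of `𝒮h(U)` comes from `𝒮(U)`. -/
theorem exists_ι_of_deg {U : S.Opens} (hU : IsAffineOpen U) {k : ℕ} {y : 𝒮h.presheaf.obj (op U)}
    (hy : y ∈ 𝒮h.deg U hU k) (q : HomogeneousIdeal (𝒮h.deg U hU))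
    (hq : RelCone.restrictTop 𝒮h z U ∈ q) :
    ∃ c ∈ 𝒮.deg U hU k, y - (ι.hom.app (op U)).hom c ∈ q := by
  obtain ⟨p, rfl⟩ := (hz.bij U hU).2 y
  set E := Polynomial.eval₂RingHom (ι.hom.app (op U)).hom (RelCone.restrictTop 𝒮h z U) with hE
  have h0 : E p - RelProj.gradedHomAt ι hz.graded U hU (p.coeff 0) ∈ q.toIdeal := by
    have e : E p = E (Polynomial.X * p.divX) + E (Polynomial.C (p.coeff 0)) := by
      rw [← map_add, Polynomial.X_mul_divX_add]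
    rw [e, show E (Polynomial.C (p.coeff 0)) = RelProj.gradedHomAt ι hz.graded U hU (p.coeff 0) from
      Polynomial.eval₂_C _ _, add_sub_cancel_right, map_mul,
      show E Polynomial.X = RelCone.restrictTop 𝒮h z U from Polynomial.eval₂_X _ _]
    exact Ideal.mul_mem_right _ _ hq
  refine ⟨_, (DirectSum.decompose (𝒮.deg U hU) (p.coeff 0) k).2, ?_⟩
  have h1 := q.isHomogeneous k h0
  rw [DirectSum.decompose_sub, DFinsupp.sub_apply, AddSubgroupClass.coe_sub, DirectSum.decompose_of_mem_same _ hy,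
    ← GradedRingHom.map_directSumDecompose] at h1
  exact h1

theorem exists_mem_pbasic_ι (hC : RelProj.IsRelProj 𝒮h pC chartC) {U : S.Opens} (hU : IsAffineOpen U) {x : PC}
    (hx : pC x ∈ U) (hxz : x ∉ pbasic chartC U hU (RelCone.restrictTop 𝒮h z U)) :
    x ∈ RelCone.pointedProjCone 𝒮 hz pC chartC := by
  obtain ⟨w, rfl⟩ := exists_emb (chart := chartC) hU hx
  rw [emb_mem_pbasic, not_not] at hxz
  obtain ⟨d, y, hd, hy, hyw⟩ := exists_mem_pbasic (chart := chartC) (RelProj.emb pC chartC U hU w) hU hx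
  rw [emb_mem_pbasic] at hyw
  obtain ⟨c, hc, hyc⟩ := exists_ι_of_deg hz hU hy w.asHomogeneousIdeal hxz
  rw [pointed_eq_domQ hz hC, mem_domQ_ofHom_iff ι hz.graded hC hU hx]
  refine ⟨d, c, hd, hc, emb_mem_pbasic.2 fun h => hyw ?_⟩
  have := w.asHomogeneousIdeal.toIdeal.add_mem hyc h
  rwa [show y - (ι.hom.app (op U)).hom c + RelProj.gradedHomAt ι hz.graded U hU c = y from sub_add_cancel _ _]
    at this

theorem restrictTop_res {U V : S.Opens} (i : V ≤ U) (w : 𝒮h.presheaf.obj (op ⊤)) :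
    (𝒮h.presheaf.map (homOfLE i).op).hom (RelCone.restrictTop 𝒮h w U) = RelCone.restrictTop 𝒮h w V :=
  congr($(𝒮h.presheaf.map_comp (homOfLE (le_top : U ≤ ⊤)).op (homOfLE i).op) w).symm

end one

section square

variable {Y Y' : Scheme.{u}} {q : Y' ⟶ Y} {𝒮 : RelProj.QCGrAlg Y} {𝒮' : RelProj.QCGrAlg Y'}
  {u : RelProj.QGrHom q 𝒮 𝒮'} {𝒮h : RelProj.QCGrAlg Y} {ι : 𝒮.toQCAlg ⟶ 𝒮h.toQCAlg}
  {z : 𝒮h.presheaf.obj (op ⊤)} {𝒮h' : RelProj.QCGrAlg Y'} {ι' : 𝒮'.toQCAlg ⟶ 𝒮h'.toQCAlg}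
  {z' : 𝒮h'.presheaf.obj (op ⊤)} {uh : RelProj.QGrHom q 𝒮h 𝒮h'}

theorem uh_ι (huh : ∀ U : Y.Opens, ι.hom.app (op U) ≫ uh.app U = u.app U ≫ ι'.hom.app (op (q ⁻¹ᵁ U)))
    (U : Y.Opens) (U' : Y'.Opens) (hle : U' ≤ q ⁻¹ᵁ U) :
    ι.hom.app (op U) ≫ uh.appLE U U' hle = u.appLE U U' hle ≫ ι'.hom.app (op U') := by
  rw [RelSpec.QHom.appLE_eq, RelSpec.QHom.appLE_eq, reassoc_of% (huh U), Category.assoc]
  exact congr(u.app U ≫ $((ι'.hom.naturality (homOfLE hle).op).symm))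

theorem uh_z (huhz : (uh.app ⊤).hom z = RelCone.restrictTop 𝒮h' z' (q ⁻¹ᵁ ⊤))
    (U : Y.Opens) (U' : Y'.Opens) (hle : U' ≤ q ⁻¹ᵁ U) :
    (uh.appLE U U' hle).hom (RelCone.restrictTop 𝒮h z U) = RelCone.restrictTop 𝒮h' z' U' := by
  have h := congr($(uh.toQHom.map_appLE (le_top : U ≤ ⊤) hle) z)
  refine h.trans ?_
  show (𝒮h'.presheaf.map (homOfLE _).op).hom ((uh.app ⊤).hom z) = _
  rw [huhz]
  exact restrictTop_res (𝒮h := 𝒮h') _ z'

end square

section mor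

variable {S S' : Scheme.{u}} {g : S' ⟶ S} {𝒮 : RelProj.QCGrAlg S} {𝒮' : RelProj.QCGrAlg S'}
  (u : RelProj.QGrHom g 𝒮 𝒮')
  {P : Scheme.{u}} {p : P ⟶ S}
  {chart : ∀ (U : S.Opens) (hU : IsAffineOpen U), (((p ⁻¹ᵁ U : P.Opens) : Scheme.{u}) ≅ Proj (𝒮.deg U hU))}
  {P' : Scheme.{u}} {p' : P' ⟶ S'}
  {chart' : ∀ (U : S'.Opens) (hU : IsAffineOpen U), (((p' ⁻¹ᵁ U : P'.Opens) : Scheme.{u}) ≅ Proj (𝒮'.deg U hU))}

/-- The defining equation of `Proj(u)` with the image of `f` named. -/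
theorem lift_stdChart_comp {v : ((RelProj.domQ u p' chart' : P'.Opens) : Scheme.{u}) ⟶ P}
    (hv : RelProj.IsProjQMapOn u p chart p' chart' (RelProj.domQ u p' chart') v)
    {U : S.Opens} (hU : IsAffineOpen U) {U' : S'.Opens} (hU' : IsAffineOpen U') (hle : U' ≤ g ⁻¹ᵁ U)
    {d : ℕ} (hd : 0 < d) (f : 𝒮.presheaf.obj (op U)) (hf : f ∈ 𝒮.deg U hU d)
    (f' : 𝒮'.presheaf.obj (op U')) (hf' : f' ∈ 𝒮'.deg U' hU' d) (e : u.gradedAt U hU U' hU' hle f = f')
    {T : Scheme.{u}} (a : T ⟶ Spec (.of (Away (𝒮'.deg U' hU') f')))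
    (b : T ⟶ (RelProj.domQ u p' chart' : P'.Opens))
    (hb : b ≫ (RelProj.domQ u p' chart').ι = a ≫ RelQuot.stdChart chart' U' hU' hd f' hf')
    (φ : Away (𝒮.deg U hU) f →+* Away (𝒮'.deg U' hU') f')
    (hφ : ∀ (n : ℕ) (x : 𝒮.presheaf.obj (op U)) (hx : x ∈ 𝒮.deg U hU (n • d)),
      φ (Away.mk _ hf n x hx) = Away.mk _ hf' n (u.gradedAt U hU U' hU' hle x)
        ((u.gradedAt U hU U' hU' hle).map_mem hx)) :
    b ≫ v = a ≫ Spec.map (CommRingCat.ofHom φ) ≫ RelQuot.stdChart chart U hU hd f hf := by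
  subst e
  have hφ' : φ = Away.map (u.gradedAt U hU U' hU' hle) f := by
    ext y
    obtain ⟨n, x, hx, rfl⟩ := y.mk_surjective (𝒮.deg U hU) hf
    rw [hφ n x hx, Away.map_mk]
  subst hφ'
  let i : Idx (g := g) (𝒮 := 𝒮) := ⟨U, hU, U', hU', hle, d, hd, f, hf⟩
  have hb' : b = a ≫ idxLift u chart chart' i := by
    rw [← cancel_mono (RelProj.domQ u p' chart').ι, hb, Category.assoc, idxLift_ι]
    rfl
  rw [hb', Category.assoc, (isProjQMapOn_iff u v).1 hv i]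
  rfl

end mor

end Groth.Agent.ProjQ
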