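import Groth.Agent.ProjQ.ConeQ

/-!
# Retractions and parts at infinity of projective cones are functorial
-/

universe u

open CategoryTheory CategoryTheory.Limits AlgebraicGeometry TopologicalSpace Opposite HomogeneousLocalization
open scoped HomogeneousIdeal

set_option linter.style.haveILetI false
set_option backward.isDefEq.respectTransparency false
set_option backward.isDefEq.respectTransparency.types false

noncomputable section

namespace Groth.Agent.ProjQ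

open Groth.Agent

variable {Y Y' : Scheme.{u}} {q : Y' ⟶ Y}

/-- A graded morphism over `q` followed by a graded homomorphism. -/
def postHom {𝒜 : RelProj.QCGrAlg Y} {ℬ 𝒞 : RelProj.QCGrAlg Y'} (u : RelProj.QGrHom q 𝒜 ℬ)
    (ψ : ℬ.toQCAlg ⟶ 𝒞.toQCAlg) (hψ : RelProj.IsGradedHom ψ) : RelProj.QGrHom q 𝒜 𝒞 where
  app U := u.app U ≫ ψ.hom.app (op (q ⁻¹ᵁ U))
  naturality i := by
    rw [Category.assoc, ← ψ.hom.naturality, ← Category.assoc, u.naturality i, Category.assoc]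
  str_app U := by
    rw [← Category.assoc, u.str_app, Category.assoc, ← NatTrans.comp_app, ψ.comm]
  map_mem U hU U' hU' hle d x hx := by
    have h := hψ U' hU' d _ (u.map_mem U hU U' hU' hle hx)
    have e := congr($(ψ.hom.naturality (homOfLE hle).op) ((u.app U).hom x))
    simp only [CommRingCat.comp_apply] at e
    rw [e] at h
    exact h

/-- A graded homomorphism followed by a graded morphism over `q`. -/
def preHom {𝒜 ℬ : RelProj.QCGrAlg Y} {𝒞 : RelProj.QCGrAlg Y'} (φ : 𝒜.toQCAlg ⟶ ℬ.toQCAlg)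
    (hφ : RelProj.IsGradedHom φ) (u : RelProj.QGrHom q ℬ 𝒞) : RelProj.QGrHom q 𝒜 𝒞 where
  app U := φ.hom.app (op U) ≫ u.app U
  naturality i := by
    rw [Category.assoc, u.naturality i, ← Category.assoc, ← φ.hom.naturality, Category.assoc]
  str_app U := by
    rw [← Category.assoc, ← NatTrans.comp_app, φ.comm, u.str_app]
  map_mem U hU U' hU' hle d x hx := u.map_mem U hU U' hU' hle (hφ U hU d x hx)

theorem isCompQ_preHom {𝒜 ℬ : RelProj.QCGrAlg Y} {𝒞 : RelProj.QCGrAlg Y'} (φ : 𝒜.toQCAlg ⟶ ℬ.toQCAlg)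
    (hφ : RelProj.IsGradedHom φ) (u : RelProj.QGrHom q ℬ 𝒞) :
    IsCompQ (RelProj.QGrHom.ofHom φ hφ) u (preHom φ hφ u) where
  base _ := rfl
  comp U hU V hV W hW h₁ h₂ h₃ a :=
    gradedAt_res_left_apply u hU hV W hW h₁ h₂ ((φ.hom.app (op U)).hom a)

theorem isCompQ_postHom {𝒜 : RelProj.QCGrAlg Y} {ℬ 𝒞 : RelProj.QCGrAlg Y'} (u : RelProj.QGrHom q 𝒜 ℬ)
    (ψ : ℬ.toQCAlg ⟶ 𝒞.toQCAlg) (hψ : RelProj.IsGradedHom ψ) :
    IsCompQ u (RelProj.QGrHom.ofHom ψ hψ) (postHom u ψ hψ) where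
  base _ := rfl
  comp U hU V hV W hW h₁ h₂ h₃ a := by
    show (𝒞.presheaf.map (homOfLE h₃).op).hom ((ψ.hom.app (op (q ⁻¹ᵁ U))).hom ((u.app U).hom a)) =
      (𝒞.presheaf.map (homOfLE h₂).op).hom ((ψ.hom.app (op V)).hom ((ℬ.presheaf.map (homOfLE h₁).op).hom
        ((u.app U).hom a)))
    have e := congr($(ψ.hom.naturality (homOfLE h₁).op) ((u.app U).hom a))
    simp only [CommRingCat.comp_apply] at e
    rw [e]
    exact congr($(𝒞.presheaf.map_comp (homOfLE h₁).op (homOfLE (show W ≤ V from h₂)).op) _)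

section retraction

variable {𝒮 : RelProj.QCGrAlg Y} {𝒮' : RelProj.QCGrAlg Y'} {u : RelProj.QGrHom q 𝒮 𝒮'}
  {𝒮h : RelProj.QCGrAlg Y} {ι : 𝒮.toQCAlg ⟶ 𝒮h.toQCAlg} {hι : RelProj.IsGradedHom ι}
  {𝒮h' : RelProj.QCGrAlg Y'} {ι' : 𝒮'.toQCAlg ⟶ 𝒮h'.toQCAlg} {hι' : RelProj.IsGradedHom ι'}
  {uh : RelProj.QGrHom q 𝒮h 𝒮h'}

theorem isCompQ_square (huh : ∀ U : Y.Opens, ι.hom.app (op U) ≫ uh.app U = u.app U ≫ ι'.hom.app (op (q ⁻¹ᵁ U))) :
    IsCompQ (RelProj.QGrHom.ofHom ι hι) uh (postHom u ι' hι') where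
  base _ := rfl
  comp U hU V hV W hW h₁ h₂ h₃ a :=
    (congr($((huh U).symm =≫ 𝒮h'.presheaf.map (homOfLE h₃).op) a)).trans
      (gradedAt_res_left_apply uh hU hV W hW h₁ h₂ ((ι.hom.app (op U)).hom a))

variable {PC PC' P P' : Scheme.{u}} {pC : PC ⟶ Y}
  {chartC : ∀ (U : Y.Opens) (hU : IsAffineOpen U), (((pC ⁻¹ᵁ U : PC.Opens) : Scheme.{u}) ≅ Proj (𝒮h.deg U hU))}
  {pC' : PC' ⟶ Y'}
  {chartC' : ∀ (U : Y'.Opens) (hU : IsAffineOpen U), (((pC' ⁻¹ᵁ U : PC'.Opens) : Scheme.{u}) ≅ Proj (𝒮h'.deg U hU))}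
  {p : P ⟶ Y}
  {chart : ∀ (U : Y.Opens) (hU : IsAffineOpen U), (((p ⁻¹ᵁ U : P.Opens) : Scheme.{u}) ≅ Proj (𝒮.deg U hU))}
  {p' : P' ⟶ Y'}
  {chart' : ∀ (U : Y'.Opens) (hU : IsAffineOpen U), (((p' ⁻¹ᵁ U : P'.Opens) : Scheme.{u}) ≅ Proj (𝒮'.deg U hU))}

theorem cone_retraction
    (huh : ∀ U : Y.Opens, ι.hom.app (op U) ≫ uh.app U = u.app U ≫ ι'.hom.app (op (q ⁻¹ᵁ U)))
    (hP : RelProj.IsRelProj 𝒮 p chart) (hP' : RelProj.IsRelProj 𝒮' p' chart')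
    (hC : RelProj.IsRelProj 𝒮h pC chartC) (hC' : RelProj.IsRelProj 𝒮h' pC' chartC')
    {Φh : ((RelProj.domQ uh pC' chartC' : PC'.Opens) : Scheme.{u}) ⟶ PC}
    (hΦh : RelProj.IsProjQMapOn uh pC chartC pC' chartC' (RelProj.domQ uh pC' chartC') Φh)
    {Φ : ((RelProj.domQ u p' chart' : P'.Opens) : Scheme.{u}) ⟶ P}
    (hΦ : RelProj.IsProjQMapOn u p chart p' chart' (RelProj.domQ u p' chart') Φ)
    {W : PC.Opens} (hW : W = RelProj.domQ (RelProj.QGrHom.ofHom ι hι) pC chartC)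
    {r : (W : Scheme.{u}) ⟶ P}
    (hr : RelProj.IsProjQMapOn (RelProj.QGrHom.ofHom ι hι) p chart pC chartC W r)
    {W' : PC'.Opens} (hW' : W' = RelProj.domQ (RelProj.QGrHom.ofHom ι' hι') pC' chartC')
    {r' : (W' : Scheme.{u}) ⟶ P'}
    (hr' : RelProj.IsProjQMapOn (RelProj.QGrHom.ofHom ι' hι') p' chart' pC' chartC' W' r')
    (T : Scheme.{u}) (a : T ⟶ (W' : Scheme.{u}))
    (b : T ⟶ ((RelProj.domQ uh pC' chartC' : PC'.Opens) : Scheme.{u})) (c : T ⟶ (W : Scheme.{u}))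
    (hab : a ≫ W'.ι = b ≫ (RelProj.domQ uh pC' chartC').ι) (hbc : b ≫ Φh = c ≫ W.ι) :
    Set.range (a ≫ r').base ⊆ ((RelProj.domQ u p' chart' : P'.Opens) : Set P') ∧
      ∀ d : T ⟶ ((RelProj.domQ u p' chart' : P'.Opens) : Scheme.{u}),
        a ≫ r' = d ≫ (RelProj.domQ u p' chart').ι → c ≫ r = d ≫ Φ := by
  subst hW hW'
  have h1 : IsCompQ (RelProj.QGrHom.ofHom ι hι) uh (postHom u ι' hι') := isCompQ_square huh
  have h2 := isCompQ_postHom u ι' hι'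
  have hb : Set.range (b ≫ (RelProj.domQ uh pC' chartC').ι) ⊆
      Set.range (RelProj.domQ (postHom u ι' hι') pC' chartC').ι := by
    rw [Scheme.Opens.range_ι]
    rintro _ ⟨t, rfl⟩
    refine (h1.mem_domQ_iff' hC hC' hΦh (b t)).2 ?_
    rw [← Scheme.Hom.comp_apply, hbc]
    exact (c t).2
  set e := IsOpenImmersion.lift _ _ hb
  have he : e ≫ (RelProj.domQ (postHom u ι' hι') pC' chartC').ι = b ≫ (RelProj.domQ uh pC' chartC').ι :=
    IsOpenImmersion.lift_fac _ _ _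
  refine ⟨?_, fun d hd => ?_⟩
  · rintro _ ⟨t, rfl⟩
    refine (h2.mem_domQ_iff' hP' hC' hr' (a t)).1 ?_
    have : (a t).1 = (e t).1 := congr($(hab.trans he.symm) t)
    rw [this]
    exact (e t).2
  · obtain ⟨w, hw, -⟩ := existsUnique_projQMap (postHom u ι' hι') (chart := chart) hC' hP
    have hw' := hw
    rw [h1.lift_comp hC hC' hΦh b c hbc e he, h2.lift_comp hP' hC' hr' a d hd e (he.trans hab.symm),
      Category.assoc, Category.assoc, h1.mor_comp hC hC' hΦh hr hw', h2.mor_comp hP' hC' hr' hΦ hw']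

end retraction

section infinity

variable {𝒮 : RelProj.QCGrAlg Y} {𝒮' : RelProj.QCGrAlg Y'} {u : RelProj.QGrHom q 𝒮 𝒮'}
  {𝒮h : RelProj.QCGrAlg Y} {ι : 𝒮.toQCAlg ⟶ 𝒮h.toQCAlg} {z : 𝒮h.presheaf.obj (op ⊤)}
  {θ : 𝒮h.toQCAlg ⟶ 𝒮.toQCAlg} {hθ : RelProj.IsGradedHom θ}
  {𝒮h' : RelProj.QCGrAlg Y'} {ι' : 𝒮'.toQCAlg ⟶ 𝒮h'.toQCAlg} {z' : 𝒮h'.presheaf.obj (op ⊤)}
  {θ' : 𝒮h'.toQCAlg ⟶ 𝒮'.toQCAlg} {hθ' : RelProj.IsGradedHom θ'}
  {uh : RelProj.QGrHom q 𝒮h 𝒮h'}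

theorem retr_apply {Z : Scheme.{u}} {A B : RelSpec.QCAlg Z} {i : A ⟶ B} {t : B ⟶ A} (h : i ≫ t = 𝟙 _)
    (U : Z.Opens) (x : A.presheaf.obj (op U)) : (t.hom.app (op U)).hom ((i.hom.app (op U)).hom x) = x :=
  congr((($h).hom.app (op U)).hom x)

theorem apply_restrictTop_eq_zero {Z : Scheme.{u}} {A B : RelProj.QCGrAlg Z} (t : A.toQCAlg ⟶ B.toQCAlg)
    {w : A.presheaf.obj (op ⊤)} (h : (t.hom.app (op ⊤)).hom w = 0) (U : Z.Opens) :
    (t.hom.app (op U)).hom (RelCone.restrictTop A w U) = 0 := by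
  have e := congr($(t.hom.naturality (homOfLE (le_top : U ≤ ⊤)).op) w)
  simp only [CommRingCat.comp_apply] at e
  rw [e, h, map_zero]

theorem isCompQ_infinity (hz : RelCone.IsPolyOver 𝒮 𝒮h ι z)
    (huh : ∀ U : Y.Opens, ι.hom.app (op U) ≫ uh.app U = u.app U ≫ ι'.hom.app (op (q ⁻¹ᵁ U)))
    (huhz : (uh.app ⊤).hom z = RelCone.restrictTop 𝒮h' z' (q ⁻¹ᵁ ⊤))
    (hθι : ι ≫ θ = 𝟙 _) (hθz : (θ.hom.app (op ⊤)).hom z = 0)
    (hθι' : ι' ≫ θ' = 𝟙 _) (hθz' : (θ'.hom.app (op ⊤)).hom z' = 0) :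
    IsCompQ uh (RelProj.QGrHom.ofHom θ' hθ') (preHom θ hθ u) where
  base _ := rfl
  comp U hU V hV W hW h₁ h₂ h₃ a := by
    have key : (u.appLE U W h₃).hom.comp (θ.hom.app (op U)).hom =
        (θ'.hom.app (op W)).hom.comp (uh.appLE U W h₃).hom := by
      refine poly_ext hz hU (fun x => ?_) ?_
      · simp only [RingHom.comp_apply]
        rw [retr_apply hθι]
        have e := congr($(uh_ι huh U W h₃) x)
        simp only [CommRingCat.comp_apply] at e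
        rw [e, retr_apply hθι']
      · simp only [RingHom.comp_apply]
        rw [apply_restrictTop_eq_zero θ hθz, map_zero, uh_z huhz, apply_restrictTop_eq_zero θ' hθz']
    have e1 : (preHom θ hθ u).gradedAt U hU W hW h₃ a = (θ'.hom.app (op W)).hom ((uh.appLE U W h₃).hom a) :=
      congr($key a)
    rw [e1]
    show (θ'.hom.app (op W)).hom ((uh.gradedAt U hU W hW h₃) a) =
      (𝒮'.presheaf.map (homOfLE h₂).op).hom ((θ'.hom.app (op V)).hom (uh.gradedAt U hU V hV h₁ a))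
    rw [gradedAt_res_right_apply uh U hU hV hW h₁ (show W ≤ V from h₂) a]
    exact congr($(θ'.hom.naturality (homOfLE (show W ≤ V from h₂)).op) _)

variable {PC PC' P P' : Scheme.{u}} {pC : PC ⟶ Y}
  {chartC : ∀ (U : Y.Opens) (hU : IsAffineOpen U), (((pC ⁻¹ᵁ U : PC.Opens) : Scheme.{u}) ≅ Proj (𝒮h.deg U hU))}
  {pC' : PC' ⟶ Y'}
  {chartC' : ∀ (U : Y'.Opens) (hU : IsAffineOpen U), (((pC' ⁻¹ᵁ U : PC'.Opens) : Scheme.{u}) ≅ Proj (𝒮h'.deg U hU))}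
  {p : P ⟶ Y}
  {chart : ∀ (U : Y.Opens) (hU : IsAffineOpen U), (((p ⁻¹ᵁ U : P.Opens) : Scheme.{u}) ≅ Proj (𝒮.deg U hU))}
  {p' : P' ⟶ Y'}
  {chart' : ∀ (U : Y'.Opens) (hU : IsAffineOpen U), (((p' ⁻¹ᵁ U : P'.Opens) : Scheme.{u}) ≅ Proj (𝒮'.deg U hU))}

theorem cone_infinity (hz : RelCone.IsPolyOver 𝒮 𝒮h ι z)
    (huh : ∀ U : Y.Opens, ι.hom.app (op U) ≫ uh.app U = u.app U ≫ ι'.hom.app (op (q ⁻¹ᵁ U)))
    (huhz : (uh.app ⊤).hom z = RelCone.restrictTop 𝒮h' z' (q ⁻¹ᵁ ⊤))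
    (hθι : ι ≫ θ = 𝟙 _) (hθz : (θ.hom.app (op ⊤)).hom z = 0)
    (hθι' : ι' ≫ θ' = 𝟙 _) (hθz' : (θ'.hom.app (op ⊤)).hom z' = 0)
    (hP : RelProj.IsRelProj 𝒮 p chart) (hP' : RelProj.IsRelProj 𝒮' p' chart')
    (hC : RelProj.IsRelProj 𝒮h pC chartC) (hC' : RelProj.IsRelProj 𝒮h' pC' chartC')
    {Φh : ((RelProj.domQ uh pC' chartC' : PC'.Opens) : Scheme.{u}) ⟶ PC}
    (hΦh : RelProj.IsProjQMapOn uh pC chartC pC' chartC' (RelProj.domQ uh pC' chartC') Φh)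
    {Φ : ((RelProj.domQ u p' chart' : P'.Opens) : Scheme.{u}) ⟶ P}
    (hΦ : RelProj.IsProjQMapOn u p chart p' chart' (RelProj.domQ u p' chart') Φ)
    {jX : P ⟶ PC} (hjX : RelProj.IsProjQMap (RelProj.QGrHom.ofHom θ hθ) pC chartC p chart jX)
    {jX' : P' ⟶ PC'} (hjX' : RelProj.IsProjQMap (RelProj.QGrHom.ofHom θ' hθ') pC' chartC' p' chart' jX')
    (T : Scheme.{u}) (d : T ⟶ ((RelProj.domQ u p' chart' : P'.Opens) : Scheme.{u}))
    (e : T ⟶ ((RelProj.domQ uh pC' chartC' : PC'.Opens) : Scheme.{u}))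
    (hde : d ≫ (RelProj.domQ u p' chart').ι ≫ jX' = e ≫ (RelProj.domQ uh pC' chartC').ι) :
    jX'.base '' ((RelProj.domQ u p' chart' : P'.Opens) : Set P') ⊆
        ((RelProj.domQ uh pC' chartC' : PC'.Opens) : Set PC') ∧
      e ≫ Φh = d ≫ Φ ≫ jX := by
  have h1 := isCompQ_preHom θ hθ u
  have h2 : IsCompQ uh (RelProj.QGrHom.ofHom θ' hθ') (preHom θ hθ u) :=
    isCompQ_infinity hz huh huhz hθι hθz hθι' hθz'
  have hle : RelProj.domQ u p' chart' ≤ RelProj.domQ (preHom θ hθ u) p' chart' := by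
    intro x hx
    obtain ⟨U, hU, U', hU', hle, k, a, hk, ha, hxa⟩ := (mem_domQ u).1 hx
    have e' : (preHom θ hθ u).gradedAt U hU U' hU' hle ((ι.hom.app (op U)).hom a) =
        u.gradedAt U hU U' hU' hle a := congrArg (u.gradedAt U hU U' hU' hle) (retr_apply hθι U a)
    rw [← e'] at hxa
    exact pbasic_le_domQ _ hle hk (hz.graded U hU k a ha) hxa
  have hv := isProjQMapOn_of_isProjQMap _ hjX'
  have hv1 := isProjQMapOn_of_isProjQMap _ hjX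
  refine ⟨?_, ?_⟩
  · rintro _ ⟨x, hx, rfl⟩
    exact (h2.mem_domQ_iff' hC' hP' hv ⟨x, hjX'.1.symm ▸ trivial⟩).1 (hle hx)
  · obtain ⟨w, hw, -⟩ := existsUnique_projQMap (preHom θ hθ u) (chart := chartC) hP' hC
    let e0 := d ≫ P'.homOfLE hle
    have he0 : e0 ≫ (RelProj.domQ (preHom θ hθ u) p' chart').ι = d ≫ (RelProj.domQ u p' chart').ι := by
      rw [Category.assoc, Scheme.homOfLE_ι]
    let b := e0 ≫ P'.homOfLE (h2.domQ_le hP')
    have hb : b ≫ (RelProj.domQ (RelProj.QGrHom.ofHom θ' hθ') p' chart').ι = d ≫ (RelProj.domQ u p' chart').ι := by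
      rw [Category.assoc, Scheme.homOfLE_ι, he0]
    rw [h2.lift_comp hC' hP' hv b e (by rw [reassoc_of% hb, hde]) e0 (he0.trans hb.symm),
      Category.assoc, h2.mor_comp hC' hP' hv hΦh hw]
    haveI := isIso_ι_of_eq_top hjX.1
    let c := d ≫ Φ ≫ inv (RelProj.domQ (RelProj.QGrHom.ofHom θ hθ) p chart).ι
    have hc : c ≫ (RelProj.domQ (RelProj.QGrHom.ofHom θ hθ) p chart).ι = d ≫ Φ := by
      simp only [c, Category.assoc, IsIso.inv_hom_id, Category.comp_id]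
    rw [← reassoc_of% hc, h1.lift_comp hP hP' hΦ d c hc.symm e0 he0, Category.assoc e0,
      h1.mor_comp hP hP' hΦ hv1 hw]

end infinity

end Groth.Agent.ProjQ
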