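import Groth.Agent.ProjQ.Dom

/-!
# Properties of `Proj(u)`
-/

universe u

open CategoryTheory CategoryTheory.Limits AlgebraicGeometry TopologicalSpace Opposite HomogeneousLocalization
open scoped HomogeneousIdeal

set_option linter.style.haveILetI false
set_option backward.isDefEq.respectTransparency false
set_option backward.isDefEq.respectTransparency.types false

noncomputable section

namespace Groth.Agent.ProjQ

open Groth.Agent

section chartsOfP

variable {S P : Scheme.{u}} {𝒜 : RelProj.QCGrAlg S} {p : P ⟶ S}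
  {chart : ∀ (U : S.Opens) (hU : IsAffineOpen U), (((p ⁻¹ᵁ U : P.Opens) : Scheme.{u}) ≅ Proj (𝒜.deg U hU))}

/-- The structure map of a standard chart. -/
def chartStr (U : S.Opens) (hU : IsAffineOpen U) (f : 𝒜.presheaf.obj (op U)) :
    Γ(S, U) ⟶ CommRingCat.of (Away (𝒜.deg U hU) f) :=
  𝒜.strZero U hU ≫ CommRingCat.ofHom (fromZeroRingHom (𝒜.deg U hU) _)

theorem emb_comp (hP : RelProj.IsRelProj 𝒜 p chart) (U : S.Opens) (hU : IsAffineOpen U) :
    RelProj.emb p chart U hU ≫ p =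
      Proj.toSpecZero (𝒜.deg U hU) ≫ Spec.map (𝒜.strZero U hU) ≫ hU.fromSpec := by
  rw [RelProj.emb, Category.assoc, ← hP.chart_over U hU, Iso.inv_hom_id_assoc]

theorem stdChart_comp (hP : RelProj.IsRelProj 𝒜 p chart) {U : S.Opens} (hU : IsAffineOpen U) {d : ℕ} (hd : 0 < d)
    (f : 𝒜.presheaf.obj (op U)) (hf : f ∈ 𝒜.deg U hU d) :
    RelQuot.stdChart chart U hU hd f hf ≫ p = Spec.map (chartStr U hU f) ≫ hU.fromSpec := by
  rw [RelQuot.stdChart, Category.assoc, emb_comp hP U hU, Proj.awayι_toSpecZero_assoc, chartStr,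
    Spec.map_comp_assoc]

theorem exists_mem_pbasic (x : P) {U : S.Opens} (hU : IsAffineOpen U) (hx : p x ∈ U) :
    ∃ (d : ℕ) (f : 𝒜.presheaf.obj (op U)), 0 < d ∧ f ∈ 𝒜.deg U hU d ∧ x ∈ pbasic chart U hU f := by
  obtain ⟨w, rfl⟩ := exists_emb (chart := chart) hU hx
  by_contra! h
  refine w.not_irrelevant_le (?_ : (HomogeneousIdeal.irrelevant (𝒜.deg U hU)).toIdeal ≤ w.asHomogeneousIdeal.toIdeal)
  refine (HomogeneousIdeal.toIdeal_irrelevant_le _).2 fun i hi a ha => ?_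
  by_contra haw
  exact h i a hi ha (emb_mem_pbasic.2 haw)

/-- The standard charts, indexed. -/
structure ChartIdx (𝒜 : RelProj.QCGrAlg S) where
  U : S.Opens
  hU : IsAffineOpen U
  d : ℕ
  hd : 0 < d
  f : 𝒜.presheaf.obj (op U)
  hf : f ∈ 𝒜.deg U hU d

variable (chart) in
/-- The cover of a relative `Proj` by the standard charts. -/
def stdCover : P.OpenCover :=
  Scheme.Cover.mkOfCovers (ChartIdx 𝒜) (fun i => Spec (.of (Away (𝒜.deg i.U i.hU) i.f)))
    (fun i => RelQuot.stdChart chart i.U i.hU i.hd i.f i.hf)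
    (fun x => by
      obtain ⟨U, hU, hxU, -⟩ := exists_isAffineOpen_mem_and_subset (X := S) (x := p x) (U := ⊤) trivial
      obtain ⟨d, f, hd, hf, hxf⟩ := exists_mem_pbasic (chart := chart) x hU hxU
      have hx : x ∈ Set.range (RelQuot.stdChart chart U hU hd f hf) := by rw [range_stdChart]; exact hxf
      exact ⟨⟨U, hU, d, hd, f, hf⟩, hx⟩)
    (fun i => inferInstanceAs (IsOpenImmersion (RelQuot.stdChart chart i.U i.hU i.hd i.f i.hf)))

/-- A property local at the target can be checked on pullbacks to the standard charts. -/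
theorem of_stdCharts (Pr : MorphismProperty Scheme.{u}) [IsZariskiLocalAtTarget Pr] {Z : Scheme.{u}} (r : Z ⟶ P)
    (h : ∀ (U : S.Opens) (hU : IsAffineOpen U) (d : ℕ) (hd : 0 < d) (f : 𝒜.presheaf.obj (op U))
      (hf : f ∈ 𝒜.deg U hU d), ∃ (T : Scheme.{u}) (a : T ⟶ Spec (.of (Away (𝒜.deg U hU) f))) (b : T ⟶ Z),
        IsPullback a b (RelQuot.stdChart chart U hU hd f hf) r ∧ Pr a) : Pr r := by
  refine IsZariskiLocalAtTarget.of_openCover (stdCover chart) fun i => ?_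
  obtain ⟨U, hU, d, hd, f, hf⟩ := i
  obtain ⟨T, a, b, sq, ha⟩ := h U hU d hd f hf
  change Pr (pullback.snd r (RelQuot.stdChart chart U hU hd f hf))
  rw [← sq.flip.isoPullback_inv_snd]
  exact (MorphismProperty.cancel_left_of_respectsIso Pr _ _).mpr ha

end chartsOfP

variable {S S' : Scheme.{u}} {g : S' ⟶ S} {𝒮 : RelProj.QCGrAlg S} {𝒮' : RelProj.QCGrAlg S'}
  (u : RelProj.QGrHom g 𝒮 𝒮')
  {P : Scheme.{u}} {p : P ⟶ S}
  {chart : ∀ (U : S.Opens) (hU : IsAffineOpen U), (((p ⁻¹ᵁ U : P.Opens) : Scheme.{u}) ≅ Proj (𝒮.deg U hU))}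
  {P' : Scheme.{u}} {p' : P' ⟶ S'}
  {chart' : ∀ (U : S'.Opens) (hU : IsAffineOpen U), (((p' ⁻¹ᵁ U : P'.Opens) : Scheme.{u}) ≅ Proj (𝒮'.deg U hU))}
  (hP : RelProj.IsRelProj 𝒮 p chart) (hP' : RelProj.IsRelProj 𝒮' p' chart')

theorem chartStr_awayMap (U : S.Opens) (hU : IsAffineOpen U) (U' : S'.Opens) (hU' : IsAffineOpen U')
    (hle : U' ≤ g ⁻¹ᵁ U) (f : 𝒮.presheaf.obj (op U)) :
    chartStr U hU f ≫ CommRingCat.ofHom (Away.map (u.gradedAt U hU U' hU' hle) f) =
      g.appLE U U' hle ≫ chartStr U' hU' (u.gradedAt U hU U' hU' hle f) := by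
  refine CommRingCat.hom_ext (RingHom.ext fun r => ?_)
  apply HomogeneousLocalization.val_injective
  simp only [chartStr, CommRingCat.hom_comp, CommRingCat.hom_ofHom, RingHom.comp_apply,
    HomogeneousLocalization.Away.map, HomogeneousLocalization.fromZeroRingHom, RingHom.coe_mk,
    MonoidHom.coe_mk, OneHom.coe_mk, HomogeneousLocalization.map_mk, HomogeneousLocalization.val_mk]
  refine congr_arg₂ Localization.mk ?_ (Subtype.ext (map_one _))
  exact congr($(u.toQHom.str_appLE U U' hle) r)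

include hP hP' in
theorem piece_comp (i : Idx (g := g) (𝒮 := 𝒮)) :
    (idxPiece u chart chart' i).v ≫ p = (idxPiece u chart chart' i).c ≫ p' ≫ g := by
  simp only [idxPiece, piece]
  rw [Category.assoc, stdChart_comp hP i.hU i.hd i.f i.hf, ← Category.assoc _ p',
    stdChart_comp hP' i.hU' i.hd _ _, ← Spec.map_comp_assoc, chartStr_awayMap u i.U i.hU i.U' i.hU' i.hle i.f,
    Spec.map_comp_assoc, Category.assoc, i.hU.SpecMap_appLE_fromSpec g i.hU' i.hle]

variable {v : ((RelProj.domQ u p' chart' : P'.Opens) : Scheme.{u}) ⟶ P}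
  (hv : RelProj.IsProjQMapOn u p chart p' chart' (RelProj.domQ u p' chart') v)

include hP hP' hv in
theorem projQMap_comp : v ≫ p = (RelProj.domQ u p' chart').ι ≫ p' ≫ g := by
  refine (domCover u chart chart').hom_ext _ _ fun i => ?_
  show idxLift u chart chart' i ≫ v ≫ p = idxLift u chart chart' i ≫ _
  rw [reassoc_of% ((isProjQMapOn_iff u v).1 hv i), reassoc_of% (idxLift_ι u i)]
  exact piece_comp u hP hP' i

/-- The preimage of a standard open on a standard piece. -/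
theorem piece_mem_pbasic (i : Idx (g := g) (𝒮 := 𝒮)) (z : (idxPiece u chart chart' i).T) {e : ℕ} (he : 0 < e)
    (a : 𝒮.presheaf.obj (op i.U)) (ha : a ∈ 𝒮.deg i.U i.hU e) :
    (idxPiece u chart chart' i).v z ∈ pbasic chart i.U i.hU a ↔
      (idxPiece u chart chart' i).c z ∈ pbasic chart' i.U' i.hU' (u.gradedAt i.U i.hU i.U' i.hU' i.hle a) := by
  obtain ⟨U, hU, U', hU', hle, d, hd, f, hf⟩ := i
  simp only [idxPiece, piece, RelQuot.stdChart, Scheme.Hom.comp_apply, emb_mem_pbasic]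
  have h1 := Proj.awayι_preimage_basicOpen (𝒮.deg U hU) hf hd ha he
  have h2 := Proj.awayι_preimage_basicOpen (𝒮'.deg U' hU') ((u.gradedAt U hU U' hU' hle).map_mem hf) hd
    ((u.gradedAt U hU U' hU' hle).map_mem ha) he
  refine (SetLike.ext_iff.1 h1 _).trans (Iff.trans ?_ (SetLike.ext_iff.1 h2 z).symm)
  show Away.map (u.gradedAt U hU U' hU' hle) f (Away.isLocalizationElem hf ha) ∉ z.asIdeal ↔
    Away.isLocalizationElem ((u.gradedAt U hU U' hU' hle).map_mem hf) ((u.gradedAt U hU U' hU' hle).map_mem ha) ∉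
      z.asIdeal
  rw [Away.isLocalizationElem, Away.map_mk]
  simp only [map_pow]
  rfl

include hP hP' hv in
theorem apply_mem_iff (x : ((RelProj.domQ u p' chart' : P'.Opens) : Scheme.{u})) {U : S.Opens}
    (hU : IsAffineOpen U) {U' : S'.Opens} (hU' : IsAffineOpen U') (hle : U' ≤ g ⁻¹ᵁ U) (hx : p' x.1 ∈ U')
    {e : ℕ} (he : 0 < e) (a : 𝒮.presheaf.obj (op U)) (ha : a ∈ 𝒮.deg U hU e) :
    v x ∈ pbasic chart U hU a ↔ x.1 ∈ pbasic chart' U' hU' (u.gradedAt U hU U' hU' hle a) := by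
  obtain ⟨d, f, hd, hf, hxf⟩ := (mem_domQ_iff u hP' hU hU' hle hx).1 x.2
  let i : Idx (g := g) (𝒮 := 𝒮) := ⟨U, hU, U', hU', hle, d, hd, f, hf⟩
  obtain ⟨z, hz⟩ : x.1 ∈ Set.range (idxPiece u chart chart' i).c := by
    rw [idxPiece, range_piece]; exact hxf
  have hzx : idxLift u chart chart' i z = x := by
    refine (RelProj.domQ u p' chart').ι.isOpenEmbedding.injective ?_
    rw [← Scheme.Hom.comp_apply, idxLift_ι]
    exact hz
  rw [← hzx, ← Scheme.Hom.comp_apply, (isProjQMapOn_iff u v).1 hv i, hzx, ← hz]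
  exact piece_mem_pbasic u i z he a ha

include hP hP' hv in
theorem apply_mem_base (x : ((RelProj.domQ u p' chart' : P'.Opens) : Scheme.{u})) : p (v x) = g (p' x.1) := by
  rw [← Scheme.Hom.comp_apply, projQMap_comp u hP hP' hv]
  rfl

include hP hP' hv in
/-- The preimage of a standard open. -/
theorem preimage_pbasic {U : S.Opens} (hU : IsAffineOpen U) {e : ℕ} (he : 0 < e) (a : 𝒮.presheaf.obj (op U))
    (ha : a ∈ 𝒮.deg U hU e) :
    (RelProj.domQ u p' chart').ι ''ᵁ (v ⁻¹ᵁ pbasic chart U hU a) =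
      ⨆ V : {V : S'.affineOpens // (V : S'.Opens) ≤ g ⁻¹ᵁ U},
        pbasic chart' V.1.1 V.1.2 (u.gradedAt U hU V.1.1 V.1.2 V.2 a) := by
  apply le_antisymm
  · rintro _ ⟨x, hx, rfl⟩
    obtain ⟨U', hU', hxU', hle⟩ := exists_affine_le (show p' x.1 ∈ g ⁻¹ᵁ U by
      show g (p' x.1) ∈ U
      rw [← apply_mem_base u hP hP' hv x]
      exact pbasic_le hx)
    exact Opens.mem_iSup.2 ⟨⟨⟨U', hU'⟩, hle⟩, (apply_mem_iff u hP hP' hv x hU hU' hle hxU' he a ha).1 hx⟩
  · refine iSup_le fun ⟨⟨U', hU'⟩, hle⟩ x hx => ?_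
    exact ⟨⟨x, pbasic_le_domQ u hle he ha hx⟩,
      (apply_mem_iff u hP hP' hv ⟨x, pbasic_le_domQ u hle he ha hx⟩ hU hU' hle (pbasic_le hx) he a ha).2 hx, rfl⟩

end Groth.Agent.ProjQ
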