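import Groth.Agent.ProjQ.Props

/-!
# `Proj(φ)` for a graded homomorphism over one base
-/

universe u

open CategoryTheory CategoryTheory.Limits AlgebraicGeometry TopologicalSpace Opposite HomogeneousLocalization
open scoped HomogeneousIdeal

set_option linter.style.haveILetI false
set_option backward.isDefEq.respectTransparency false
set_option backward.isDefEq.respectTransparency.types false

noncomputable section

namespace Groth.Agent.ProjQ

open Groth.Agent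

section general

variable {S S' : Scheme.{u}} {g : S' ⟶ S} {𝒮 : RelProj.QCGrAlg S} {𝒮' : RelProj.QCGrAlg S'}
  (u : RelProj.QGrHom g 𝒮 𝒮')
  {P : Scheme.{u}} {p : P ⟶ S}
  {chart : ∀ (U : S.Opens) (hU : IsAffineOpen U), (((p ⁻¹ᵁ U : P.Opens) : Scheme.{u}) ≅ Proj (𝒮.deg U hU))}
  {P' : Scheme.{u}} {p' : P' ⟶ S'}
  {chart' : ∀ (U : S'.Opens) (hU : IsAffineOpen U), (((p' ⁻¹ᵁ U : P'.Opens) : Scheme.{u}) ≅ Proj (𝒮'.deg U hU))}
  (hP : RelProj.IsRelProj 𝒮 p chart) (hP' : RelProj.IsRelProj 𝒮' p' chart')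
  {v : ((RelProj.domQ u p' chart' : P'.Opens) : Scheme.{u}) ⟶ P}
  (hv : RelProj.IsProjQMapOn u p chart p' chart' (RelProj.domQ u p' chart') v)

include hP hP' hv in
/-- When one piece fills the preimage of a standard open, its square is cartesian. -/
theorem isPullback_piece (i : Idx (g := g) (𝒮 := 𝒮))
    (h : ∀ x : ((RelProj.domQ u p' chart' : P'.Opens) : Scheme.{u}),
      v x ∈ pbasic chart i.U i.hU i.f → p' x.1 ∈ i.U') :
    IsPullback (Spec.map (CommRingCat.ofHom (Away.map (u.gradedAt i.U i.hU i.U' i.hU' i.hle) i.f)))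
      (idxLift u chart chart' i) (RelQuot.stdChart chart i.U i.hU i.hd i.f i.hf) v := by
  haveI : IsOpenImmersion (idxLift u chart chart' i) :=
    (domCover u chart chart').map_prop i
  refine IsOpenImmersion.isPullback _ _ _ _ ((isProjQMapOn_iff u v).1 hv i) ?_
  ext x
  simp only [Scheme.Hom.coe_opensRange, Scheme.Hom.coe_preimage, Set.mem_preimage]
  rw [range_stdChart, SetLike.mem_coe]
  symm
  constructor
  · rintro ⟨z, rfl⟩
    rw [← Scheme.Hom.comp_apply, (isProjQMapOn_iff u v).1 hv i]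
    exact (piece_mem_pbasic u i z i.hd i.f i.hf).2 (by
      rw [← SetLike.mem_coe, ← range_piece (chart := chart) (chart' := chart')
        (u.gradedAt i.U i.hU i.U' i.hU' i.hle) i.hd i.f i.hf]
      exact ⟨z, rfl⟩)
  · intro hx
    have hmem := (apply_mem_iff u hP hP' hv x i.hU i.hU' i.hle (h x hx) i.hd i.f i.hf).1 hx
    obtain ⟨z, hz⟩ : x.1 ∈ Set.range (idxPiece u chart chart' i).c := by
      rw [idxPiece, range_piece]; exact hmem
    refine ⟨z, (RelProj.domQ u p' chart').ι.isOpenEmbedding.injective ?_⟩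
    rw [← Scheme.Hom.comp_apply, idxLift_ι]
    exact hz

/-- An everywhere defined `Proj(u)` restricted to `G(u)`. -/
theorem isProjQMapOn_of_isProjQMap {h : P' ⟶ P} (hh : RelProj.IsProjQMap u p chart p' chart' h) :
    RelProj.IsProjQMapOn u p chart p' chart' (RelProj.domQ u p' chart')
      ((RelProj.domQ u p' chart').ι ≫ h) := by
  intro U hU U' hU' hle d hd f hf hW
  rw [IsOpenImmersion.lift_fac_assoc]
  exact hh.2 U hU U' hU' hle d hd f hf

theorem isIso_ι_of_eq_top {X : Scheme.{u}} {W : X.Opens} (h : W = ⊤) : IsIso W.ι := by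
  subst h
  exact inferInstanceAs (IsIso X.topIso.hom)

end general

section sameBase

variable {Y PA PB : Scheme.{u}} {𝒜 ℬ : RelProj.QCGrAlg Y} (φ : 𝒜.toQCAlg ⟶ ℬ.toQCAlg)
  (hφ : RelProj.IsGradedHom φ) {pA : PA ⟶ Y}
  {chartA : ∀ (U : Y.Opens) (hU : IsAffineOpen U), (((pA ⁻¹ᵁ U : PA.Opens) : Scheme.{u}) ≅ Proj (𝒜.deg U hU))}
  {pB : PB ⟶ Y}
  {chartB : ∀ (U : Y.Opens) (hU : IsAffineOpen U), (((pB ⁻¹ᵁ U : PB.Opens) : Scheme.{u}) ≅ Proj (ℬ.deg U hU))}
  (hA : RelProj.IsRelProj 𝒜 pA chartA) (hB : RelProj.IsRelProj ℬ pB chartB)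

include hB in
theorem mem_domQ_ofHom_iff {U : Y.Opens} (hU : IsAffineOpen U) {x : PB} (hx : pB x ∈ U) :
    x ∈ RelProj.domQ (RelProj.QGrHom.ofHom φ hφ) pB chartB ↔
      ∃ (e : ℕ) (a : 𝒜.presheaf.obj (op U)), 0 < e ∧ a ∈ 𝒜.deg U hU e ∧
        x ∈ pbasic chartB U hU (RelProj.gradedHomAt φ hφ U hU a) := by
  have h := mem_domQ_iff (RelProj.QGrHom.ofHom φ hφ) hB hU hU le_rfl hx
  rw [ofHom_gradedAt_self] at h
  exact h

include hB in
theorem domQ_ofHom_inf (U : Y.Opens) (hU : IsAffineOpen U) :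
    RelProj.domQ (RelProj.QGrHom.ofHom φ hφ) pB chartB ⊓ pB ⁻¹ᵁ U =
      RelProj.emb pB chartB U hU ''ᵁ RelCone.domOpen (RelProj.gradedHomAt φ hφ U hU) := by
  apply le_antisymm
  · rintro x ⟨hx, hxU⟩
    obtain ⟨w, rfl⟩ := exists_emb (chart := chartB) hU hxU
    obtain ⟨e, a, he, ha, hxa⟩ := (mem_domQ_ofHom_iff φ hφ hB hU hxU).1 hx
    exact ⟨w, (mem_domOpen_iff_homogeneous _ w).2 ⟨e, he, a, ha, emb_mem_pbasic.1 hxa⟩, rfl⟩
  · rintro _ ⟨w, hw, rfl⟩
    have hU' : RelProj.emb pB chartB U hU w ∈ pB ⁻¹ᵁ U := by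
      rw [← RelTildeX.opensRange_emb pB chartB U hU]; exact ⟨w, rfl⟩
    obtain ⟨d, hd, f, hf, hfw⟩ := (mem_domOpen_iff_homogeneous _ w).1 hw
    exact ⟨(mem_domQ_ofHom_iff φ hφ hB hU hU').2 ⟨d, f, hd, hf, emb_mem_pbasic.2 hfw⟩, hU'⟩

include hA hB in
/-- A property local at the target holds for `Proj(φ)` if it holds on the standard charts. -/
theorem ofHom_of_away (Pr : MorphismProperty Scheme.{u}) [IsZariskiLocalAtTarget Pr]
    {Φ : ((RelProj.domQ (RelProj.QGrHom.ofHom φ hφ) pB chartB : PB.Opens) : Scheme.{u}) ⟶ PA}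
    (hΦ : RelProj.IsProjQMapOn (RelProj.QGrHom.ofHom φ hφ) pA chartA pB chartB
      (RelProj.domQ (RelProj.QGrHom.ofHom φ hφ) pB chartB) Φ)
    (h : ∀ (U : Y.Opens) (hU : IsAffineOpen U) (d : ℕ) (f : 𝒜.presheaf.obj (op U)), 0 < d → f ∈ 𝒜.deg U hU d →
      Pr (Spec.map (CommRingCat.ofHom (Away.map (RelProj.gradedHomAt φ hφ U hU) f)))) : Pr Φ := by
  refine of_stdCharts (chart := chartA) Pr Φ fun U hU d hd f hf => ?_
  refine ⟨_, _, _, isPullback_piece (RelProj.QGrHom.ofHom φ hφ) hA hB hΦ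
    ⟨U, hU, U, hU, le_rfl, d, hd, f, hf⟩ fun x hx => ?_, ?_⟩
  · have := pbasic_le hx
    change pA (Φ x) ∈ U at this
    rwa [apply_mem_base (RelProj.QGrHom.ofHom φ hφ) hA hB hΦ x] at this
  · have key : ∀ χ : 𝒜.deg U hU →+*ᵍ ℬ.deg U hU, χ = RelProj.gradedHomAt φ hφ U hU →
        Pr (Spec.map (CommRingCat.ofHom (Away.map χ f))) := by
      rintro _ rfl; exact h U hU d f hd hf
    exact key _ (ofHom_gradedAt_self φ hφ U hU)

include hA hB in
/-- The same for an everywhere defined `Proj(φ)`. -/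
theorem ofHom_of_away' (Pr : MorphismProperty Scheme.{u}) [IsZariskiLocalAtTarget Pr]
    {h : PB ⟶ PA} (hh : RelProj.IsProjQMap (RelProj.QGrHom.ofHom φ hφ) pA chartA pB chartB h)
    (hP : ∀ (U : Y.Opens) (hU : IsAffineOpen U) (d : ℕ) (f : 𝒜.presheaf.obj (op U)), 0 < d → f ∈ 𝒜.deg U hU d →
      Pr (Spec.map (CommRingCat.ofHom (Away.map (RelProj.gradedHomAt φ hφ U hU) f)))) : Pr h := by
  have h1 := ofHom_of_away φ hφ hA hB Pr (isProjQMapOn_of_isProjQMap _ hh) hP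
  haveI := isIso_ι_of_eq_top hh.1
  exact (MorphismProperty.cancel_left_of_respectsIso Pr _ _).mp h1

include hB in
theorem domQ_ofHom_eq_top_of_TN
    (hTN : ∃ n : ℕ, ∀ k, n ≤ k → ∀ (U : Y.Opens) (hU : IsAffineOpen U),
      ∀ y ∈ ℬ.deg U hU k, ∃ x ∈ 𝒜.deg U hU k, (φ.hom.app (op U)).hom x = y) :
    RelProj.domQ (RelProj.QGrHom.ofHom φ hφ) pB chartB = ⊤ := by
  obtain ⟨n, hn⟩ := hTN
  refine top_unique fun x _ => ?_
  obtain ⟨U, hU, hxU, -⟩ := exists_isAffineOpen_mem_and_subset (X := Y) (x := pB x) (U := ⊤) trivial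
  obtain ⟨d, b, hd, hb, hxb⟩ := exists_mem_pbasic (chart := chartB) x hU hxU
  obtain ⟨a, ha, e⟩ := hn ((n + 1) • d) (le_trans (Nat.le_succ n) (Nat.le_mul_of_pos_right _ hd)) U hU _
    (SetLike.pow_mem_graded (n + 1) hb)
  refine (mem_domQ_ofHom_iff φ hφ hB hU hxU).2 ⟨_, a, Nat.mul_pos (Nat.succ_pos n) hd, ha, ?_⟩
  obtain ⟨w, rfl⟩ := exists_emb (chart := chartB) hU hxU
  rw [emb_mem_pbasic] at hxb ⊢
  show ¬ (φ.hom.app (op U)).hom a ∈ w.asHomogeneousIdeal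
  rw [e]
  exact fun h => hxb (w.isPrime.mem_of_pow_mem _ h)

end sameBase

section away

variable {A B : Type u} [CommRing A] [CommRing B] {𝒜 : ℕ → AddSubgroup A} {ℬ : ℕ → AddSubgroup B}
  [GradedRing 𝒜] [GradedRing ℬ] (ψ : 𝒜 →+*ᵍ ℬ)

theorem awayMap_surjective_TN {d : ℕ} (hd : 0 < d) {f : A} (hf : f ∈ 𝒜 d) (n : ℕ)
    (h : ∀ k, n ≤ k → ∀ y ∈ ℬ k, ∃ x ∈ 𝒜 k, ψ x = y) : Function.Surjective (Away.map ψ f) := by
  intro z
  obtain ⟨m, b, hb, rfl⟩ := Away.mk_surjective ℬ (ψ.map_mem hf) z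
  have hb' : ψ f ^ n * b ∈ ℬ ((n + m) • d) := by
    rw [add_smul]; exact SetLike.mul_mem_graded (SetLike.pow_mem_graded n (ψ.map_mem hf)) hb
  obtain ⟨a, ha, e⟩ := h _ (le_trans (Nat.le_add_right n m) (Nat.le_mul_of_pos_right _ hd)) _ hb'
  refine ⟨Away.mk 𝒜 hf (n + m) a ha, ?_⟩
  rw [Away.map_mk]
  apply HomogeneousLocalization.val_injective
  rw [Away.val_mk, Away.val_mk, Localization.mk_eq_mk_iff, Localization.r_iff_exists]
  exact ⟨1, by simp [e, pow_add]; ring⟩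

theorem awayMap_injective_TN {d : ℕ} (hd : 0 < d) {f : A} (hf : f ∈ 𝒜 d) (n : ℕ)
    (h : ∀ k, n ≤ k → ∀ x ∈ 𝒜 k, ψ x = 0 → x = 0) : Function.Injective (Away.map ψ f) := by
  rw [injective_iff_map_eq_zero]
  intro z hz
  obtain ⟨m, a, ha, rfl⟩ := Away.mk_surjective 𝒜 hf z
  rw [Away.map_mk, ← (HomogeneousLocalization.val_injective _).eq_iff, Away.val_mk,
    HomogeneousLocalization.val_zero, Localization.mk_eq_mk', IsLocalization.mk'_eq_zero_iff] at hz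
  obtain ⟨⟨_, k, rfl⟩, hk⟩ := hz
  change ψ f ^ k * ψ a = 0 at hk
  apply HomogeneousLocalization.val_injective
  rw [Away.val_mk, HomogeneousLocalization.val_zero, Localization.mk_eq_mk', IsLocalization.mk'_eq_zero_iff]
  refine ⟨⟨f ^ (n + k), n + k, rfl⟩, ?_⟩
  have hm : f ^ (n + k) * a ∈ 𝒜 ((n + k + m) • d) := by
    rw [add_smul]; exact SetLike.mul_mem_graded (SetLike.pow_mem_graded _ hf) ha
  refine h _ ((Nat.le_add_right n (k + m)).trans ?_) _ hm ?_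
  · rw [← add_assoc]; exact Nat.le_mul_of_pos_right _ hd
  · rw [map_mul, map_pow, pow_add, mul_assoc, hk, mul_zero]

end away

end Groth.Agent.ProjQ
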