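import Groth.Agent.ProjQ.ConeS
import Groth.Agent.ProjQ.ConeR
import Groth.Agent.ProjQ.Props
import Groth.Agent.ProjQ.SameBase
import Groth.Agent.ConeX.Vertex
import Groth.Agent.ConeX.Pointed

/-!
# The affine cone, the vertex and the part at infinity inside the projective cone
-/

universe u

open CategoryTheory CategoryTheory.Limits AlgebraicGeometry TopologicalSpace Opposite HomogeneousLocalization
open scoped HomogeneousIdeal

set_option linter.style.haveILetI false
set_option backward.isDefEq.respectTransparency false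
set_option backward.isDefEq.respectTransparency.types false

noncomputable section

namespace Groth.Agent.ProjQ

open Groth.Agent

variable {S : Scheme.{u}} {𝒮 𝒮h : RelProj.QCGrAlg S} {ι : 𝒮.toQCAlg ⟶ 𝒮h.toQCAlg}
  {z : 𝒮h.presheaf.obj (op ⊤)} (hz : RelCone.IsPolyOver 𝒮 𝒮h ι z)

include hz in
/-- The coefficients of a homogeneous element of `𝒮[z]` are homogeneous. -/
theorem polyCoeff_mem {U : S.Opens} (hU : IsAffineOpen U) {n : ℕ} {y : 𝒮h.presheaf.obj (op U)}
    (hy : y ∈ 𝒮h.deg U hU n) :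
    (∀ j, j ≤ n → ((hz.polyEquiv U hU).symm y).coeff j ∈ 𝒮.deg U hU (n - j)) ∧
      ∀ j, ¬ j ≤ n → ((hz.polyEquiv U hU).symm y).coeff j = 0 := by
  classical
  set E := Polynomial.eval₂RingHom (ι.hom.app (op U)).hom (RelCone.restrictTop 𝒮h z U)
  set p := (hz.polyEquiv U hU).symm y with hp
  have hEp : E p = y := (hz.polyEquiv U hU).apply_symm_apply y
  let c : ℕ → 𝒮.presheaf.obj (op U) := fun j =>
    if j ≤ n then (DirectSum.decompose (𝒮.deg U hU) (p.coeff j) (n - j) : 𝒮.presheaf.obj (op U)) else 0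
  let p' : Polynomial (𝒮.presheaf.obj (op U)) := ∑ j ∈ p.support, Polynomial.monomial j (c j)
  have hEp' : E p' = y := by
    rw [← DirectSum.decompose_of_mem_same (𝒮h.deg U hU) hy]
    conv_rhs => rw [← hEp, p.as_sum_support, map_sum, DirectSum.decompose_sum]
    rw [map_sum, DFinsupp.finsetSum_apply, AddSubmonoidClass.coe_finsetSum]
    refine Finset.sum_congr rfl fun j _ => ?_
    have e : ∀ a, E (Polynomial.monomial j a) = (ι.hom.app (op U)).hom a * RelCone.restrictTop 𝒮h z U ^ j :=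
      fun a => Polynomial.eval₂_monomial _ _
    have hzj : RelCone.restrictTop 𝒮h z U ^ j ∈ 𝒮h.deg U hU j := by
      simpa using SetLike.pow_mem_graded j (hz.deg_z U hU)
    rw [e, e, DirectSum.coe_decompose_mul_of_right_mem _ n hzj]
    simp only [c]
    split_ifs with hjn
    · exact congrArg (· * RelCone.restrictTop 𝒮h z U ^ j)
        (GradedRingHom.map_directSumDecompose _ _ (RelProj.gradedHomAt ι hz.graded U hU))
    · rw [map_zero, zero_mul]
  have hpp : p' = p := (hz.bij U hU).1 (hEp'.trans hEp.symm)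
  have hcoeff : ∀ j ∈ p.support, p.coeff j = c j := by
    intro j hj
    conv_lhs => rw [← hpp]
    simp only [p', Polynomial.finsetSum_coeff, Polynomial.coeff_monomial]
    rw [Finset.sum_ite_eq', if_pos hj]
  have hmem : ∀ j, j ≤ n → p.coeff j ∈ 𝒮.deg U hU (n - j) := by
    intro j hj
    by_cases hjs : j ∈ p.support
    · rw [hcoeff j hjs]; simp only [c, if_pos hj]; exact SetLike.coe_mem _
    · rw [Polynomial.notMem_support_iff.1 hjs]; exact zero_mem _
  have hgt : ∀ j, ¬ j ≤ n → p.coeff j = 0 := by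
    intro j hj
    by_cases hjs : j ∈ p.support
    · rw [hcoeff j hjs]; exact if_neg hj
    · exact Polynomial.notMem_support_iff.1 hjs
  exact ⟨hmem, hgt⟩

include hz in
theorem evalOne_deg_eq_zero {U : S.Opens} (hU : IsAffineOpen U) {n : ℕ} {y : 𝒮h.presheaf.obj (op U)}
    (hy : y ∈ 𝒮h.deg U hU n) (h : hz.evalOne U hU y = 0) : y = 0 := by
  classical
  obtain ⟨hmem, hgt⟩ := polyCoeff_mem hz hU hy
  set E := Polynomial.eval₂RingHom (ι.hom.app (op U)).hom (RelCone.restrictTop 𝒮h z U)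
  set p := (hz.polyEquiv U hU).symm y with hp
  have hEp : E p = y := (hz.polyEquiv U hU).apply_symm_apply y
  have hsum : ∑ i ∈ p.support, p.coeff i = 0 := by
    have : p.eval 1 = 0 := h
    rw [Polynomial.eval_eq_sum, Polynomial.sum] at this
    simpa using this
  have hp0 : p = 0 := by
    ext j
    rw [Polynomial.coeff_zero]
    by_cases hj : j ≤ n
    · by_cases hjs : j ∈ p.support
      · have h0 := congrArg (GradedRing.proj (𝒮.deg U hU) (n - j)) hsum
        rw [map_sum, map_zero, Finset.sum_eq_single j, GradedRing.proj_apply,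
          DirectSum.decompose_of_mem_same _ (hmem j hj)] at h0
        · exact h0
        · intro i _ hij
          by_cases hin : i ≤ n
          · rw [GradedRing.proj_apply]
            exact DirectSum.decompose_of_mem_ne _ (hmem i hin) (show n - i ≠ n - j by omega)
          · rw [hgt i hin, map_zero]
        · exact fun hn => absurd hjs hn
      · exact Polynomial.notMem_support_iff.1 hjs
    · exact hgt j hj
  rw [← hEp, hp0, map_zero]

include hz in
/-- "Set `z = 0`". -/
def evalZero (U : S.Opens) (hU : IsAffineOpen U) : 𝒮h.deg U hU →+*ᵍ 𝒮.deg U hU :=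
  { (Polynomial.evalRingHom 0).comp (hz.polyEquiv U hU).symm.toRingHom with
    map_mem := fun {n y} hy => by
      show ((hz.polyEquiv U hU).symm y).eval 0 ∈ _
      rw [← Polynomial.coeff_zero_eq_eval_zero]
      exact (polyCoeff_mem hz hU hy).1 0 n.zero_le }

include hz in
theorem evalZero_ι (U : S.Opens) (hU : IsAffineOpen U) (a : 𝒮.presheaf.obj (op U)) :
    evalZero hz U hU ((ι.hom.app (op U)).hom a) = a := by
  have e : hz.polyEquiv U hU (Polynomial.C a) = (ι.hom.app (op U)).hom a := by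
    rw [hz.polyEquiv_apply, Polynomial.eval₂_C]
  show ((hz.polyEquiv U hU).symm _).eval 0 = a
  rw [← e, RingEquiv.symm_apply_apply, Polynomial.eval_C]

include hz in
theorem awayZToBase_bijective {U : S.Opens} (hU : IsAffineOpen U) :
    Function.Bijective (hz.awayZToBase U hU) := by
  classical
  refine ⟨(injective_iff_map_eq_zero _).2 fun q hq => ?_, fun a => ?_⟩
  · obtain ⟨n, x, hx, rfl⟩ := q.mk_surjective (𝒮h.deg U hU) (hz.deg_z U hU)
    rw [awayZToBase_mk] at hq
    have := evalOne_deg_eq_zero hz hU hx hq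
    apply HomogeneousLocalization.val_injective
    simp [Away.val_mk, this, Localization.mk_zero]
  · rw [← DirectSum.sum_support_decompose (𝒮.deg U hU) a]
    refine Finset.sum_induction _ (· ∈ Set.range (hz.awayZToBase U hU))
      (fun x y ⟨x', hx⟩ ⟨y', hy⟩ => ⟨x' + y', by rw [map_add, hx, hy]⟩) ⟨0, map_zero _⟩ fun i _ => ?_
    refine ⟨Away.mk _ (hz.deg_z U hU) i ((ι.hom.app (op U)).hom (DirectSum.decompose (𝒮.deg U hU) a i))
      (by simpa using hz.graded U hU i _ (SetLike.coe_mem _)), ?_⟩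
    rw [awayZToBase_mk, hz.evalOne_ι]

variable {PC : Scheme.{u}} {pC : PC ⟶ S}
  {chartC : ∀ (U : S.Opens) (hU : IsAffineOpen U), (((pC ⁻¹ᵁ U : PC.Opens) : Scheme.{u}) ≅ Proj (𝒮h.deg U hU))}
  {i : 𝒮.toQCAlg.spec ⟶ PC} (hi : RelCone.IsConeImm 𝒮 hz pC chartC i)

theorem coneImm_comp (hC : RelProj.IsRelProj 𝒮h pC chartC) (hi : RelCone.IsConeImm 𝒮 hz pC chartC i) :
    i ≫ pC = 𝒮.toQCAlg.π := by
  refine 𝒮.toQCAlg.glueData.cover.hom_ext _ _ fun V => ?_
  obtain ⟨U, hU⟩ := V
  show 𝒮.toQCAlg.ι U hU ≫ i ≫ pC = 𝒮.toQCAlg.ι U hU ≫ 𝒮.toQCAlg.π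
  rw [RelSpec.QCAlg.ι_π, reassoc_of% (hi U hU)]
  have := stdChart_comp hC hU one_pos (RelCone.restrictTop 𝒮h z U) (hz.deg_z U hU)
  rw [RelQuot.stdChart, Category.assoc] at this
  rw [this, ← Spec.map_comp_assoc]
  congr 2
  refine CommRingCat.hom_ext (RingHom.ext fun r => ?_)
  have e : (𝒮h.str.app (op U)).hom r = (ι.hom.app (op U)).hom ((𝒮.str.app (op U)).hom r) :=
    congr($(NatTrans.congr_app ι.comm.symm (op U)).hom r)
  show hz.awayZToBase U hU (fromZeroRingHom _ _ (𝒮h.strZero U hU r)) = (𝒮.str.app (op U)).hom r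
  refine (hz.awayZToBase_of_val U hU _ ((𝒮h.str.app (op U)).hom r) 0 ?_).trans ?_
  · simp only [pow_zero]; rfl
  · rw [e, hz.evalOne_ι]

include hi in
theorem mem_range_coneImm_iff (hC : RelProj.IsRelProj 𝒮h pC chartC) {U : S.Opens} (hU : IsAffineOpen U)
    {x : PC} (hx : pC x ∈ U) :
    x ∈ Set.range i ↔ x ∈ pbasic chartC U hU (RelCone.restrictTop 𝒮h z U) := by
  rw [← SetLike.mem_coe, ← range_stdChart (chart := chartC) hU one_pos _ (hz.deg_z U hU)]
  constructor
  · rintro ⟨c, rfl⟩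
    rw [← Scheme.Hom.comp_apply, coneImm_comp hz hC hi] at hx
    obtain ⟨y, rfl⟩ : c ∈ (𝒮.toQCAlg.ι U hU).opensRange := (𝒮.toQCAlg.π_preimage U hU).le hx
    rw [← Scheme.Hom.comp_apply, hi U hU]
    exact ⟨Spec.map (CommRingCat.ofHom (hz.awayZToBase U hU)) y, rfl⟩
  · rintro ⟨w, rfl⟩
    haveI : IsIso (CommRingCat.ofHom (hz.awayZToBase U hU)) :=
      (ConcreteCategory.isIso_iff_bijective _).2 (awayZToBase_bijective hz hU)
    let e := Spec.map (CommRingCat.ofHom (hz.awayZToBase U hU))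
    obtain ⟨y, rfl⟩ : ∃ y, e y = w :=
      (ConcreteCategory.bijective_of_isIso e.base).2 w
    exact ⟨𝒮.toQCAlg.ι U hU y, by rw [← Scheme.Hom.comp_apply, hi U hU]; rfl⟩

include hi in
/-- On the affine cone, `D₊(ι a)` is `D(a)`. -/
theorem coneImm_mem_pbasic_iff {U : S.Opens} (hU : IsAffineOpen U) (y : Spec (𝒮.presheaf.obj (op U))) {e : ℕ}
    {a : 𝒮.presheaf.obj (op U)} (ha : a ∈ 𝒮.deg U hU e) :
    i (𝒮.toQCAlg.ι U hU y) ∈ pbasic chartC U hU (RelProj.gradedHomAt ι hz.graded U hU a) ↔ a ∉ y.asIdeal := by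
  rw [← Scheme.Hom.comp_apply, hi U hU]
  set w := Spec.map (CommRingCat.ofHom (hz.awayZToBase U hU)) y
  show RelProj.emb pC chartC U hU (Proj.awayι _ _ (hz.deg_z U hU) one_pos w) ∈ _ ↔ _
  rw [emb_mem_pbasic]
  set q : Away (𝒮h.deg U hU) (RelCone.restrictTop 𝒮h z U) :=
    Away.mk _ (hz.deg_z U hU) e ((ι.hom.app (op U)).hom a) (by simpa using hz.graded U hU e a ha)
  refine Iff.trans ?_ (show hz.awayZToBase U hU q ∉ y.asIdeal ↔ a ∉ y.asIdeal by
    rw [awayZToBase_mk, hz.evalOne_ι])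
  rcases Nat.eq_zero_or_pos e with rfl | he
  · have hzy : RelCone.restrictTop 𝒮h z U ∉
        (Proj.awayι _ _ (hz.deg_z U hU) one_pos w).asHomogeneousIdeal := by
      have : Proj.awayι _ _ (hz.deg_z U hU) one_pos w ∈
          Proj.basicOpen (𝒮h.deg U hU) (RelCone.restrictTop 𝒮h z U) := by
        rw [← Proj.opensRange_awayι _ _ (hz.deg_z U hU) one_pos]; exact ⟨w, rfl⟩
      exact this
    have ha1 : RelProj.gradedHomAt ι hz.graded U hU a * RelCone.restrictTop 𝒮h z U ∈ 𝒮h.deg U hU 1 := by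
      have h01 := SetLike.mul_mem_graded (hz.graded U hU 0 a ha) (hz.deg_z U hU)
      rw [zero_add] at h01
      exact h01
    have h1 := Proj.awayι_preimage_basicOpen (𝒮h.deg U hU) (hz.deg_z U hU) one_pos ha1 one_pos
    have h2 := SetLike.ext_iff.1 h1 w
    have hq : Away.isLocalizationElem (hz.deg_z U hU) ha1 = q := by
      apply HomogeneousLocalization.val_injective
      simp only [q, Away.val_mk, Localization.mk_eq_mk_iff, Localization.r_iff_exists]
      exact ⟨1, by simp only [pow_one, pow_zero, one_mul, OneMemClass.coe_one, RelProj.gradedHomAt]; exact mul_comm _ _⟩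
    rw [hq] at h2
    refine Iff.trans ?_ h2
    refine ⟨fun h hm => ?_, fun h hm => h (Ideal.mul_mem_right _ _ hm)⟩
    exact ((Proj.awayι _ _ (hz.deg_z U hU) one_pos w).isPrime.mem_or_mem hm).elim h hzy
  · have h1 := Proj.awayι_preimage_basicOpen (𝒮h.deg U hU) (hz.deg_z U hU) one_pos
      (hz.graded U hU e a ha) he
    have h2 := SetLike.ext_iff.1 h1 w
    have hq : Away.isLocalizationElem (hz.deg_z U hU) (hz.graded U hU e a ha) = q := by
      apply HomogeneousLocalization.val_injective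
      simp only [q, Away.val_mk, Localization.mk_eq_mk_iff, Localization.r_iff_exists]
      exact ⟨1, by simp only [pow_one]⟩
    rw [hq] at h2
    exact h2

include hi in
theorem coneImm_mem_pointed_iff (hC : RelProj.IsRelProj 𝒮h pC chartC) (c : 𝒮.toQCAlg.spec) :
    i c ∈ RelCone.pointedProjCone 𝒮 hz pC chartC ↔ c ∈ RelCone.pointedCone 𝒮 := by
  obtain ⟨U, hU, hcU, -⟩ := exists_affine_le (show 𝒮.toQCAlg.π c ∈ (⊤ : S.Opens) from trivial)
  have hx : pC (i c) ∈ U := by rw [← Scheme.Hom.comp_apply, coneImm_comp hz hC hi]; exact hcU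
  obtain ⟨y, rfl⟩ : c ∈ (𝒮.toQCAlg.ι U hU).opensRange := (𝒮.toQCAlg.π_preimage U hU).le hcU
  rw [pointed_eq_domQ hz hC, mem_domQ_ofHom_iff ι hz.graded hC hU hx, ConeX.mem_pointedCone,
    ConeX.mem_vertexCompl]
  have key : ∀ {e : ℕ} {a : 𝒮.presheaf.obj (op U)}, a ∈ 𝒮.deg U hU e → _ :=
    fun ha => coneImm_mem_pbasic_iff hz hi hU y ha
  constructor
  · rintro ⟨e, a, he, ha, h⟩
    exact ⟨a, HomogeneousIdeal.mem_irrelevant_of_mem _ he ha, (key ha).1 h⟩
  · rintro ⟨a, ha, hay⟩
    have : ¬ ((𝒮.deg U hU)₊).toIdeal ≤ y.asIdeal := fun h => hay (h ha)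
    by_contra H
    refine this ((HomogeneousIdeal.toIdeal_irrelevant_le _).2 fun e he b hb => ?_)
    by_contra hby
    exact H ⟨e, b, he, hb, (key hb).2 hby⟩

include hi in
/-- The pointed projective cone is the complement of the vertex. -/
theorem pointedProjCone_eq (hC : RelProj.IsRelProj 𝒮h pC chartC) (h0 : RelCone.StrZeroBij 𝒮)
    {aug : 𝒮.toQCAlg ⟶ RelSpec.QCAlg.unit S} (haug : RelCone.IsAugmentation 𝒮 aug)
    {ε : S ⟶ 𝒮.toQCAlg.spec} (hε : RelCone.IsVertex 𝒮 aug ε) :
    ((RelCone.pointedProjCone 𝒮 hz pC chartC : PC.Opens) : Set PC) = (Set.range (ε ≫ i).base)ᶜ := by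
  have hP := ConeX.pointedCone_eq 𝒮 aug h0 haug hε
  ext x
  simp only [SetLike.mem_coe, Set.mem_compl_iff]
  constructor
  · rintro hx ⟨s, rfl⟩
    have : ε s ∈ RelCone.pointedCone 𝒮 := (coneImm_mem_pointed_iff hz hi hC (ε s)).1 hx
    rw [← SetLike.mem_coe, hP] at this
    exact this ⟨s, rfl⟩
  · intro hx
    obtain ⟨U, hU, hxU, -⟩ := exists_affine_le (show pC x ∈ (⊤ : S.Opens) from trivial)
    by_cases hxz : x ∈ pbasic chartC U hU (RelCone.restrictTop 𝒮h z U)
    · obtain ⟨c, rfl⟩ := (mem_range_coneImm_iff hz hi hC hU hxU).2 hxz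
      refine (coneImm_mem_pointed_iff hz hi hC c).2 ?_
      rw [← SetLike.mem_coe, hP]
      rintro ⟨s, rfl⟩
      exact hx ⟨s, rfl⟩
    · exact exists_mem_pbasic_ι hz hC hU hxU hxz

include hi in
/-- The image of the affine cone is the complement of the part at infinity. -/
theorem range_coneImm_eq (hC : RelProj.IsRelProj 𝒮h pC chartC)
    {θ : 𝒮h.toQCAlg ⟶ 𝒮.toQCAlg} {hθ : RelProj.IsGradedHom θ} (hιθ : ι ≫ θ = 𝟙 _)
    (hθz : (θ.hom.app (op ⊤)).hom z = 0)
    {hirr : ∀ (U : S.Opens) (hU : IsAffineOpen U),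
      (𝒮.deg U hU)₊ ≤ ((𝒮h.deg U hU)₊).map (RelProj.gradedHomAt θ hθ U hU)}
    {P : Scheme.{u}} {p : P ⟶ S}
    {chart : ∀ (U : S.Opens) (hU : IsAffineOpen U), (((p ⁻¹ᵁ U : P.Opens) : Scheme.{u}) ≅ Proj (𝒮.deg U hU))}
    {j : P ⟶ PC} (hj : RelProj.IsRelProjMap θ hθ hirr chartC chart j) :
    Set.range i.base = (Set.range j.base)ᶜ := by
  have hzU : ∀ U : S.Opens, (θ.hom.app (op U)).hom (RelCone.restrictTop 𝒮h z U) = 0 := fun U =>
    apply_restrictTop_eq_zero θ hθz U
  have hjemb : ∀ (U : S.Opens) (hU : IsAffineOpen U) (w : Proj (𝒮.deg U hU)),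
      j (RelProj.emb p chart U hU w) =
        RelProj.emb pC chartC U hU (Proj.map (RelProj.gradedHomAt θ hθ U hU) (hirr U hU) w) := by
    intro U hU w
    rw [← Scheme.Hom.comp_apply, ← Scheme.Hom.comp_apply]
    congr 2
    rw [RelProj.emb, Category.assoc, hj U hU, Iso.inv_hom_id_assoc, RelProj.emb]
  ext x
  constructor
  · rintro hx ⟨q, rfl⟩
    obtain ⟨U, hU, hqU, -⟩ := exists_affine_le (show p q ∈ (⊤ : S.Opens) from trivial)
    obtain ⟨w, rfl⟩ := exists_emb (chart := chart) hU hqU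
    have hx' : RelProj.emb pC chartC U hU (Proj.map (RelProj.gradedHomAt θ hθ U hU) (hirr U hU) w) ∈
        pC ⁻¹ᵁ U := by
      rw [← RelTildeX.opensRange_emb pC chartC U hU]; exact ⟨_, rfl⟩
    change j (RelProj.emb p chart U hU w) ∈ Set.range i at hx
    rw [hjemb, mem_range_coneImm_iff hz hi hC hU hx', emb_mem_pbasic] at hx
    refine hx (?_ : RelProj.gradedHomAt θ hθ U hU (RelCone.restrictTop 𝒮h z U) ∈ w.asHomogeneousIdeal)
    rw [show RelProj.gradedHomAt θ hθ U hU (RelCone.restrictTop 𝒮h z U) = 0 from hzU U]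
    exact zero_mem _
  · intro hx
    by_contra hxi
    obtain ⟨U, hU, hxU, -⟩ := exists_affine_le (show pC x ∈ (⊤ : S.Opens) from trivial)
    have hxz : x ∉ pbasic chartC U hU (RelCone.restrictTop 𝒮h z U) := fun h =>
      hxi ((mem_range_coneImm_iff hz hi hC hU hxU).2 h)
    obtain ⟨w, rfl⟩ := exists_emb (chart := chartC) hU hxU
    rw [emb_mem_pbasic, not_not] at hxz
    let w' : ProjectiveSpectrum (𝒮.deg U hU) :=
      { asHomogeneousIdeal := w.asHomogeneousIdeal.comap (RelProj.gradedHomAt ι hz.graded U hU)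
        isPrime := w.isPrime.comap _
        not_irrelevant_le := fun h => w.not_irrelevant_le <| (HomogeneousIdeal.irrelevant_le _).2
          fun e he y hy => by
            obtain ⟨c, hc, hyc⟩ := exists_ι_of_deg hz hU hy w.asHomogeneousIdeal hxz
            have hcw : (ι.hom.app (op U)).hom c ∈ w.asHomogeneousIdeal :=
              h (HomogeneousIdeal.mem_irrelevant_of_mem _ he hc)
            have := w.asHomogeneousIdeal.toIdeal.add_mem hyc hcw
            rwa [sub_add_cancel] at this }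
    refine hx ⟨RelProj.emb p chart U hU w', (hjemb U hU w').trans (congrArg _ ?_)⟩
    refine ProjectiveSpectrum.ext (HomogeneousIdeal.ext (SetLike.ext fun y => ?_))
    change (ι.hom.app (op U)).hom ((θ.hom.app (op U)).hom y) ∈ w.asHomogeneousIdeal.toIdeal ↔
      y ∈ w.asHomogeneousIdeal.toIdeal
    have e : (Ideal.Quotient.mk w.asHomogeneousIdeal.toIdeal).comp
        ((ι.hom.app (op U)).hom.comp (θ.hom.app (op U)).hom) = Ideal.Quotient.mk _ := by
      refine poly_ext hz hU (fun a => ?_) ?_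
      · simp only [RingHom.comp_apply]
        rw [retr_apply hιθ]
      · simp only [RingHom.comp_apply]
        rw [hzU U, map_zero, map_zero]
        exact (Ideal.Quotient.eq_zero_iff_mem.2 hxz).symm
    rw [← Ideal.Quotient.eq_zero_iff_mem, ← Ideal.Quotient.eq_zero_iff_mem]
    exact Eq.congr_left (congr($e y))

end Groth.Agent.ProjQ
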