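import Groth.Agent.ProjQ.ConeGeom
import Groth.Agent.RelSpecX.Spec

/-!
# The affine cone as an open subscheme of the projective cone
-/

universe u

open CategoryTheory CategoryTheory.Limits AlgebraicGeometry TopologicalSpace Opposite HomogeneousLocalization
open scoped HomogeneousIdeal

set_option linter.style.haveILetI false
set_option backward.isDefEq.respectTransparency false
set_option backward.isDefEq.respectTransparency.types false

noncomputable section

namespace Groth.Agent.ProjQ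

open Groth.Agent

variable {S : Scheme.{u}} {𝒮 𝒮h : RelProj.QCGrAlg S} {ι : 𝒮.toQCAlg ⟶ 𝒮h.toQCAlg}
  {z : 𝒮h.presheaf.obj (op ⊤)} (hz : RelCone.IsPolyOver 𝒮 𝒮h ι z)
  {PC : Scheme.{u}} {pC : PC ⟶ S}
  {chartC : ∀ (U : S.Opens) (hU : IsAffineOpen U), (((pC ⁻¹ᵁ U : PC.Opens) : Scheme.{u}) ≅ Proj (𝒮h.deg U hU))}

theorem isSeparated_of_isRelProj (hC : RelProj.IsRelProj 𝒮h pC chartC) : IsSeparated pC := by
  refine IsZariskiLocalAtTarget.of_iSup_eq_top (P := @IsSeparated) (fun U : S.affineOpens => (U.1 : S.Opens))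
    (iSup_affineOpens_eq_top S) fun U => ?_
  haveI : IsSeparated ((pC ∣_ U.1) ≫ U.1.ι) := by
    rw [morphismRestrict_ι, ← hC.chart_over U.1 U.2]
    infer_instance
  exact IsSeparated.of_comp (pC ∣_ U.1) U.1.ι

include hz in
/-- A ring homomorphism with the rule `ι(x) / z^k ↦ x` is `awayZToBase`. -/
theorem eq_awayZToBase {U : S.Opens} (hU : IsAffineOpen U)
    (θ : Away (𝒮h.deg U hU) (RelCone.restrictTop 𝒮h z U) →+* 𝒮.presheaf.obj (op U))
    (hθ : ∀ (q : Away (𝒮h.deg U hU) (RelCone.restrictTop 𝒮h z U)) (k : ℕ) (x : 𝒮.presheaf.obj (op U)),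
      x ∈ 𝒮.deg U hU k → q.val = Localization.mk ((ι.hom.app (op U)).hom x)
        ⟨RelCone.restrictTop 𝒮h z U ^ k, pow_mem (Submonoid.mem_powers _) k⟩ → θ q = x) :
    θ = hz.awayZToBase U hU := by
  classical
  ext q
  have key : ∀ a, ∃ q', hz.awayZToBase U hU q' = a ∧ θ q' = a := fun a => by
    rw [← DirectSum.sum_support_decompose (𝒮.deg U hU) a]
    refine Finset.sum_induction _ (fun b => ∃ q', hz.awayZToBase U hU q' = b ∧ θ q' = b)
      (fun x y ⟨x', hx, hx2⟩ ⟨y', hy, hy2⟩ => ⟨x' + y', by rw [map_add, hx, hy], by rw [map_add, hx2, hy2]⟩)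
      ⟨0, map_zero _, map_zero _⟩ fun i _ => ?_
    refine ⟨Away.mk _ (hz.deg_z U hU) i ((ι.hom.app (op U)).hom (DirectSum.decompose (𝒮.deg U hU) a i))
      (by simpa using hz.graded U hU i _ (SetLike.coe_mem _)), ?_, hθ _ i _ (SetLike.coe_mem _) ?_⟩
    · rw [awayZToBase_mk, hz.evalOne_ι]
    · exact Away.val_mk _ _ _ _ _
  obtain ⟨q', h1, h2⟩ := key (hz.awayZToBase U hU q)
  obtain rfl := (awayZToBase_bijective hz hU).1 h1
  exact h2

include hz in
theorem evalOne_res {U V : S.Opens} (hU : IsAffineOpen U) (hV : IsAffineOpen V) (h : V ≤ U)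
    (y : 𝒮h.presheaf.obj (op U)) :
    hz.evalOne V hV ((𝒮h.presheaf.map (homOfLE h).op).hom y) =
      (𝒮.presheaf.map (homOfLE h).op).hom (hz.evalOne U hU y) := by
  have key : (hz.evalOne V hV).comp (𝒮h.presheaf.map (homOfLE h).op).hom =
      (𝒮.presheaf.map (homOfLE h).op).hom.comp (hz.evalOne U hU) := by
    refine poly_ext hz hU (fun x => ?_) ?_
    · simp only [RingHom.comp_apply]
      have e := congr($(ι.hom.naturality (homOfLE h).op) x)
      simp only [CommRingCat.comp_apply] at e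
      rw [← e, hz.evalOne_ι, hz.evalOne_ι]
    · simp only [RingHom.comp_apply]
      rw [restrictTop_res, hz.evalOne_z, hz.evalOne_z, map_one]
  exact congr($key y)

variable (chartC) in
/-- The affine cone over an affine open, inside the projective cone. -/
def coneLoc (U : S.Opens) (hU : IsAffineOpen U) : Spec (𝒮.presheaf.obj (op U)) ⟶ PC :=
  Spec.map (CommRingCat.ofHom (hz.awayZToBase U hU)) ≫
    RelQuot.stdChart chartC U hU one_pos (RelCone.restrictTop 𝒮h z U) (hz.deg_z U hU)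

theorem coneLoc_res (hC : RelProj.IsRelProj 𝒮h pC chartC) {U V : S.Opens} (hU : IsAffineOpen U)
    (hV : IsAffineOpen V) (h : V ≤ U) :
    Spec.map (𝒮.presheaf.map (homOfLE h).op) ≫ coneLoc hz chartC U hU = coneLoc hz chartC V hV := by
  obtain ⟨φ, hφ⟩ := exists_awayMap (𝒮h.res hU hV h) (hz.deg_z U hU) (hz.deg_z V hV) (restrictTop_res h z)
  have key : ∀ (g : 𝒮h.presheaf.obj (op V)) (_ : 𝒮h.res hU hV h (RelCone.restrictTop 𝒮h z U) = g)
      (hg : g ∈ 𝒮h.deg V hV 1) (φ : Away (𝒮h.deg U hU) (RelCone.restrictTop 𝒮h z U) →+* Away (𝒮h.deg V hV) g),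
      (∀ (n : ℕ) (x : 𝒮h.presheaf.obj (op U)) (hx : x ∈ 𝒮h.deg U hU (n • 1)),
        φ (Away.mk _ (hz.deg_z U hU) n x hx) = Away.mk _ hg n (𝒮h.res hU hV h x) ((𝒮h.res hU hV h).map_mem hx)) →
      Spec.map (CommRingCat.ofHom φ) ≫
        RelQuot.stdChart chartC U hU one_pos (RelCone.restrictTop 𝒮h z U) (hz.deg_z U hU) =
          RelQuot.stdChart chartC V hV one_pos g hg := by
    rintro g rfl hg φ hφ
    have : φ = Away.map (𝒮h.res hU hV h) (RelCone.restrictTop 𝒮h z U) := by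
      ext y
      obtain ⟨n, x, hx, rfl⟩ := y.mk_surjective (𝒮h.deg U hU) (hz.deg_z U hU)
      rw [hφ n x hx, Away.map_mk]
    subst this
    exact RelQuot.SpecMap_res_stdChart_of_le hC hU hV h one_pos _ _
  have hring : CommRingCat.ofHom (hz.awayZToBase U hU) ≫ 𝒮.presheaf.map (homOfLE h).op =
      CommRingCat.ofHom φ ≫ CommRingCat.ofHom (hz.awayZToBase V hV) := by
    refine CommRingCat.hom_ext (RingHom.ext fun y => ?_)
    obtain ⟨n, x, hx, rfl⟩ := y.mk_surjective (𝒮h.deg U hU) (hz.deg_z U hU)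
    show (𝒮.presheaf.map (homOfLE h).op).hom (hz.awayZToBase U hU _) = hz.awayZToBase V hV (φ _)
    rw [hφ n x hx, awayZToBase_mk, awayZToBase_mk]
    exact (evalOne_res hz hU hV h x).symm
  rw [coneLoc, ← Spec.map_comp_assoc, hring, Spec.map_comp_assoc, key _ (restrictTop_res h z) _ φ hφ]
  rfl

theorem exists_coneImm (hC : RelProj.IsRelProj 𝒮h pC chartC) :
    ∃ i : 𝒮.toQCAlg.spec ⟶ PC, RelCone.IsConeImm 𝒮 hz pC chartC i := by
  refine ⟨colimit.desc 𝒮.toQCAlg.glueData.functor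
    { pt := PC
      ι :=
        { app := fun V => coneLoc hz chartC V.toOpens V.2
          naturality := fun V W f => ?_ } }, fun U hU => ?_⟩
  · have hle : (V.toOpens : S.Opens) ≤ W.toOpens := (Scheme.AffineZariskiSite.toOpens_mono f.le)
    exact (coneLoc_res hz hC W.2 V.2 hle).trans (Category.comp_id _).symm
  · exact colimit.ι_desc _ _

variable {i : 𝒮.toQCAlg.spec ⟶ PC} (hi : RelCone.IsConeImm 𝒮 hz pC chartC i)

include hi in
theorem isOpenImmersion_coneImm (hC : RelProj.IsRelProj 𝒮h pC chartC) : IsOpenImmersion i := by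
  have hloc : ∀ (U : S.Opens) (hU : IsAffineOpen U), IsOpenImmersion (𝒮.toQCAlg.ι U hU ≫ i) := fun U hU => by
    haveI : IsIso (CommRingCat.ofHom (hz.awayZToBase U hU)) :=
      (ConcreteCategory.isIso_iff_bijective _).2 (awayZToBase_bijective hz hU)
    rw [hi U hU]
    infer_instance
  refine IsOpenImmersion.of_openCover_source i 𝒮.toQCAlg.glueData.cover (fun a b hab => ?_)
    fun V => hloc V.toOpens V.2
  have hπ : 𝒮.toQCAlg.π a = 𝒮.toQCAlg.π b := by
    rw [← coneImm_comp hz hC hi, Scheme.Hom.comp_apply, Scheme.Hom.comp_apply, hab]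
  obtain ⟨U, hU, hxU, -⟩ := exists_affine_le (show 𝒮.toQCAlg.π a ∈ (⊤ : S.Opens) from trivial)
  obtain ⟨a', rfl⟩ : a ∈ (𝒮.toQCAlg.ι U hU).opensRange := (𝒮.toQCAlg.π_preimage U hU).le hxU
  obtain ⟨b', rfl⟩ : b ∈ (𝒮.toQCAlg.ι U hU).opensRange :=
    (𝒮.toQCAlg.π_preimage U hU).le (show 𝒮.toQCAlg.π b ∈ U from hπ ▸ hxU)
  haveI := hloc U hU
  rw [← Scheme.Hom.comp_apply, ← Scheme.Hom.comp_apply] at hab
  rw [(𝒮.toQCAlg.ι U hU ≫ i).isOpenEmbedding.injective hab]

include hi in
theorem isAffineHom_coneImm (hC : RelProj.IsRelProj 𝒮h pC chartC) : IsAffineHom i := by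
  haveI := isSeparated_of_isRelProj hC
  haveI : IsAffineHom (i ≫ pC) := by rw [coneImm_comp hz hC hi]; infer_instance
  exact IsAffineHom.of_comp i pC

include hz in
/-- `z` is a nonzerodivisor, so localising at it is injective. -/
theorem awayMap_z_injective {U : S.Opens} (hU : IsAffineOpen U) {d : ℕ} {f x : 𝒮h.presheaf.obj (op U)}
    (hf : f ∈ 𝒮h.deg U hU d) (hx : x = f * RelCone.restrictTop 𝒮h z U) :
    Function.Injective (awayMap (𝒮h.deg U hU) (hz.deg_z U hU) hx) := by
  set zU := RelCone.restrictTop 𝒮h z U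
  have hnzd : ∀ (m : ℕ) (a : 𝒮h.presheaf.obj (op U)), zU ^ m * a = 0 → a = 0 := by
    intro m a h
    obtain ⟨p, rfl⟩ := (hz.bij U hU).2 a
    have e : zU = Polynomial.eval₂RingHom (ι.hom.app (op U)).hom zU Polynomial.X :=
      (Polynomial.eval₂_X _ _).symm
    nth_rw 1 [e] at h
    rw [← map_pow, ← map_mul, ← map_zero (Polynomial.eval₂RingHom (ι.hom.app (op U)).hom zU)] at h
    have h2 := (hz.bij U hU).1 h
    rw [show p = 0 from ?_, map_zero]
    ext j
    have h3 := congrArg (fun q => Polynomial.coeff q (j + m)) h2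
    simpa [Polynomial.coeff_X_pow_mul] using h3
  rw [injective_iff_map_eq_zero]
  intro q hq
  obtain ⟨n, a, ha, rfl⟩ := q.mk_surjective (𝒮h.deg U hU) hf
  subst hx
  rw [awayMap_mk (𝒮h.deg U hU) (hz.deg_z U hU) rfl] at hq
  have hq' := congrArg HomogeneousLocalization.val hq
  rw [Away.val_mk, HomogeneousLocalization.val_zero, Localization.mk_eq_mk',
    IsLocalization.mk'_eq_zero_iff] at hq'
  obtain ⟨⟨_, m, rfl⟩, hm⟩ := hq'
  apply HomogeneousLocalization.val_injective
  rw [Away.val_mk, HomogeneousLocalization.val_zero, Localization.mk_eq_mk', IsLocalization.mk'_eq_zero_iff]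
  refine ⟨⟨f ^ m, m, rfl⟩, hnzd (m + n) _ ?_⟩
  refine Eq.trans ?_ hm
  show zU ^ (m + n) * (f ^ m * a) = (f * zU) ^ m * (a * zU ^ n)
  ring

include hi in
theorem ker_coneImm (hC : RelProj.IsRelProj 𝒮h pC chartC) : i.ker = ⊥ := by
  haveI := isAffineHom_coneImm hz hi hC
  haveI := isOpenImmersion_coneImm hz hi hC
  let W : ChartIdx 𝒮h → PC.affineOpens := fun j =>
    ⟨(RelQuot.stdChart chartC j.U j.hU j.hd j.f j.hf).opensRange, isAffineOpen_opensRange _⟩
  refine le_bot_iff.1 (Scheme.IdealSheafData.le_of_iSup_eq_top W ?_ fun j => ?_)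
  · exact (stdCover chartC).iSup_opensRange
  intro s hs
  obtain ⟨U, hU, d, hd, f, hf⟩ := j
  rw [Scheme.IdealSheafData.ideal_bot, Pi.bot_apply, Ideal.mem_bot]
  set c := RelQuot.stdChart chartC U hU hd f hf with hc
  let zU := RelCone.restrictTop 𝒮h z U
  let a := CommRingCat.ofHom (awayMap (𝒮h.deg U hU) (f := f) (hz.deg_z U hU) (rfl : f * zU = f * zU))
  have hm : f * zU ∈ 𝒮h.deg U hU (d + 1) := SetLike.mul_mem_graded hf (hz.deg_z U hU)
  have hac : Spec.map a ≫ c = RelQuot.stdChart chartC U hU (Nat.succ_pos d) (f * zU) hm :=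
    RelQuot.SpecMap_awayMap_stdChart hU hd hf (hz.deg_z U hU) rfl rfl (Nat.succ_pos d) hm
  have hsub : Set.range (Spec.map a ≫ c) ⊆ Set.range i := by
    rw [hac, range_stdChart (chart := chartC) hU (Nat.succ_pos d) _ hm]
    intro x hx
    exact (mem_range_coneImm_iff hz hi hC hU (pbasic_le hx)).2 (pbasic_mul U hU f zU ▸ hx).2
  have hle : i.ker ≤ (Spec.map a ≫ c).ker := by
    rw [← IsOpenImmersion.lift_fac i _ hsub]
    exact Scheme.Hom.le_ker_comp _ _
  have h1 : (Spec.map a ≫ c).app c.opensRange s = 0 :=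
    Scheme.Hom.ideal_ker_le _ _ (hle _ hs)
  rw [Scheme.Hom.comp_app, CommRingCat.comp_apply] at h1
  have hinj : ∀ {X : (Spec (CommRingCat.of (Away (𝒮h.deg U hU) f))).Opens}, X = ⊤ →
      Function.Injective ((Spec.map a).app X) := by
    rintro X rfl
    have hn := Scheme.ΓSpecIso_naturality a
    have ha : Function.Injective a := awayMap_z_injective hz hU hf rfl
    intro p q hpq
    apply (ConcreteCategory.bijective_of_isIso (Scheme.ΓSpecIso _).hom).1
    apply ha
    have hp := congr($hn p)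
    have hq := congr($hn q)
    simp only [CommRingCat.comp_apply] at hp hq
    exact (hp.symm.trans (congrArg (Scheme.ΓSpecIso _).hom.hom hpq :)).trans hq
  haveI : IsIso (c.app c.opensRange) := c.isIso_app _ le_rfl
  apply (ConcreteCategory.bijective_of_isIso (c.app c.opensRange)).1
  rw [map_zero]
  apply hinj (c.preimage_opensRange)
  exact h1.trans (map_zero _).symm

end Groth.Agent.ProjQ
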