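import Groth.Agent.ProjQ.ConeRetr
import Groth.Agent.Proj16.ConeFibre
import Groth.Agent.RelTildeX.Props

/-!
# The retractions of the pointed cones of an algebra generated in degree one
-/

universe u

open CategoryTheory CategoryTheory.Limits AlgebraicGeometry TopologicalSpace Opposite HomogeneousLocalization
open scoped HomogeneousIdeal

set_option linter.style.haveILetI false
set_option backward.isDefEq.respectTransparency false
set_option backward.isDefEq.respectTransparency.types false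

noncomputable section

namespace Groth.Agent.ProjQ

open Groth.Agent

section kappa

variable {B : Type u} [CommRing B] {ℬ : ℕ → AddSubgroup B} [GradedRing ℬ] {L : Type u} [CommRing L]
  (η : B →+* L) {g : B} (hu : IsUnit (η g))

/-- A homomorphism inverting `g`, on degree zero fractions. -/
def kappa : Away ℬ g →+* L :=
  (Localization.awayLift η g hu).comp (algebraMap (Away ℬ g) (Localization.Away g))

theorem kappa_spec {d : ℕ} (hg : g ∈ ℬ d) (n : ℕ) (a : B) (ha : a ∈ ℬ (n • d)) :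
    kappa η hu (Away.mk ℬ hg n a ha) * η g ^ n = η a := by
  rw [kappa, RingHom.comp_apply, HomogeneousLocalization.algebraMap_apply, Away.val_mk, ← map_pow]
  rw [← IsLocalization.lift_eq (M := Submonoid.powers g) (S := Localization.Away g) (g := η)
    (fun ⟨_, k, hk⟩ => by simp only [← hk, map_pow]; exact hu.pow k) (g ^ n)]
  show Localization.awayLift η g hu _ * Localization.awayLift η g hu (algebraMap B _ (g ^ n)) = _
  rw [← map_mul, Localization.mk_eq_mk', IsLocalization.mk'_spec]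
  exact IsLocalization.lift_eq _ a

theorem kappa_awayMap {d e : ℕ} {f' x : B} (hg : g ∈ ℬ d) (hf' : f' ∈ ℬ e) (hx : x = g * f') (hux : IsUnit (η x))
    (q : Away ℬ g) : kappa η hux (awayMap ℬ hf' hx q) = kappa η hu q := by
  obtain ⟨n, a, ha, rfl⟩ := q.mk_surjective ℬ hg
  subst hx
  rw [awayMap_mk ℬ hf' rfl]
  have h1 := kappa_spec η hux (SetLike.mul_mem_graded hg hf') n (a * f' ^ n) (by
    rw [smul_add]; exact SetLike.mul_mem_graded ha (SetLike.pow_mem_graded n hf'))
  have h2 := kappa_spec η hu hg n a ha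
  refine (hux.pow n).mul_right_cancel (h1.trans ?_)
  rw [map_mul η g f', mul_pow, ← mul_assoc, h2, map_mul, map_pow]

end kappa

variable {S : Scheme.{u}} {𝒮 𝒮h : RelProj.QCGrAlg S} {ι : 𝒮.toQCAlg ⟶ 𝒮h.toQCAlg}
  {z : 𝒮h.presheaf.obj (op ⊤)} (hz : RelCone.IsPolyOver 𝒮 𝒮h ι z)
  {PC : Scheme.{u}} {pC : PC ⟶ S}
  {chartC : ∀ (U : S.Opens) (hU : IsAffineOpen U), (((pC ⁻¹ᵁ U : PC.Opens) : Scheme.{u}) ≅ Proj (𝒮h.deg U hU))}
  {P : Scheme.{u}} {p : P ⟶ S}
  {chart : ∀ (U : S.Opens) (hU : IsAffineOpen U), (((p ⁻¹ᵁ U : P.Opens) : Scheme.{u}) ≅ Proj (𝒮.deg U hU))}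
  {W : PC.Opens} (hW : W = RelProj.domQ (RelProj.QGrHom.ofHom ι hz.graded) pC chartC)
  (hP : RelProj.IsRelProj 𝒮 p chart) (hC : RelProj.IsRelProj 𝒮h pC chartC)
  {r : (W : Scheme.{u}) ⟶ P} (hr : IsRetr chart W chartC hz.graded r)

/-- Standard charts in degree one. -/
structure OneIdx (𝒮 : RelProj.QCGrAlg S) where
  U : S.Opens
  hU : IsAffineOpen U
  f : 𝒮.presheaf.obj (op U)
  hf : f ∈ 𝒮.deg U hU 1

theorem exists_oneIdx (hgen : 𝒮.IsGenDegOne) (x : P) :
    ∃ a : OneIdx 𝒮, x ∈ Set.range (RelQuot.stdChart chart a.U a.hU one_pos a.f a.hf) := by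
  obtain ⟨U, hU, hxU, -⟩ := exists_affine_le (show p x ∈ (⊤ : S.Opens) from trivial)
  obtain ⟨w, rfl⟩ := exists_emb (chart := chart) hU hxU
  obtain ⟨f, hf, hfw⟩ : ∃ f ∈ (𝒮.deg U hU 1 : Set _), f ∉ w.asHomogeneousIdeal := by
    by_contra! H
    refine w.not_irrelevant_le (?_ : ((𝒮.deg U hU)₊).toIdeal ≤ w.asHomogeneousIdeal.toIdeal)
    rw [RelTildeX.irrelevant_eq_span_deg_one hgen U hU, Ideal.span_le]
    exact H
  exact ⟨⟨U, hU, f, hf⟩, (range_stdChart hU one_pos f hf).ge (emb_mem_pbasic.2 hfw)⟩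

include hW hC in
theorem exists_lift_chart (a : OneIdx 𝒮) :
    ∃ c, c ≫ W.ι = RelQuot.stdChart chartC a.U a.hU one_pos _ ((RelProj.gradedHomAt ι hz.graded a.U a.hU).2 a.hf) :=
  ⟨_, IsOpenImmersion.lift_fac _ _ (retr_range_le hz hW hC a.hU one_pos a.hf)⟩

include hW hP hC hr in
/-- The square of a degree one chart of the pointed projective cone. -/
theorem isPullback_retr (a : OneIdx 𝒮)
    (c : Spec (.of (Away (𝒮h.deg a.U a.hU) (RelProj.gradedHomAt ι hz.graded a.U a.hU a.f))) ⟶ (W : Scheme.{u}))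
    (hc : c ≫ W.ι = RelQuot.stdChart chartC a.U a.hU one_pos _ ((RelProj.gradedHomAt ι hz.graded a.U a.hU).2 a.hf)) :
    IsPullback c (Spec.map (CommRingCat.ofHom (Away.map (RelProj.gradedHomAt ι hz.graded a.U a.hU) a.f))) r
      (RelQuot.stdChart chart a.U a.hU one_pos a.f a.hf) := by
  haveI : IsOpenImmersion (c ≫ W.ι) := by rw [hc]; infer_instance
  haveI : IsOpenImmersion c := IsOpenImmersion.of_comp c W.ι
  refine (IsOpenImmersion.isPullback
    (Spec.map (CommRingCat.ofHom (Away.map (RelProj.gradedHomAt ι hz.graded a.U a.hU) a.f))) c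
    (RelQuot.stdChart chart a.U a.hU one_pos a.f a.hf) r (hr a.U a.hU 1 one_pos a.f a.hf c hc) ?_).flip
  ext x
  simp only [Scheme.Hom.coe_opensRange, Scheme.Hom.coe_preimage, Set.mem_preimage]
  rw [range_stdChart, SetLike.mem_coe]
  symm
  constructor
  · rintro ⟨y, rfl⟩
    have h : r (c y) ∈ pbasic chart a.U a.hU a.f := by
      rw [← Scheme.Hom.comp_apply, hr a.U a.hU 1 one_pos a.f a.hf c hc, ← SetLike.mem_coe, ← range_stdChart a.hU one_pos a.f a.hf]
      exact ⟨_, rfl⟩
    exact h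
  · intro hx
    have hpx : pC x.1 ∈ a.U := by
      have := pbasic_le hx
      change p (r x) ∈ a.U at this
      rwa [← Scheme.Hom.comp_apply, retr_comp hz hW hP hC hr] at this
    have hm := (retr_mem_iff hz hW hP hC hr a.hU x hpx one_pos a.hf).1 hx
    obtain ⟨y, hy⟩ := (range_stdChart (chart := chartC) a.hU one_pos _
      ((RelProj.gradedHomAt ι hz.graded a.U a.hU).2 a.hf)).ge hm
    refine ⟨y, W.ι.isOpenEmbedding.injective ?_⟩
    rw [← Scheme.Hom.comp_apply, hc]
    exact hy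

include hW hP hC hr in
theorem retr_fibres (hgen : 𝒮.IsGenDegOne) :
    LocallyOfFiniteType r ∧ QuasiCompact r ∧ ∀ x : P, ∃ e : pullback r (P.fromSpecResidueField x) ≅
      Spec (CommRingCat.of (Polynomial (P.residueField x))),
      e.hom ≫ Spec.map (CommRingCat.ofHom (algebraMap (P.residueField x) (Polynomial (P.residueField x)))) =
        pullback.snd r (P.fromSpecResidueField x) := by
  choose c hc using exists_lift_chart hz hW hC
  refine Proj16.fibres_of_charts r (fun C => CommRingCat.of (Polynomial C))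
    (fun C => CommRingCat.ofHom Polynomial.C) (fun χ => CommRingCat.ofHom (Polynomial.mapRingHom χ.hom))
    Proj16.isPushout_polynomial Proj16.finiteType_polynomial
    (fun a : OneIdx 𝒮 => CommRingCat.of (Away (𝒮.deg a.U a.hU) a.f))
    (fun a => RelQuot.stdChart chart a.U a.hU one_pos a.f a.hf) (exists_oneIdx hgen)
    (fun a => CommRingCat.of (Away (𝒮h.deg a.U a.hU) (RelProj.gradedHomAt ι hz.graded a.U a.hU a.f)))
    c (fun a => CommRingCat.ofHom (Away.map (RelProj.gradedHomAt ι hz.graded a.U a.hU) a.f))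
    (fun a => isPullback_retr hz hW hP hC hr a (c a) (hc a))
    (fun a => (RingEquiv.ofBijective _ (Proj16.polyAway_bijective (RelProj.gradedHomAt ι hz.graded a.U a.hU) _
      (hz.deg_z a.U a.hU) (hz.bij a.U a.hU) a.hf)).toCommRingCatIso)
    (fun a => CommRingCat.hom_ext (Proj16.polyAway_comp_C (RelProj.gradedHomAt ι hz.graded a.U a.hU) _
      (hz.deg_z a.U a.hU) a.hf))

variable {i : 𝒮.toQCAlg.spec ⟶ PC} (hi : RelCone.IsConeImm 𝒮 hz pC chartC i)

include hW hP hC hr hi in
theorem pointedCone_retr_fibres (hgen : 𝒮.IsGenDegOne)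
    (i' : ((RelCone.pointedCone 𝒮 : 𝒮.toQCAlg.spec.Opens) : Scheme.{u}) ⟶ (W : Scheme.{u}))
    (hi' : i' ≫ W.ι = (RelCone.pointedCone 𝒮).ι ≫ i) :
    LocallyOfFiniteType (i' ≫ r) ∧ QuasiCompact (i' ≫ r) ∧ ∀ x : P, ∃ e : pullback (i' ≫ r) (P.fromSpecResidueField x) ≅
      Spec (CommRingCat.of (LaurentPolynomial (P.residueField x))),
      e.hom ≫ Spec.map (CommRingCat.ofHom (algebraMap (P.residueField x) (LaurentPolynomial (P.residueField x)))) =
        pullback.snd (i' ≫ r) (P.fromSpecResidueField x) := by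
  let E := RelCone.pointedCone 𝒮
  let loc : ∀ a : OneIdx 𝒮, Spec (CommRingCat.of (Localization.Away a.f)) ⟶ 𝒮.toQCAlg.spec := fun a =>
    Spec.map (CommRingCat.ofHom (algebraMap (𝒮.presheaf.obj (op a.U)) (Localization.Away a.f))) ≫ 𝒮.toQCAlg.ι a.U a.hU
  have hloc : ∀ a, Set.range (loc a) ⊆ Set.range E.ι := by
    rintro a _ ⟨y, rfl⟩
    rw [Scheme.Opens.range_ι]
    refine (ConeX.mem_pointedCone 𝒮 a.U a.hU _).2 ((ConeX.mem_vertexCompl _).2 ?_)
    refine ⟨a.f, HomogeneousIdeal.mem_irrelevant_of_mem _ one_pos a.hf, fun h => ?_⟩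
    exact y.isPrime.ne_top (Ideal.eq_top_of_isUnit_mem _ h (IsLocalization.Away.algebraMap_isUnit a.f))
  let c : ∀ a : OneIdx 𝒮, Spec (CommRingCat.of (Localization.Away a.f)) ⟶ (E : Scheme.{u}) := fun a =>
    IsOpenImmersion.lift E.ι (loc a) (hloc a)
  have hc : ∀ a, c a ≫ E.ι = loc a := fun a => IsOpenImmersion.lift_fac _ _ _
  have hcr : ∀ a : OneIdx 𝒮, c a ≫ i' ≫ r =
      Spec.map (CommRingCat.ofHom (algebraMap (Away (𝒮.deg a.U a.hU) a.f) (Localization.Away a.f))) ≫
        RelQuot.stdChart chart a.U a.hU one_pos a.f a.hf := by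
    intro a
    let ψ := RelProj.gradedHomAt ι hz.graded a.U a.hU
    let zU := RelCone.restrictTop 𝒮h z a.U
    let η := (algebraMap (𝒮.presheaf.obj (op a.U)) (Localization.Away a.f)).comp (hz.evalOne a.U a.hU)
    have hηψ : ∀ b, η (ψ b) = algebraMap _ _ b := fun b =>
      congrArg (algebraMap (𝒮.presheaf.obj (op a.U)) (Localization.Away a.f)) (hz.evalOne_ι a.U a.hU b)
    have hηz : η zU = 1 := (congrArg (algebraMap (𝒮.presheaf.obj (op a.U)) (Localization.Away a.f)) (hz.evalOne_z a.U a.hU)).trans (map_one _)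
    have huz : IsUnit (η zU) := hηz ▸ isUnit_one
    have huf : IsUnit (η (ψ a.f)) := by rw [hηψ]; exact IsLocalization.Away.algebraMap_isUnit a.f
    have hux : IsUnit (η (ψ a.f * zU)) := by rw [map_mul]; exact huf.mul huz
    have hcomm : CommRingCat.ofHom (hz.awayZToBase a.U a.hU) ≫
        CommRingCat.ofHom (algebraMap (𝒮.presheaf.obj (op a.U)) (Localization.Away a.f)) =
          CommRingCat.ofHom (kappa η huz) := by
      refine CommRingCat.hom_ext (RingHom.ext fun q => ?_)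
      obtain ⟨n, y, hy, rfl⟩ := q.mk_surjective (𝒮h.deg a.U a.hU) (hz.deg_z a.U a.hU)
      have := kappa_spec η huz (hz.deg_z a.U a.hU) n y hy
      rw [show η zU = 1 from hηz, one_pow, mul_one] at this
      show algebraMap _ (Localization.Away a.f) (hz.awayZToBase a.U a.hU _) = kappa η huz _
      rw [awayZToBase_mk, this]
      rfl
    have hk1 : CommRingCat.ofHom (awayMap (𝒮h.deg a.U a.hU) (f := zU) (ψ.2 a.hf) (mul_comm _ _ : ψ a.f * zU = zU * ψ a.f)) ≫
        CommRingCat.ofHom (kappa η hux) = CommRingCat.ofHom (kappa η huz) :=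
      CommRingCat.hom_ext (RingHom.ext fun q => kappa_awayMap η huz (hz.deg_z a.U a.hU) (ψ.2 a.hf)
        (mul_comm _ _ : ψ a.f * zU = zU * ψ a.f) hux q)
    have hk2 : CommRingCat.ofHom (awayMap (𝒮h.deg a.U a.hU) (f := ψ a.f) (hz.deg_z a.U a.hU) (rfl : ψ a.f * zU = _)) ≫
        CommRingCat.ofHom (kappa η hux) = CommRingCat.ofHom (kappa η huf) :=
      CommRingCat.hom_ext (RingHom.ext fun q => kappa_awayMap η huf (ψ.2 a.hf) (hz.deg_z a.U a.hU)
        (rfl : ψ a.f * zU = ψ a.f * zU) hux q)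
    have hm : ψ a.f * zU ∈ 𝒮h.deg a.U a.hU 2 := SetLike.mul_mem_graded (ψ.2 a.hf) (hz.deg_z a.U a.hU)
    have hchart : (c a ≫ i') ≫ W.ι = Spec.map (CommRingCat.ofHom (kappa η huf)) ≫
        RelQuot.stdChart chartC a.U a.hU one_pos (ψ a.f) (ψ.2 a.hf) := by
      rw [Category.assoc, hi', reassoc_of% (hc a)]
      simp only [loc, Category.assoc]
      rw [hi a.U a.hU, ← Spec.map_comp_assoc, hcomm, ← hk1, ← hk2, Spec.map_comp_assoc, Spec.map_comp_assoc]
      congr 1
      exact (RelQuot.SpecMap_awayMap_stdChart a.hU one_pos (hz.deg_z a.U a.hU) (ψ.2 a.hf) (mul_comm _ _) rfl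
        two_pos hm).trans (RelQuot.SpecMap_awayMap_stdChart a.hU one_pos (ψ.2 a.hf) (hz.deg_z a.U a.hU) rfl rfl
          two_pos hm).symm
    obtain ⟨l, hl⟩ := exists_lift_chart hz hW hC a
    have hfac : c a ≫ i' = Spec.map (CommRingCat.ofHom (kappa η huf)) ≫ l := by
      rw [← cancel_mono W.ι, hchart, Category.assoc, hl]
      rfl
    rw [← Category.assoc, hfac, Category.assoc, hr a.U a.hU 1 one_pos a.f a.hf l hl, ← Spec.map_comp_assoc]
    congr 2
    refine CommRingCat.hom_ext (RingHom.ext fun q => ?_)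
    obtain ⟨n, b, hb, rfl⟩ := q.mk_surjective (𝒮.deg a.U a.hU) a.hf
    show kappa η huf (Away.map ψ a.f (Away.mk _ a.hf n b hb)) = _
    rw [Away.map_mk]
    refine (huf.pow n).mul_right_cancel ((kappa_spec η huf (ψ.2 a.hf) n (ψ b) (ψ.2 hb)).trans ?_)
    rw [hηψ, hηψ, CommRingCat.hom_ofHom, HomogeneousLocalization.algebraMap_apply, Away.val_mk, ← map_pow, Localization.mk_eq_mk']
    exact (IsLocalization.mk'_spec (M := Submonoid.powers a.f) _ b ⟨a.f ^ n, n, rfl⟩).symm
  have hsq : ∀ a : OneIdx 𝒮, IsPullback (c a)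
      (Spec.map (CommRingCat.ofHom (algebraMap (Away (𝒮.deg a.U a.hU) a.f) (Localization.Away a.f))))
      (i' ≫ r) (RelQuot.stdChart chart a.U a.hU one_pos a.f a.hf) := by
    intro a
    haveI : IsOpenImmersion (loc a) := inferInstance
    haveI : IsOpenImmersion (c a ≫ E.ι) := by rw [hc]; infer_instance
    haveI : IsOpenImmersion (c a) := IsOpenImmersion.of_comp (c a) E.ι
    refine (IsOpenImmersion.isPullback _ (c a) (RelQuot.stdChart chart a.U a.hU one_pos a.f a.hf) (i' ≫ r)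
      (hcr a) ?_).flip
    ext x
    simp only [Scheme.Hom.coe_opensRange, Scheme.Hom.coe_preimage, Set.mem_preimage]
    rw [range_stdChart, SetLike.mem_coe]
    symm
    constructor
    · rintro ⟨y, rfl⟩
      rw [← Scheme.Hom.comp_apply, hcr a, ← SetLike.mem_coe, ← range_stdChart a.hU one_pos a.f a.hf]
      exact ⟨_, rfl⟩
    · intro hx
      change r (i' x) ∈ _ at hx
      have hval : W.ι (i' x) = i (E.ι x) := by
        rw [← Scheme.Hom.comp_apply, hi']; rfl
      have hpC : pC (W.ι (i' x)) ∈ a.U := by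
        have := pbasic_le hx
        change p (r (i' x)) ∈ a.U at this
        rwa [← Scheme.Hom.comp_apply r p, retr_comp hz hW hP hC hr] at this
      have hπ : 𝒮.toQCAlg.π (E.ι x) ∈ a.U := by
        rw [hval, ← Scheme.Hom.comp_apply i pC, coneImm_comp hz hC hi] at hpC
        exact hpC
      obtain ⟨y, hy⟩ : E.ι x ∈ (𝒮.toQCAlg.ι a.U a.hU).opensRange := (𝒮.toQCAlg.π_preimage a.U a.hU).le hπ
      have hm := (retr_mem_iff hz hW hP hC hr a.hU (i' x) hpC one_pos a.hf).1 hx
      rw [show ((i' x : (W : Scheme.{u})).1 : PC) = i (E.ι x) from hval, ← hy,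
        coneImm_mem_pbasic_iff hz hi a.hU y a.hf] at hm
      obtain ⟨v, rfl⟩ : y ∈ Set.range
          (Spec.map (CommRingCat.ofHom (algebraMap (𝒮.presheaf.obj (op a.U)) (Localization.Away a.f)))) :=
        (PrimeSpectrum.localization_away_comap_range (Localization.Away a.f) a.f).ge hm
      refine ⟨v, E.ι.isOpenEmbedding.injective ?_⟩
      rw [← Scheme.Hom.comp_apply, hc]
      exact hy
  exact Proj16.fibres_of_charts (i' ≫ r) (fun C => CommRingCat.of (LaurentPolynomial C))
    (fun C => CommRingCat.ofHom LaurentPolynomial.C) (fun χ => CommRingCat.ofHom (Proj16.laurentMap χ.hom))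
    Proj16.isPushout_laurent Proj16.finiteType_laurent
    (fun a : OneIdx 𝒮 => CommRingCat.of (Away (𝒮.deg a.U a.hU) a.f))
    (fun a => RelQuot.stdChart chart a.U a.hU one_pos a.f a.hf) (exists_oneIdx hgen)
    (fun a => CommRingCat.of (Localization.Away a.f)) c
    (fun a => CommRingCat.ofHom (algebraMap (Away (𝒮.deg a.U a.hU) a.f) (Localization.Away a.f))) hsq
    (fun a => (RingEquiv.ofBijective _
      (Proj16.laurentAway_bijective (𝒜 := 𝒮.deg a.U a.hU) a.hf)).toCommRingCatIso)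
    (fun a => CommRingCat.hom_ext (Proj16.laurentAway_comp_C (f := a.f)))

end Groth.Agent.ProjQ
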