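import Groth.Agent.ProjQ.Cone

/-!
# The morphism of projective cones and the pointed cones
-/

universe u

open CategoryTheory CategoryTheory.Limits AlgebraicGeometry TopologicalSpace Opposite HomogeneousLocalization
open scoped HomogeneousIdeal

set_option linter.style.haveILetI false
set_option backward.isDefEq.respectTransparency false
set_option backward.isDefEq.respectTransparency.types false

noncomputable section

namespace Groth.Agent.ProjQ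

open Groth.Agent

variable {Y Y' : Scheme.{u}} {q : Y' ⟶ Y} {𝒮 : RelProj.QCGrAlg Y} {𝒮' : RelProj.QCGrAlg Y'}
  {u : RelProj.QGrHom q 𝒮 𝒮'} {𝒮h : RelProj.QCGrAlg Y} {ι : 𝒮.toQCAlg ⟶ 𝒮h.toQCAlg}
  {z : 𝒮h.presheaf.obj (op ⊤)} {𝒮h' : RelProj.QCGrAlg Y'} {ι' : 𝒮'.toQCAlg ⟶ 𝒮h'.toQCAlg}
  {z' : 𝒮h'.presheaf.obj (op ⊤)} {uh : RelProj.QGrHom q 𝒮h 𝒮h'}
  (hι : RelProj.IsGradedHom ι) (hι' : RelProj.IsGradedHom ι')
  (huh : ∀ U : Y.Opens, ι.hom.app (op U) ≫ uh.app U = u.app U ≫ ι'.hom.app (op (q ⁻¹ᵁ U)))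

include huh in
theorem uh_ι_apply (U : Y.Opens) (hU : IsAffineOpen U) (U' : Y'.Opens) (hU' : IsAffineOpen U') (hle : U' ≤ q ⁻¹ᵁ U)
    (a : 𝒮.presheaf.obj (op U)) :
    uh.gradedAt U hU U' hU' hle (RelProj.gradedHomAt ι hι U hU a) =
      RelProj.gradedHomAt ι' hι' U' hU' (u.gradedAt U hU U' hU' hle a) := by
  have h := congr($(uh_ι huh U U' hle) a)
  simp only [CommRingCat.comp_apply] at h
  exact h

variable {PC PC' P' : Scheme.{u}} {pC : PC ⟶ Y}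
  {chartC : ∀ (U : Y.Opens) (hU : IsAffineOpen U), (((pC ⁻¹ᵁ U : PC.Opens) : Scheme.{u}) ≅ Proj (𝒮h.deg U hU))}
  {pC' : PC' ⟶ Y'}
  {chartC' : ∀ (U : Y'.Opens) (hU : IsAffineOpen U), (((pC' ⁻¹ᵁ U : PC'.Opens) : Scheme.{u}) ≅ Proj (𝒮h'.deg U hU))}
  {p' : P' ⟶ Y'}
  {chart' : ∀ (U : Y'.Opens) (hU : IsAffineOpen U), (((p' ⁻¹ᵁ U : P'.Opens) : Scheme.{u}) ≅ Proj (𝒮'.deg U hU))}

include huh in
/-- A point of the pointed cone lies over `G(u)`. -/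
theorem cone_key (hP' : RelProj.IsRelProj 𝒮' p' chart') (hC' : RelProj.IsRelProj 𝒮h' pC' chartC')
    (htop : RelProj.domQ u p' chart' = ⊤) {x : PC'} (U : Y.Opens) (hU : IsAffineOpen U) (U' : Y'.Opens)
    (hU' : IsAffineOpen U') (hle : U' ≤ q ⁻¹ᵁ U) (hx : pC' x ∈ U')
    (hxW : x ∈ RelProj.domQ (RelProj.QGrHom.ofHom ι' hι') pC' chartC') :
    ∃ (e : ℕ) (a : 𝒮.presheaf.obj (op U)), 0 < e ∧ a ∈ 𝒮.deg U hU e ∧
      x ∈ pbasic chartC' U' hU' (uh.gradedAt U hU U' hU' hle (RelProj.gradedHomAt ι hι U hU a)) := by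
  obtain ⟨d, c, hd, hc, hxc⟩ := (mem_domQ_ofHom_iff ι' hι' hC' hU' hx).1 hxW
  obtain ⟨v, rfl⟩ := exists_emb (chart := chartC') hU' hx
  rw [emb_mem_pbasic] at hxc
  let ψ := RelProj.gradedHomAt ι' hι' U' hU'
  have hnot : ¬ (HomogeneousIdeal.irrelevant (𝒮'.deg U' hU')).toIdeal ≤
      (v.asHomogeneousIdeal.comap ψ).toIdeal :=
    fun h => hxc (h (HomogeneousIdeal.mem_irrelevant_of_mem _ hd hc))
  let w : Proj (𝒮'.deg U' hU') := ⟨v.asHomogeneousIdeal.comap ψ, v.isPrime.comap ψ, hnot⟩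
  have hwU : RelProj.emb p' chart' U' hU' w ∈ p' ⁻¹ᵁ U' := by
    rw [← RelTildeX.opensRange_emb p' chart' U' hU']; exact ⟨w, rfl⟩
  obtain ⟨e, a, he, ha, hwa⟩ := (mem_domQ_iff u hP' hU hU' hle hwU).1 (htop ▸ trivial)
  refine ⟨e, a, he, ha, ?_⟩
  rw [uh_ι_apply hι hι' huh U hU U' hU' hle a, emb_mem_pbasic]
  exact (emb_mem_pbasic (chart := chart') (w := w)).1 hwa

variable {Φh : ((RelProj.domQ uh pC' chartC' : PC'.Opens) : Scheme.{u}) ⟶ PC}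
  (hC : RelProj.IsRelProj 𝒮h pC chartC) (hC' : RelProj.IsRelProj 𝒮h' pC' chartC')
  (hΦh : RelProj.IsProjQMapOn uh pC chartC pC' chartC' (RelProj.domQ uh pC' chartC') Φh)

include hι hι' huh hC hC' hΦh in
theorem cone_preimage_le :
    (RelProj.domQ uh pC' chartC').ι ''ᵁ (Φh ⁻¹ᵁ RelProj.domQ (RelProj.QGrHom.ofHom ι hι) pC chartC) ≤
      RelProj.domQ (RelProj.QGrHom.ofHom ι' hι') pC' chartC' := by
  rintro _ ⟨x, hx, rfl⟩
  obtain ⟨U, hU, hxU, -⟩ := exists_affine_le (show q (pC' x.1) ∈ (⊤ : Y.Opens) from trivial)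
  obtain ⟨U', hU', hxU', hle⟩ := exists_affine_le (show pC' x.1 ∈ q ⁻¹ᵁ U from hxU)
  obtain ⟨e, a, he, ha, hxa⟩ := (mem_domQ_ofHom_iff ι hι hC hU
    (show pC (Φh x) ∈ U by rw [apply_mem_base uh hC hC' hΦh x]; exact hxU)).1 hx
  have h1 := (apply_mem_iff uh hC hC' hΦh x hU hU' hle hxU' he (RelProj.gradedHomAt ι hι U hU a)
    ((RelProj.gradedHomAt ι hι U hU).map_mem ha)).1 hxa
  rw [uh_ι_apply hι hι' huh U hU U' hU' hle a] at h1
  exact (mem_domQ_ofHom_iff ι' hι' hC' hU' hxU').2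
    ⟨e, _, he, (u.gradedAt U hU U' hU' hle).map_mem ha, h1⟩

include huh in
theorem cone_domQ_eq_top (hz : RelCone.IsPolyOver 𝒮 𝒮h ι z) (hz' : RelCone.IsPolyOver 𝒮' 𝒮h' ι' z')
    (huhz : (uh.app ⊤).hom z = RelCone.restrictTop 𝒮h' z' (q ⁻¹ᵁ ⊤))
    (hP' : RelProj.IsRelProj 𝒮' p' chart') (hC' : RelProj.IsRelProj 𝒮h' pC' chartC')
    (htop : RelProj.domQ u p' chart' = ⊤) : RelProj.domQ uh pC' chartC' = ⊤ := by
  refine top_unique fun x _ => ?_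
  obtain ⟨U, hU, hxU, -⟩ := exists_affine_le (show q (pC' x) ∈ (⊤ : Y.Opens) from trivial)
  obtain ⟨U', hU', hxU', hle⟩ := exists_affine_le (show pC' x ∈ q ⁻¹ᵁ U from hxU)
  by_cases hxz : x ∈ pbasic chartC' U' hU' (RelCone.restrictTop 𝒮h' z' U')
  · have e : uh.gradedAt U hU U' hU' hle (RelCone.restrictTop 𝒮h z U) = RelCone.restrictTop 𝒮h' z' U' :=
      uh_z huhz U U' hle
    rw [← e] at hxz
    exact pbasic_le_domQ uh hle one_pos (hz.deg_z U hU) hxz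
  · have hxW := exists_mem_pbasic_ι hz' hC' hU' hxU' hxz
    rw [pointed_eq_domQ hz' hC'] at hxW
    obtain ⟨e, a, he, ha, hxa⟩ := cone_key hz.graded hz'.graded huh hP' hC' htop U hU U' hU' hle hxU' hxW
    exact pbasic_le_domQ uh hle he ((RelProj.gradedHomAt ι hz.graded U hU).map_mem ha) hxa

include hι hι' huh hC hC' hΦh in
theorem cone_le_preimage (hP' : RelProj.IsRelProj 𝒮' p' chart')
    (htop : RelProj.domQ u p' chart' = ⊤) (htop' : RelProj.domQ uh pC' chartC' = ⊤) :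
    RelProj.domQ (RelProj.QGrHom.ofHom ι' hι') pC' chartC' ≤
      (RelProj.domQ uh pC' chartC').ι ''ᵁ (Φh ⁻¹ᵁ RelProj.domQ (RelProj.QGrHom.ofHom ι hι) pC chartC) := by
  intro x hx
  have hxd : x ∈ RelProj.domQ uh pC' chartC' := htop'.symm ▸ trivial
  obtain ⟨U, hU, hxU, -⟩ := exists_affine_le (show q (pC' x) ∈ (⊤ : Y.Opens) from trivial)
  obtain ⟨U', hU', hxU', hle⟩ := exists_affine_le (show pC' x ∈ q ⁻¹ᵁ U from hxU)
  obtain ⟨e, a, he, ha, hxa⟩ := cone_key hι hι' huh hP' hC' htop U hU U' hU' hle hxU' hx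
  have h1 := (apply_mem_iff uh hC hC' hΦh ⟨x, hxd⟩ hU hU' hle hxU' he _
    ((RelProj.gradedHomAt ι hι U hU).map_mem ha)).2 hxa
  exact ⟨⟨x, hxd⟩, (mem_domQ_ofHom_iff ι hι hC hU (pbasic_le h1)).2 ⟨e, a, he, ha, h1⟩, rfl⟩

end Groth.Agent.ProjQ
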