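import Groth.Agent.ProjQ.ConeGeom
import Groth.Agent.ProjQ.ConeImmExists

/-!
# The retraction of the pointed projective cone
-/

universe u

open CategoryTheory CategoryTheory.Limits AlgebraicGeometry TopologicalSpace Opposite HomogeneousLocalization
open scoped HomogeneousIdeal

set_option linter.style.haveILetI false
set_option backward.isDefEq.respectTransparency false
set_option backward.isDefEq.respectTransparency.types false

noncomputable section

namespace Groth.Agent.ProjQ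

open Groth.Agent

/-- Points of `Proj` with the same homogeneous elements of positive degree coincide. -/
theorem proj_ext_of_pos {A : Type u} [CommRing A] {𝒜 : ℕ → AddSubgroup A} [GradedRing 𝒜] {w w' : Proj 𝒜}
    (h : ∀ (d : ℕ) (a : A), 0 < d → a ∈ 𝒜 d → (a ∈ w.asHomogeneousIdeal ↔ a ∈ w'.asHomogeneousIdeal)) :
    w = w' := by
  classical
  have h' : ∀ (d : ℕ) (a : A), a ∈ 𝒜 d → (a ∈ w.asHomogeneousIdeal ↔ a ∈ w'.asHomogeneousIdeal) := by
    intro d a ha
    rcases Nat.eq_zero_or_pos d with rfl | hd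
    · obtain ⟨e, g, he, hg, hgw⟩ : ∃ e g, 0 < e ∧ g ∈ 𝒜 e ∧ g ∉ w.asHomogeneousIdeal := by
        by_contra! H
        exact w.not_irrelevant_le ((HomogeneousIdeal.irrelevant_le _).2 fun e he g hg => H e g he hg)
      have hgw' : g ∉ w'.asHomogeneousIdeal := fun hh => hgw ((h e g he hg).2 hh)
      have hag : a * g ∈ 𝒜 e := by simpa using SetLike.mul_mem_graded ha hg
      exact ⟨fun hh => (w'.isPrime.mem_or_mem ((h e _ he hag).1 (Ideal.mul_mem_right _ _ hh))).resolve_right hgw',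
        fun hh => (w.isPrime.mem_or_mem ((h e _ he hag).2 (Ideal.mul_mem_right _ _ hh))).resolve_right hgw⟩
    · exact h d a hd ha
  refine ProjectiveSpectrum.ext (HomogeneousIdeal.ext (le_antisymm (fun x hx => ?_) (fun x hx => ?_)))
  · rw [← DirectSum.sum_support_decompose 𝒜 x]
    exact Ideal.sum_mem _ fun i _ => (h' i _ (SetLike.coe_mem _)).1 (w.asHomogeneousIdeal.2 i hx)
  · rw [← DirectSum.sum_support_decompose 𝒜 x]
    exact Ideal.sum_mem _ fun i _ => (h' i _ (SetLike.coe_mem _)).2 (w'.asHomogeneousIdeal.2 i hx)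

/-- A composite which is the identity on fractions is the identity on the standard chart. -/
theorem comp_awayι_eq {A : Type u} [CommRing A] {𝒜 : ℕ → AddSubgroup A} [GradedRing 𝒜] {d : ℕ} {f g : A}
    (hf : f ∈ 𝒜 d) (hg : g ∈ 𝒜 d) (hd : 0 < d) (e : g = f) (c : Away 𝒜 f →+* Away 𝒜 g)
    (hc : ∀ (n : ℕ) (a : A) (ha : a ∈ 𝒜 (n • d)), c (Away.mk 𝒜 hf n a ha) = Away.mk 𝒜 hg n a ha) :
    Spec.map (CommRingCat.ofHom c) ≫ Proj.awayι 𝒜 f hf hd = Proj.awayι 𝒜 g hg hd ∧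
      Function.Surjective (Spec.map (CommRingCat.ofHom c)) := by
  subst e
  have : c = RingHom.id _ := RingHom.ext fun x => by
    obtain ⟨n, a, ha, rfl⟩ := x.mk_surjective 𝒜 hf
    exact hc n a ha
  subst this
  simp only [CommRingCat.ofHom_id, Spec.map_id, Category.id_comp, true_and]
  exact fun x => ⟨x, rfl⟩

variable {S : Scheme.{u}} {𝒮 𝒮h : RelProj.QCGrAlg S} {ι : 𝒮.toQCAlg ⟶ 𝒮h.toQCAlg}
  {z : 𝒮h.presheaf.obj (op ⊤)} (hz : RelCone.IsPolyOver 𝒮 𝒮h ι z)
  {PC : Scheme.{u}} {pC : PC ⟶ S}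
  {chartC : ∀ (U : S.Opens) (hU : IsAffineOpen U), (((pC ⁻¹ᵁ U : PC.Opens) : Scheme.{u}) ≅ Proj (𝒮h.deg U hU))}
  {P : Scheme.{u}} {p : P ⟶ S}
  {chart : ∀ (U : S.Opens) (hU : IsAffineOpen U), (((p ⁻¹ᵁ U : P.Opens) : Scheme.{u}) ≅ Proj (𝒮.deg U hU))}

variable (chart) in
/-- The equations of the canonical retraction of the pointed projective cone. -/
def IsRetr (W : PC.Opens) (chartC : ∀ (U : S.Opens) (hU : IsAffineOpen U),
    (((pC ⁻¹ᵁ U : PC.Opens) : Scheme.{u}) ≅ Proj (𝒮h.deg U hU))) (hι : RelProj.IsGradedHom ι)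
    (r : (W : Scheme.{u}) ⟶ P) : Prop :=
  ∀ (U : S.Opens) (hU : IsAffineOpen U) (d : ℕ) (hd : 0 < d) (f : 𝒮.presheaf.obj (op U)) (hf : f ∈ 𝒮.deg U hU d)
      (g : Spec (.of (Away (𝒮h.deg U hU) (RelProj.gradedHomAt ι hι U hU f))) ⟶ (W : Scheme.{u})),
      g ≫ W.ι = RelQuot.stdChart chartC U hU hd _ ((RelProj.gradedHomAt ι hι U hU).2 hf) →
        g ≫ r = Spec.map (CommRingCat.ofHom (Away.map (RelProj.gradedHomAt ι hι U hU) f)) ≫
          RelQuot.stdChart chart U hU hd f hf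

variable {W : PC.Opens} (hW : W = RelProj.domQ (RelProj.QGrHom.ofHom ι hz.graded) pC chartC)

include hW in
theorem isRetr_of_isProjQMapOn {r : (W : Scheme.{u}) ⟶ P}
    (hr : RelProj.IsProjQMapOn (RelProj.QGrHom.ofHom ι hz.graded) p chart pC chartC W r) :
    IsRetr chart W chartC hz.graded r := by
  subst hW
  intro U hU d hd f hf
  have h1 := hr U hU U hU le_rfl d hd f hf
    (RelProj.range_awayEmb_subset_domQ (RelProj.QGrHom.ofHom ι hz.graded) pC chartC U hU U hU le_rfl hd f hf)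
  have key : ∀ χ : 𝒮.deg U hU →+*ᵍ 𝒮h.deg U hU, χ = RelProj.gradedHomAt ι hz.graded U hU →
      (∀ g, g ≫ (RelProj.domQ (RelProj.QGrHom.ofHom ι hz.graded) pC chartC).ι =
          RelQuot.stdChart chartC U hU hd (χ f) (χ.2 hf) →
        g ≫ r = Spec.map (CommRingCat.ofHom (Away.map χ f)) ≫ RelQuot.stdChart chart U hU hd f hf) →
      ∀ g, g ≫ (RelProj.domQ (RelProj.QGrHom.ofHom ι hz.graded) pC chartC).ι =
          RelQuot.stdChart chartC U hU hd _ ((RelProj.gradedHomAt ι hz.graded U hU).2 hf) →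
        g ≫ r = Spec.map (CommRingCat.ofHom (Away.map (RelProj.gradedHomAt ι hz.graded U hU) f)) ≫
          RelQuot.stdChart chart U hU hd f hf := by
    rintro _ rfl h
    exact h
  refine key _ (ofHom_gradedAt_self ι hz.graded U hU) fun g hg => ?_
  rw [IsOpenImmersion.lift_uniq _ _ (RelProj.range_awayEmb_subset_domQ
    (RelProj.QGrHom.ofHom ι hz.graded) pC chartC U hU U hU le_rfl hd f hf) g hg]
  exact h1

include hW in
theorem mem_retrDom_iff (hC : RelProj.IsRelProj 𝒮h pC chartC) {U : S.Opens} (hU : IsAffineOpen U) {x : PC}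
    (hx : pC x ∈ U) : x ∈ W ↔ ∃ (d : ℕ) (a : 𝒮.presheaf.obj (op U)), 0 < d ∧ a ∈ 𝒮.deg U hU d ∧
      x ∈ pbasic chartC U hU (RelProj.gradedHomAt ι hz.graded U hU a) := by
  subst hW
  exact mem_domQ_ofHom_iff ι hz.graded hC hU hx

include hW in
theorem retr_range_le (hC : RelProj.IsRelProj 𝒮h pC chartC) {U : S.Opens} (hU : IsAffineOpen U) {d : ℕ} (hd : 0 < d)
    {f : 𝒮.presheaf.obj (op U)} (hf : f ∈ 𝒮.deg U hU d) :
    Set.range (RelQuot.stdChart chartC U hU hd _ ((RelProj.gradedHomAt ι hz.graded U hU).2 hf)) ⊆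
      Set.range W.ι := by
  rw [range_stdChart, Scheme.Opens.range_ι]
  intro x hx
  exact (mem_retrDom_iff hz hW hC hU (pbasic_le hx)).2 ⟨d, f, hd, hf, hx⟩

include hW in
theorem retr_unique (hC : RelProj.IsRelProj 𝒮h pC chartC) {r r' : (W : Scheme.{u}) ⟶ P}
    (hr : IsRetr chart W chartC hz.graded r) (hr' : IsRetr chart W chartC hz.graded r') : r = r' := by
  let J := {j : ChartIdx 𝒮 // j.U = j.U}
  let c : ∀ j : ChartIdx 𝒮, Spec (.of (Away (𝒮h.deg j.U j.hU) (RelProj.gradedHomAt ι hz.graded j.U j.hU j.f))) ⟶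
      (W : Scheme.{u}) := fun j => IsOpenImmersion.lift W.ι _ (retr_range_le hz hW hC j.hU j.hd j.hf)
  have hc : ∀ j, c j ≫ W.ι = RelQuot.stdChart chartC j.U j.hU j.hd _
      ((RelProj.gradedHomAt ι hz.graded j.U j.hU).2 j.hf) := fun j => IsOpenImmersion.lift_fac _ _ _
  let 𝒰 : (W : Scheme.{u}).OpenCover := Scheme.Cover.mkOfCovers (ChartIdx 𝒮)
    (fun j => _) c (fun x => by
      obtain ⟨U, hU, hxU, -⟩ := exists_affine_le (show pC x.1 ∈ (⊤ : S.Opens) from trivial)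
      obtain ⟨d, a, hd, ha, hxa⟩ := (mem_retrDom_iff hz hW hC hU hxU).1 x.2
      obtain ⟨y, hy⟩ := (range_stdChart (chart := chartC) hU hd _ ((RelProj.gradedHomAt ι hz.graded U hU).2 ha)).ge hxa
      refine ⟨⟨U, hU, d, hd, a, ha⟩, y, W.ι.isOpenEmbedding.injective ?_⟩
      rw [← Scheme.Hom.comp_apply, hc]
      exact hy)
    (fun j => by
      haveI : IsOpenImmersion (c j ≫ W.ι) := by rw [hc]; infer_instance
      exact IsOpenImmersion.of_comp (c j) W.ι)
  refine 𝒰.hom_ext _ _ fun j => ?_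
  exact (hr j.U j.hU j.d j.hd j.f j.hf (c j) (hc j)).trans (hr' j.U j.hU j.d j.hd j.f j.hf (c j) (hc j)).symm

include hW in
theorem retr_exists (hP : RelProj.IsRelProj 𝒮 p chart) (hC : RelProj.IsRelProj 𝒮h pC chartC) :
    ∃! r : (W : Scheme.{u}) ⟶ P, IsRetr chart W chartC hz.graded r := by
  subst hW
  obtain ⟨r, hr, -⟩ := existsUnique_projQMap (RelProj.QGrHom.ofHom ι hz.graded) (chart := chart) hC hP
  exact ⟨r, isRetr_of_isProjQMapOn hz rfl hr, fun r' hr' =>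
    retr_unique hz rfl hC hr' (isRetr_of_isProjQMapOn hz rfl hr)⟩

variable (hP : RelProj.IsRelProj 𝒮 p chart) (hC : RelProj.IsRelProj 𝒮h pC chartC)
  {r : (W : Scheme.{u}) ⟶ P} (hr : IsRetr chart W chartC hz.graded r)

include hW hP hC hr in
theorem retr_of_away (Pr : MorphismProperty Scheme.{u}) [IsZariskiLocalAtTarget Pr]
    (h : ∀ (U : S.Opens) (hU : IsAffineOpen U) (d : ℕ) (f : 𝒮.presheaf.obj (op U)), 0 < d → f ∈ 𝒮.deg U hU d →
      Pr (Spec.map (CommRingCat.ofHom (Away.map (RelProj.gradedHomAt ι hz.graded U hU) f)))) : Pr r := by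
  subst hW
  obtain ⟨v, hv, -⟩ := existsUnique_projQMap (RelProj.QGrHom.ofHom ι hz.graded) (chart := chart) hC hP
  obtain rfl := retr_unique hz rfl hC hr (isRetr_of_isProjQMapOn hz rfl hv)
  exact ofHom_of_away ι hz.graded hP hC Pr hv h

include hW hP hC hr in
theorem retr_comp : r ≫ p = W.ι ≫ pC := by
  subst hW
  obtain ⟨v, hv, -⟩ := existsUnique_projQMap (RelProj.QGrHom.ofHom ι hz.graded) (chart := chart) hC hP
  obtain rfl := retr_unique hz rfl hC hr (isRetr_of_isProjQMapOn hz rfl hv)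
  rw [projQMap_comp (RelProj.QGrHom.ofHom ι hz.graded) hP hC hv, Category.comp_id]

include hW hP hC hr in
theorem retr_mem_iff {U : S.Opens} (hU : IsAffineOpen U) (x : (W : Scheme.{u})) (hx : pC x.1 ∈ U) {e : ℕ}
    (he : 0 < e) {a : 𝒮.presheaf.obj (op U)} (ha : a ∈ 𝒮.deg U hU e) :
    r x ∈ pbasic chart U hU a ↔ x.1 ∈ pbasic chartC U hU (RelProj.gradedHomAt ι hz.graded U hU a) := by
  subst hW
  obtain ⟨v, hv, -⟩ := existsUnique_projQMap (RelProj.QGrHom.ofHom ι hz.graded) (chart := chart) hC hP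
  obtain rfl := retr_unique hz rfl hC hr (isRetr_of_isProjQMapOn hz rfl hv)
  rw [apply_mem_iff (RelProj.QGrHom.ofHom ι hz.graded) hP hC hv x hU hU le_rfl hx he a ha,
    show (RelProj.QGrHom.ofHom ι hz.graded).gradedAt U hU U hU le_rfl a = RelProj.gradedHomAt ι hz.graded U hU a from
      congrArg (fun χ : 𝒮.deg U hU →+*ᵍ 𝒮h.deg U hU => χ a) (ofHom_gradedAt_self ι hz.graded U hU)]

include hW hP hC hr in
theorem isAffineHom_retr : IsAffineHom r :=
  retr_of_away hz hW hP hC hr @IsAffineHom fun _ _ _ _ _ _ => inferInstance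

include hW hP hC hr in
theorem surjective_retr : Surjective r := by
  refine retr_of_away hz hW hP hC hr @Surjective fun U hU d f hd hf => ⟨fun w => ?_⟩
  let ψ := RelProj.gradedHomAt ι hz.graded U hU
  let τ := evalZero hz U hU
  let c := (Away.map τ (ψ f)).comp (Away.map ψ f)
  have hg : τ (ψ f) = f := evalZero_ι hz U hU f
  obtain ⟨y, hy⟩ := (comp_awayι_eq hf (τ.map_mem (ψ.map_mem hf)) hd hg c fun n a ha => by
    show Away.map τ (ψ f) (Away.map ψ f (Away.mk _ hf n a ha)) = _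
    rw [Away.map_mk, Away.map_mk]
    congr 1
    exact evalZero_ι hz U hU a).2 w
  refine ⟨Spec.map (CommRingCat.ofHom (Away.map τ (ψ f))) y, ?_⟩
  rw [← hy, ← Scheme.Hom.comp_apply, ← Spec.map_comp, ← CommRingCat.ofHom_comp]
  rfl

include hW hP hC hr in
theorem retr_section {θ : 𝒮h.toQCAlg ⟶ 𝒮.toQCAlg} {hθ : RelProj.IsGradedHom θ} (hιθ : ι ≫ θ = 𝟙 _)
    {hirr : ∀ (U : S.Opens) (hU : IsAffineOpen U),
      (𝒮.deg U hU)₊ ≤ ((𝒮h.deg U hU)₊).map (RelProj.gradedHomAt θ hθ U hU)}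
    {j : P ⟶ PC} (hj : RelProj.IsRelProjMap θ hθ hirr chartC chart j)
    {j' : P ⟶ (W : Scheme.{u})} (hj' : j' ≫ W.ι = j) : j' ≫ r = 𝟙 P := by
  refine (stdCover chart).hom_ext _ _ fun s => ?_
  obtain ⟨U, hU, d, hd, f, hf⟩ := s
  show RelQuot.stdChart chart U hU hd f hf ≫ j' ≫ r = RelQuot.stdChart chart U hU hd f hf ≫ 𝟙 P
  rw [Category.comp_id]
  let ψ := RelProj.gradedHomAt ι hz.graded U hU
  let τ := RelProj.gradedHomAt θ hθ U hU
  have hτψ : ∀ a, τ (ψ a) = a := retr_apply hιθ U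
  suffices H : ∀ (g : 𝒮.presheaf.obj (op U)) (hg : g ∈ 𝒮.deg U hU d), g = τ (ψ f) →
      RelQuot.stdChart chart U hU hd g hg ≫ j' ≫ r = RelQuot.stdChart chart U hU hd g hg from
    H f hf (hτψ f).symm
  rintro g hg rfl
  let l := IsOpenImmersion.lift W.ι _ (retr_range_le hz hW hC hU hd hf)
  have hl : l ≫ W.ι = RelQuot.stdChart chartC U hU hd _ (ψ.map_mem hf) := IsOpenImmersion.lift_fac _ _ _
  have hje : RelProj.emb p chart U hU ≫ j =
      Proj.map τ (hirr U hU) ≫ RelProj.emb pC chartC U hU := by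
    rw [RelProj.emb, Category.assoc, hj U hU, Iso.inv_hom_id_assoc, RelProj.emb]
  have h1 : RelQuot.stdChart chart U hU hd (τ (ψ f)) hg ≫ j' =
      Spec.map (CommRingCat.ofHom (Away.map τ (ψ f))) ≫ l := by
    rw [← cancel_mono W.ι, Category.assoc, hj', Category.assoc, hl, RelQuot.stdChart, RelQuot.stdChart,
      Category.assoc, hje, ← Category.assoc, ← Category.assoc]
    exact congrArg (· ≫ _) (Proj.awayι_comp_map τ (hirr U hU) hd (ψ f) (ψ.map_mem hf))
  rw [← Category.assoc, h1, Category.assoc, hr U hU d hd f hf l hl, ← Category.assoc, ← Spec.map_comp,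
    ← CommRingCat.ofHom_comp]
  simp only [RelQuot.stdChart, ← Category.assoc]
  refine congrArg (· ≫ _) (comp_awayι_eq hf hg hd (hτψ f) _ fun n a ha => ?_).1
  rw [RingHom.comp_apply, Away.map_mk, Away.map_mk]
  congr 1
  exact hτψ a

variable {i : 𝒮.toQCAlg.spec ⟶ PC} (hi : RelCone.IsConeImm 𝒮 hz pC chartC i)

include hW hP hC hr hi in
theorem surjective_pointedCone_retr
    (i' : ((RelCone.pointedCone 𝒮 : 𝒮.toQCAlg.spec.Opens) : Scheme.{u}) ⟶ (W : Scheme.{u}))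
    (hi' : i' ≫ W.ι = (RelCone.pointedCone 𝒮).ι ≫ i) : Function.Surjective (i' ≫ r) := by
  intro x
  obtain ⟨U, hU, hxU, -⟩ := exists_affine_le (show p x ∈ (⊤ : S.Opens) from trivial)
  obtain ⟨w, rfl⟩ := exists_emb (chart := chart) hU hxU
  let y : Spec (𝒮.presheaf.obj (op U)) :=
    (⟨w.asHomogeneousIdeal.toIdeal, w.isPrime⟩ : PrimeSpectrum (𝒮.presheaf.obj (op U)))
  have hy : 𝒮.toQCAlg.ι U hU y ∈ RelCone.pointedCone 𝒮 :=
    (ConeX.mem_pointedCone 𝒮 U hU y).2 w.not_irrelevant_le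
  let c : ((RelCone.pointedCone 𝒮 : 𝒮.toQCAlg.spec.Opens) : Scheme.{u}) := ⟨_, hy⟩
  refine ⟨c, ?_⟩
  have hval : W.ι (i' c) = i (𝒮.toQCAlg.ι U hU y) := by
    rw [← Scheme.Hom.comp_apply, hi']; rfl
  have hpx : pC (W.ι (i' c)) ∈ U := by
    rw [hval, ← Scheme.Hom.comp_apply i pC, coneImm_comp hz hC hi, ← Scheme.Hom.comp_apply, RelSpec.QCAlg.ι_π,
      Scheme.Hom.comp_apply, ← SetLike.mem_coe, ← hU.range_fromSpec]
    exact ⟨_, rfl⟩
  have hpr : p (r (i' c)) ∈ U := by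
    rw [← Scheme.Hom.comp_apply r p, retr_comp hz hW hP hC hr]
    exact hpx
  obtain ⟨w', hw'⟩ := exists_emb (chart := chart) hU hpr
  show r (i' c) = _
  rw [← hw']
  refine congrArg _ (proj_ext_of_pos fun d a hd ha => not_iff_not.1 ?_)
  rw [← emb_mem_pbasic (chart := chart), hw', retr_mem_iff hz hW hP hC hr hU (i' c) hpx hd ha]
  rw [show ((i' c : (W : Scheme.{u})).1 : PC) = i (𝒮.toQCAlg.ι U hU y) from hval]
  exact coneImm_mem_pbasic_iff hz hi hU y ha

end Groth.Agent.ProjQ
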