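import Groth.Agent.ProjQ.ConeQ

/-!
# The affine cone inside the projective cone is functorial
-/

universe u

open CategoryTheory CategoryTheory.Limits AlgebraicGeometry TopologicalSpace Opposite HomogeneousLocalization
open scoped HomogeneousIdeal

set_option linter.style.haveILetI false
set_option backward.isDefEq.respectTransparency false
set_option backward.isDefEq.respectTransparency.types false

noncomputable section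

namespace Groth.Agent.ProjQ

open Groth.Agent

theorem awayZToBase_mk {S : Scheme.{u}} {𝒮 𝒮h : RelProj.QCGrAlg S} {ι : 𝒮.toQCAlg ⟶ 𝒮h.toQCAlg}
    {z : 𝒮h.presheaf.obj (op ⊤)} (hz : RelCone.IsPolyOver 𝒮 𝒮h ι z) {U : S.Opens} (hU : IsAffineOpen U) (n : ℕ)
    (x : 𝒮h.presheaf.obj (op U)) (hx : x ∈ 𝒮h.deg U hU (n • 1)) :
    hz.awayZToBase U hU (Away.mk _ (hz.deg_z U hU) n x hx) = hz.evalOne U hU x :=
  hz.awayZToBase_of_val U hU _ x n (Away.val_mk _ _ _ _ _)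

theorem exists_awayMap {A B : Type u} [CommRing A] [CommRing B] {𝒜 : ℕ → AddSubgroup A}
    {ℬ : ℕ → AddSubgroup B} [GradedRing 𝒜] [GradedRing ℬ] (χ : 𝒜 →+*ᵍ ℬ) {d : ℕ} {f : A} (hf : f ∈ 𝒜 d)
    {f' : B} (hf' : f' ∈ ℬ d) (e : χ f = f') :
    ∃ φ : Away 𝒜 f →+* Away ℬ f', ∀ (n : ℕ) (x : A) (hx : x ∈ 𝒜 (n • d)),
      φ (Away.mk _ hf n x hx) = Away.mk _ hf' n (χ x) (χ.map_mem hx) := by
  subst e
  exact ⟨Away.map χ f, fun n x hx => by rw [Away.map_mk]⟩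

variable {Y Y' : Scheme.{u}} {q : Y' ⟶ Y} {𝒮 : RelProj.QCGrAlg Y} {𝒮' : RelProj.QCGrAlg Y'}
  {u : RelProj.QGrHom q 𝒮 𝒮'} {𝒮h : RelProj.QCGrAlg Y} {ι : 𝒮.toQCAlg ⟶ 𝒮h.toQCAlg}
  {z : 𝒮h.presheaf.obj (op ⊤)} {𝒮h' : RelProj.QCGrAlg Y'} {ι' : 𝒮'.toQCAlg ⟶ 𝒮h'.toQCAlg}
  {z' : 𝒮h'.presheaf.obj (op ⊤)} {uh : RelProj.QGrHom q 𝒮h 𝒮h'}
  {PC PC' : Scheme.{u}} {pC : PC ⟶ Y}
  {chartC : ∀ (U : Y.Opens) (hU : IsAffineOpen U), (((pC ⁻¹ᵁ U : PC.Opens) : Scheme.{u}) ≅ Proj (𝒮h.deg U hU))}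
  {pC' : PC' ⟶ Y'}
  {chartC' : ∀ (U : Y'.Opens) (hU : IsAffineOpen U), (((pC' ⁻¹ᵁ U : PC'.Opens) : Scheme.{u}) ≅ Proj (𝒮h'.deg U hU))}

theorem evalOne_comm (hz : RelCone.IsPolyOver 𝒮 𝒮h ι z) (hz' : RelCone.IsPolyOver 𝒮' 𝒮h' ι' z')
    (huh : ∀ U : Y.Opens, ι.hom.app (op U) ≫ uh.app U = u.app U ≫ ι'.hom.app (op (q ⁻¹ᵁ U)))
    (huhz : (uh.app ⊤).hom z = RelCone.restrictTop 𝒮h' z' (q ⁻¹ᵁ ⊤))
    {U : Y.Opens} (hU : IsAffineOpen U) {U' : Y'.Opens} (hU' : IsAffineOpen U') (hle : U' ≤ q ⁻¹ᵁ U)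
    (y : 𝒮h.presheaf.obj (op U)) :
    hz'.evalOne U' hU' ((uh.appLE U U' hle).hom y) = (u.appLE U U' hle).hom (hz.evalOne U hU y) := by
  have key : (hz'.evalOne U' hU').comp (uh.appLE U U' hle).hom =
      (u.appLE U U' hle).hom.comp (hz.evalOne U hU) := by
    refine poly_ext hz hU (fun x => ?_) ?_
    · simp only [RingHom.comp_apply]
      have e := congr($(uh_ι huh U U' hle) x)
      simp only [CommRingCat.comp_apply] at e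
      rw [e, hz'.evalOne_ι, hz.evalOne_ι]
    · simp only [RingHom.comp_apply]
      rw [uh_z huhz, hz'.evalOne_z, hz.evalOne_z, map_one]
  exact congr($key y)

theorem coneImm_mem {hz' : RelCone.IsPolyOver 𝒮' 𝒮h' ι' z'} (hz : RelCone.IsPolyOver 𝒮 𝒮h ι z)
    (huhz : (uh.app ⊤).hom z = RelCone.restrictTop 𝒮h' z' (q ⁻¹ᵁ ⊤))
    {i' : 𝒮'.toQCAlg.spec ⟶ PC'} (hi' : RelCone.IsConeImm 𝒮' hz' pC' chartC' i') (x : 𝒮'.toQCAlg.spec) :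
    i' x ∈ RelProj.domQ uh pC' chartC' := by
  obtain ⟨U, hU, hxU, -⟩ := exists_affine_le (show q (𝒮'.toQCAlg.π x) ∈ (⊤ : Y.Opens) from trivial)
  obtain ⟨U', hU', hxU', hle⟩ := exists_affine_le (show 𝒮'.toQCAlg.π x ∈ q ⁻¹ᵁ U from hxU)
  obtain ⟨y, rfl⟩ : x ∈ (𝒮'.toQCAlg.ι U' hU').opensRange := by
    rw [← 𝒮'.toQCAlg.π_preimage U' hU']; exact hxU'
  have e : uh.gradedAt U hU U' hU' hle (RelCone.restrictTop 𝒮h z U) = RelCone.restrictTop 𝒮h' z' U' :=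
    uh_z huhz U U' hle
  refine pbasic_le_domQ uh (hU' := hU') hle one_pos (hz.deg_z U hU) ?_
  rw [e, ← SetLike.mem_coe, ← range_stdChart hU' one_pos _ (hz'.deg_z U' hU'), ← Scheme.Hom.comp_apply, hi' U' hU']
  exact ⟨Spec.map (CommRingCat.ofHom (hz'.awayZToBase U' hU')) y, rfl⟩

theorem cone_imm {hz : RelCone.IsPolyOver 𝒮 𝒮h ι z} {hz' : RelCone.IsPolyOver 𝒮' 𝒮h' ι' z'}
    (huh : ∀ U : Y.Opens, ι.hom.app (op U) ≫ uh.app U = u.app U ≫ ι'.hom.app (op (q ⁻¹ᵁ U)))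
    (huhz : (uh.app ⊤).hom z = RelCone.restrictTop 𝒮h' z' (q ⁻¹ᵁ ⊤))
    {Φh : ((RelProj.domQ uh pC' chartC' : PC'.Opens) : Scheme.{u}) ⟶ PC}
    (hΦh : RelProj.IsProjQMapOn uh pC chartC pC' chartC' (RelProj.domQ uh pC' chartC') Φh)
    {Φc : 𝒮'.toQCAlg.spec ⟶ 𝒮.toQCAlg.spec} (hΦc : RelSpec.IsSpecQMap u.toQHom Φc)
    {i : 𝒮.toQCAlg.spec ⟶ PC} (hi : RelCone.IsConeImm 𝒮 hz pC chartC i)
    {i' : 𝒮'.toQCAlg.spec ⟶ PC'} (hi' : RelCone.IsConeImm 𝒮' hz' pC' chartC' i')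
    (i'' : 𝒮'.toQCAlg.spec ⟶ ((RelProj.domQ uh pC' chartC' : PC'.Opens) : Scheme.{u}))
    (hi'' : i'' ≫ (RelProj.domQ uh pC' chartC').ι = i') : i'' ≫ Φh = Φc ≫ i := by
  let J := {V : Y.affineOpens × Y'.affineOpens // (V.2 : Y'.Opens) ≤ q ⁻¹ᵁ (V.1 : Y.Opens)}
  let 𝒰 : 𝒮'.toQCAlg.spec.OpenCover := Scheme.Cover.mkOfCovers J (fun j => _)
    (fun j => 𝒮'.toQCAlg.ι j.1.2.1 j.1.2.2) (fun x => by
      obtain ⟨U, hU, hxU, -⟩ := exists_affine_le (show q (𝒮'.toQCAlg.π x) ∈ (⊤ : Y.Opens) from trivial)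
      obtain ⟨U', hU', hxU', hle⟩ := exists_affine_le (show 𝒮'.toQCAlg.π x ∈ q ⁻¹ᵁ U from hxU)
      obtain ⟨y, hy⟩ : x ∈ (𝒮'.toQCAlg.ι U' hU').opensRange := by
        rw [← 𝒮'.toQCAlg.π_preimage U' hU']; exact hxU'
      exact ⟨⟨(⟨U, hU⟩, ⟨U', hU'⟩), hle⟩, y, hy⟩) (fun j => inferInstance)
  refine 𝒰.hom_ext _ _ fun j => ?_
  obtain ⟨⟨⟨U, hU⟩, ⟨U', hU'⟩⟩, hle⟩ := j
  show 𝒮'.toQCAlg.ι U' hU' ≫ _ = 𝒮'.toQCAlg.ι U' hU' ≫ _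
  have e : uh.gradedAt U hU U' hU' hle (RelCone.restrictTop 𝒮h z U) = RelCone.restrictTop 𝒮h' z' U' :=
    uh_z huhz U U' hle
  obtain ⟨φ, hφ⟩ := exists_awayMap (uh.gradedAt U hU U' hU' hle) (hz.deg_z U hU) (hz'.deg_z U' hU') e
  have hring : (hz'.awayZToBase U' hU').comp φ = (u.appLE U U' hle).hom.comp (hz.awayZToBase U hU) := by
    ext y
    obtain ⟨n, x, hx, rfl⟩ := y.mk_surjective (𝒮h.deg U hU) (hz.deg_z U hU)
    simp only [RingHom.comp_apply]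
    rw [hφ n x hx, awayZToBase_mk, awayZToBase_mk]
    exact evalOne_comm hz hz' huh huhz hU hU' hle x
  have hb : (𝒮'.toQCAlg.ι U' hU' ≫ i'') ≫ (RelProj.domQ uh pC' chartC').ι =
      Spec.map (CommRingCat.ofHom (hz'.awayZToBase U' hU')) ≫
        RelQuot.stdChart chartC' U' hU' one_pos _ (hz'.deg_z U' hU') := by
    rw [Category.assoc, hi'']; exact hi' U' hU'
  rw [← Category.assoc, lift_stdChart_comp uh hΦh hU hU' hle one_pos _ (hz.deg_z U hU) _ (hz'.deg_z U' hU') e _ _ hb φ hφ,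
    reassoc_of% (hΦc U hU U' hU' hle), hi U hU, ← Spec.map_comp_assoc, ← Spec.map_comp_assoc]
  have hcat : CommRingCat.ofHom φ ≫ CommRingCat.ofHom (hz'.awayZToBase U' hU') =
      CommRingCat.ofHom (hz.awayZToBase U hU) ≫ u.appLE U U' hle := CommRingCat.hom_ext hring
  rw [hcat]
  rfl

end Groth.Agent.ProjQ
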