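import Groth.Agent.ProjQ.Basic

/-!
# The open of definition of `Proj(u)` and the morphism on it
-/

universe u

open CategoryTheory CategoryTheory.Limits AlgebraicGeometry TopologicalSpace Opposite HomogeneousLocalization
open scoped HomogeneousIdeal

set_option linter.style.haveILetI false
set_option backward.isDefEq.respectTransparency false
set_option backward.isDefEq.respectTransparency.types false

noncomputable section

namespace Groth.Agent.ProjQ

open Groth.Agent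

section ring

variable {A B : Type u} [CommRing A] [CommRing B] {𝒜 : ℕ → AddSubgroup A} {ℬ : ℕ → AddSubgroup B}
  [GradedRing 𝒜] [GradedRing ℬ]

theorem mem_domOpen_iff_homogeneous (ψ : 𝒜 →+*ᵍ ℬ) (z : Proj ℬ) :
    z ∈ RelCone.domOpen ψ ↔ ∃ d, 0 < d ∧ ∃ f ∈ 𝒜 d, ψ f ∉ z.asHomogeneousIdeal := by
  rw [RelCone.mem_domOpen]
  refine ⟨fun ⟨f, hf, hfz⟩ => ?_, fun ⟨d, hd, f, hf, hfz⟩ => ⟨f, HomogeneousIdeal.mem_irrelevant_of_mem _ hd hf, hfz⟩⟩
  by_contra! h
  refine hfz ?_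
  have : (HomogeneousIdeal.irrelevant 𝒜).toIdeal ≤ z.asHomogeneousIdeal.toIdeal.comap ψ :=
    (HomogeneousIdeal.toIdeal_irrelevant_le _).2 fun i hi a ha => h i hi a ha
  exact this hf

end ring

variable {S S' : Scheme.{u}} {g : S' ⟶ S} {𝒮 : RelProj.QCGrAlg S} {𝒮' : RelProj.QCGrAlg S'}
  (u : RelProj.QGrHom g 𝒮 𝒮')
  {P : Scheme.{u}} {p : P ⟶ S}
  {chart : ∀ (U : S.Opens) (hU : IsAffineOpen U), (((p ⁻¹ᵁ U : P.Opens) : Scheme.{u}) ≅ Proj (𝒮.deg U hU))}
  {P' : Scheme.{u}} {p' : P' ⟶ S'}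
  {chart' : ∀ (U : S'.Opens) (hU : IsAffineOpen U), (((p' ⁻¹ᵁ U : P'.Opens) : Scheme.{u}) ≅ Proj (𝒮'.deg U hU))}

theorem exists_affine_le {X : Scheme.{u}} {W : X.Opens} {y : X} (hy : y ∈ W) :
    ∃ (V : X.Opens), IsAffineOpen V ∧ y ∈ V ∧ V ≤ W := by
  obtain ⟨V, hV, hyV, hVW⟩ := exists_isAffineOpen_mem_and_subset (X := X) (x := y) (U := W) hy
  exact ⟨V, hV, hyV, hVW⟩

theorem mem_domQ {x : P'} :
    x ∈ RelProj.domQ u p' chart' ↔ ∃ (U : S.Opens) (hU : IsAffineOpen U) (U' : S'.Opens) (hU' : IsAffineOpen U')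
      (hle : U' ≤ g ⁻¹ᵁ U) (d : ℕ) (f : 𝒮.presheaf.obj (op U)), 0 < d ∧ f ∈ 𝒮.deg U hU d ∧
      x ∈ pbasic chart' U' hU' (u.gradedAt U hU U' hU' hle f) := by
  constructor
  · intro h
    obtain ⟨⟨⟨⟨U, hU⟩, ⟨U', hU'⟩⟩, hle⟩, z, hz, rfl⟩ := Opens.mem_iSup.1 h
    obtain ⟨d, hd, f, hf, hfz⟩ := (mem_domOpen_iff_homogeneous _ z).1 hz
    exact ⟨U, hU, U', hU', hle, d, f, hd, hf, emb_mem_pbasic.2 hfz⟩
  · rintro ⟨U, hU, U', hU', hle, d, f, hd, hf, hx⟩
    obtain ⟨z, rfl⟩ := exists_emb (chart := chart') hU' (pbasic_le hx)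
    exact Opens.mem_iSup.2 ⟨⟨(⟨U, hU⟩, ⟨U', hU'⟩), hle⟩, z,
      (mem_domOpen_iff_homogeneous _ z).2 ⟨d, hd, f, hf, emb_mem_pbasic.1 hx⟩, rfl⟩

theorem pbasic_le_domQ {U : S.Opens} {hU : IsAffineOpen U} {U' : S'.Opens} {hU' : IsAffineOpen U'}
    (hle : U' ≤ g ⁻¹ᵁ U) {d : ℕ} (hd : 0 < d) {f : 𝒮.presheaf.obj (op U)} (hf : f ∈ 𝒮.deg U hU d) :
    pbasic chart' U' hU' (u.gradedAt U hU U' hU' hle f) ≤ RelProj.domQ u p' chart' :=
  fun _ hx => (mem_domQ u).2 ⟨U, hU, U', hU', hle, d, f, hd, hf, hx⟩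

/-- Over a basic open of the base nothing new is defined. -/
theorem exists_mem_of_good {U W : S.Opens} (G : RelTwistX.Good U W) (hU : IsAffineOpen U) (hW : IsAffineOpen W)
    {W' : S'.Opens} {hW' : IsAffineOpen W'} (hle : W' ≤ g ⁻¹ᵁ W) {d : ℕ} (hd : 0 < d)
    {h : 𝒮.presheaf.obj (op W)} (hh : h ∈ 𝒮.deg W hW d) {x : P'}
    (hx : x ∈ pbasic chart' W' hW' (u.gradedAt W hW W' hW' hle h)) :
    ∃ (e : ℕ) (a : 𝒮.presheaf.obj (op U)), 0 < e ∧ a ∈ 𝒮.deg U hU e ∧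
      x ∈ pbasic chart' W' hW' (u.gradedAt U hU W' hW' (hle.trans (g.preimage_mono G.le)) a) := by
  obtain ⟨z, rfl⟩ := exists_emb (chart := chart') hW' (pbasic_le hx)
  rw [emb_mem_pbasic] at hx
  by_contra! hne
  refine hx ?_
  have h1 : (HomogeneousIdeal.irrelevant (𝒮.deg U hU)).toIdeal ≤
      (z.asHomogeneousIdeal.toIdeal.comap (u.gradedAt W hW W' hW' hle)).comap (𝒮.res hU hW G.le) :=
    (HomogeneousIdeal.toIdeal_irrelevant_le _).2 fun e he a ha => by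
      have := hne e a he ha
      rw [emb_mem_pbasic, not_not, gradedAt_res_left_apply u hU hW W' hW' G.le hle] at this
      exact this
  have h2 : (HomogeneousIdeal.irrelevant (𝒮.deg W hW)).toIdeal ≤
      z.asHomogeneousIdeal.toIdeal.comap (u.gradedAt W hW W' hW' hle) :=
    le_trans (show (HomogeneousIdeal.irrelevant (𝒮.deg W hW)).toIdeal ≤ _ from G.irr hU hW)
      (Ideal.map_le_iff_le_comap.2 h1)
  exact h2 (HomogeneousIdeal.mem_irrelevant_of_mem _ hd hh)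

variable (hP' : RelProj.IsRelProj 𝒮' p' chart')

include hP' in
/-- `G(u)` over an affine pair. -/
theorem mem_domQ_iff {U : S.Opens} (hU : IsAffineOpen U) {U' : S'.Opens} (hU' : IsAffineOpen U')
    (hle : U' ≤ g ⁻¹ᵁ U) {x : P'} (hx : p' x ∈ U') :
    x ∈ RelProj.domQ u p' chart' ↔
      ∃ (e : ℕ) (a : 𝒮.presheaf.obj (op U)), 0 < e ∧ a ∈ 𝒮.deg U hU e ∧
        x ∈ pbasic chart' U' hU' (u.gradedAt U hU U' hU' hle a) := by
  refine ⟨fun h => ?_, fun ⟨e, a, he, ha, h⟩ => (mem_domQ u).2 ⟨U, hU, U', hU', hle, e, a, he, ha, h⟩⟩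
  obtain ⟨V, hV, V', hV', hVle, d, f, hd, hf, hxf⟩ := (mem_domQ u).1 h
  obtain ⟨W, hW, G, G', hxW⟩ := RelTwistX.exists_good hU hV (hle hx) (hVle (pbasic_le hxf))
  obtain ⟨W', hW', hxW', hW'le⟩ := exists_affine_le
    (show p' x ∈ U' ⊓ V' ⊓ g ⁻¹ᵁ W from ⟨⟨hx, pbasic_le hxf⟩, hxW⟩)
  have i1 : W' ≤ U' := hW'le.trans (inf_le_left.trans inf_le_left)
  have i2 : W' ≤ V' := hW'le.trans (inf_le_left.trans inf_le_right)
  have iW : W' ≤ g ⁻¹ᵁ W := hW'le.trans inf_le_right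
  rw [← mem_pbasic_res hP' hV' hW' i2 _ hxW', ← gradedAt_res_right_apply u V hV hV' hW' hVle i2,
    gradedAt_res_left_apply u hV hW W' hW' G'.le iW] at hxf
  obtain ⟨e, a, he, ha, hxa⟩ := exists_mem_of_good u G hU hW iW hd ((𝒮.res hV hW G'.le).map_mem hf) hxf
  refine ⟨e, a, he, ha, ?_⟩
  rw [← mem_pbasic_res hP' hU' hW' i1 _ hxW', ← gradedAt_res_right_apply u U hU hU' hW' hle i1]
  exact hxa

/-- The index of a standard piece. -/
structure Idx where
  U : S.Opens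
  hU : IsAffineOpen U
  U' : S'.Opens
  hU' : IsAffineOpen U'
  hle : U' ≤ g ⁻¹ᵁ U
  d : ℕ
  hd : 0 < d
  f : 𝒮.presheaf.obj (op U)
  hf : f ∈ 𝒮.deg U hU d

variable (chart chart') in
/-- The standard piece of an index. -/
def idxPiece (i : Idx (g := g) (𝒮 := 𝒮)) : Piece P' P :=
  piece chart chart' (u.gradedAt i.U i.hU i.U' i.hU' i.hle) i.hd i.f i.hf

variable (hP : RelProj.IsRelProj 𝒮 p chart)

include hP hP' in
theorem compat (i j : Idx (g := g) (𝒮 := 𝒮)) (x : P') (hi : x ∈ Set.range (idxPiece u chart chart' i).c)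
    (hj : x ∈ Set.range (idxPiece u chart chart' j).c) :
    ∃ k, x ∈ Set.range (idxPiece u chart chart' k).c ∧
      Below (idxPiece u chart chart' k) (idxPiece u chart chart' i) ∧
      Below (idxPiece u chart chart' k) (idxPiece u chart chart' j) := by
  obtain ⟨U, hU, U', hU', hle, d, hd, f, hf⟩ := i
  obtain ⟨V, hV, V', hV', hVle, e, he, f', hf'⟩ := j
  simp only [idxPiece, range_piece, SetLike.mem_coe] at hi hj
  obtain ⟨W, hW, G, G', hxW⟩ := RelTwistX.exists_good hU hV (hle (pbasic_le hi)) (hVle (pbasic_le hj))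
  obtain ⟨W', hW', hxW', hW'le⟩ := exists_affine_le
    (show p' x ∈ U' ⊓ V' ⊓ g ⁻¹ᵁ W from ⟨⟨pbasic_le hi, pbasic_le hj⟩, hxW⟩)
  have i1 : W' ≤ U' := hW'le.trans (inf_le_left.trans inf_le_left)
  have i2 : W' ≤ V' := hW'le.trans (inf_le_left.trans inf_le_right)
  have iW : W' ≤ g ⁻¹ᵁ W := hW'le.trans inf_le_right
  have ha : 𝒮.res hU hW G.le f ∈ 𝒮.deg W hW d := (𝒮.res hU hW G.le).map_mem hf
  have hb : 𝒮.res hV hW G'.le f' ∈ 𝒮.deg W hW e := (𝒮.res hV hW G'.le).map_mem hf'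
  have hab : 𝒮.res hU hW G.le f * 𝒮.res hV hW G'.le f' ∈ 𝒮.deg W hW (d + e) := SetLike.mul_mem_graded ha hb
  refine ⟨⟨W, hW, W', hW', iW, d + e, Nat.add_pos_left hd e, _, hab⟩, ?_, ?_, ?_⟩
  · simp only [idxPiece, range_piece, SetLike.mem_coe, map_mul, pbasic_mul]
    rw [← gradedAt_res_left_apply u hU hW W' hW' G.le iW, ← gradedAt_res_left_apply u hV hW W' hW' G'.le iW,
      gradedAt_res_right_apply u U hU hU' hW' hle i1, gradedAt_res_right_apply u V hV hV' hW' hVle i2]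
    exact ⟨(mem_pbasic_res hP' hU' hW' i1 _ hxW').2 hi, (mem_pbasic_res hP' hV' hW' i2 _ hxW').2 hj⟩
  · exact ((Below.of_mul _ hd (Nat.add_pos_left hd e) ha hb hab rfl rfl).trans
      (Below.of_res_left hP (u.gradedAt U hU W' hW' (i1.trans hle)) _ G.le
        (gradedAt_res_left u hU hW W' hW' G.le iW) hd f hf)).trans
      (Below.of_res_right hP' _ _ i1 (gradedAt_res_right u U hU hU' hW' hle i1) hd f hf)
  · exact ((Below.of_mul _ he (Nat.add_pos_left hd e) hb ha hab (mul_comm _ _) (add_comm d e)).trans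
      (Below.of_res_left hP (u.gradedAt V hV W' hW' (i2.trans hVle)) _ G'.le
        (gradedAt_res_left u hV hW W' hW' G'.le iW) he f' hf')).trans
      (Below.of_res_right hP' _ _ i2 (gradedAt_res_right u V hV hV' hW' hVle i2) he f' hf')

theorem idx_range_subset (i : Idx (g := g) (𝒮 := 𝒮)) :
    Set.range (idxPiece u chart chart' i).c ⊆ Set.range (RelProj.domQ u p' chart').ι :=
  RelProj.range_awayEmb_subset_domQ u p' chart' i.U i.hU i.U' i.hU' i.hle i.hd i.f i.hf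

theorem idx_cover (x : P') (hx : x ∈ RelProj.domQ u p' chart') :
    ∃ i, x ∈ Set.range (idxPiece u chart chart' i).c := by
  obtain ⟨U, hU, U', hU', hle, d, f, hd, hf, hxf⟩ := (mem_domQ u).1 hx
  exact ⟨⟨U, hU, U', hU', hle, d, hd, f, hf⟩, by rw [idxPiece, range_piece]; exact hxf⟩

variable (chart chart') in
/-- A standard piece lifted into `G(u)`. -/
def idxLift (i : Idx (g := g) (𝒮 := 𝒮)) :
    (idxPiece u chart chart' i).T ⟶ (RelProj.domQ u p' chart' : P'.Opens) :=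
  IsOpenImmersion.lift (RelProj.domQ u p' chart').ι (idxPiece u chart chart' i).c (idx_range_subset u i)

theorem idxLift_ι (i : Idx (g := g) (𝒮 := 𝒮)) :
    idxLift u chart chart' i ≫ (RelProj.domQ u p' chart').ι = (idxPiece u chart chart' i).c :=
  IsOpenImmersion.lift_fac _ _ _

theorem isProjQMapOn_iff (v : ((RelProj.domQ u p' chart' : P'.Opens) : Scheme.{u}) ⟶ P) :
    RelProj.IsProjQMapOn u p chart p' chart' (RelProj.domQ u p' chart') v ↔
      ∀ i : Idx (g := g) (𝒮 := 𝒮), idxLift u chart chart' i ≫ v = (idxPiece u chart chart' i).v :=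
  ⟨fun h i => h i.U i.hU i.U' i.hU' i.hle i.d i.hd i.f i.hf (idx_range_subset (chart := chart) u i),
    fun h U hU U' hU' hle d hd f hf _ => h ⟨U, hU, U', hU', hle, d, hd, f, hf⟩⟩

include hP hP' in
theorem existsUnique_projQMap :
    ∃! v : ((RelProj.domQ u p' chart' : P'.Opens) : Scheme.{u}) ⟶ P,
      RelProj.IsProjQMapOn u p chart p' chart' (RelProj.domQ u p' chart') v := by
  obtain ⟨v, hv, huniq⟩ := existsUnique_glue (idxPiece u chart chart') (RelProj.domQ u p' chart')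
    (idx_range_subset u) (idx_cover u) fun i j x hi hj => compat u hP' hP i j x hi hj
  exact ⟨v, (isProjQMapOn_iff u v).2 hv, fun v' hv' => huniq v' ((isProjQMapOn_iff u v').1 hv')⟩

variable (chart chart') in
/-- The cover of `G(u)` by standard pieces. -/
def domCover : ((RelProj.domQ u p' chart' : P'.Opens) : Scheme.{u}).OpenCover :=
  pieceCover (idxPiece u chart chart') _ (idx_range_subset u) (idx_cover u)

end Groth.Agent.ProjQ
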