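import Groth.Agent.ProjQ.Imm
import Mathlib.AlgebraicGeometry.Morphisms.Immersion

/-!
# Criteria for `r_{L,ψ}` to be an immersion
-/

universe u

open CategoryTheory CategoryTheory.Limits AlgebraicGeometry TopologicalSpace Opposite HomogeneousLocalization
open scoped HomogeneousIdeal

set_option linter.style.haveILetI false
set_option backward.isDefEq.respectTransparency false
set_option backward.isDefEq.respectTransparency.types false

noncomputable section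

namespace Groth.Agent.ProjQ

open Groth.Agent

variable {Y X : Scheme.{u}} {q : X ⟶ Y} {L : X.Modules} {𝒮 : RelProj.QCGrAlg Y} {𝒮L : RelProj.QCGrAlg X}
  {j : L ⟶ 𝒮L.toModule} (u : RelProj.QGrHom q 𝒮 𝒮L)
  {P : Scheme.{u}} {p : P ⟶ Y}
  {chart : ∀ (U : Y.Opens) (hU : IsAffineOpen U), (((p ⁻¹ᵁ U : P.Opens) : Scheme.{u}) ≅ Proj (𝒮.deg U hU))}
  {PL : Scheme.{u}} {pL : PL ⟶ X}
  {chartL : ∀ (U : X.Opens) (hU : IsAffineOpen U), (((pL ⁻¹ᵁ U : PL.Opens) : Scheme.{u}) ≅ Proj (𝒮L.deg U hU))}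
  (hY : IsAffineOpen (⊤ : Y.Opens))
  (hL : PicF.IsInvertible L) (hLq : Coh.IsQCoh L) (hj : RelProj.IsGrSymAlg L 𝒮L j)
  (hPL : RelProj.IsRelProj 𝒮L pL chartL) (hP : RelProj.IsRelProj 𝒮 p chart)
  {r : ((RelProj.domQ u pL chartL : PL.Opens) : Scheme.{u}) ⟶ P}
  (hr : RelProj.IsProjQMapOn u p chart pL chartL (RelProj.domQ u pL chartL) r)
  [IsIso pL]
  {n : ℕ} (hn : 0 < n) {s : 𝒮.presheaf.obj (op ⊤)} (hs : s ∈ 𝒮.deg ⊤ hY n)

theorem theta_surjective_iff {U : X.Opens} (hU : IsAffineOpen U) (hgen : U ≤ genOpen (𝒮L := 𝒮L) u n s) :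
    Function.Surjective (theta u hY hL hLq hj hPL hP hr hn hs hU hgen).hom ↔
      ∀ t : Γ(X, U), ∃ (m : ℕ) (_ : 0 < m) (s' : 𝒮.presheaf.obj (op ⊤)) (_ : s' ∈ 𝒮.deg ⊤ hY (m * n)),
        (𝒮L.str.app (op U)).hom t * imgAt u hY U hU s ^ m = imgAt u hY U hU s' := by
  constructor
  · intro h t
    obtain ⟨z, rfl⟩ := h t
    obtain ⟨k, x, hx, rfl⟩ := Away.mk_surjective (𝒮.deg ⊤ hY) hs z
    have hx' : x * s ∈ 𝒮.deg ⊤ hY ((k + 1) * n) := by
      rw [add_mul, one_mul, ← smul_eq_mul]; exact SetLike.mul_mem_graded hx hs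
    refine ⟨k + 1, k.succ_pos, x * s, hx', ?_⟩
    rw [pow_succ, ← mul_assoc, formula u hY hL hLq hj hPL hP hr hn hs hU hgen k x hx, imgAt, imgAt, imgAt, map_mul]
  · intro h t
    obtain ⟨m, -, s', hs', e⟩ := h t
    have hs'' : s' ∈ 𝒮.deg ⊤ hY (m • n) := by rwa [smul_eq_mul]
    refine ⟨Away.mk (𝒮.deg ⊤ hY) hs m s' hs'', str_mul_inj u hY hL hLq hj hU hgen hs m ?_⟩
    rw [formula u hY hL hLq hj hPL hP hr hn hs hU hgen m s' hs'', e]

theorem theta_injective_iff {U : X.Opens} (hU : IsAffineOpen U) (hgen : U ≤ genOpen (𝒮L := 𝒮L) u n s) :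
    Function.Injective (theta u hY hL hLq hj hPL hP hr hn hs hU hgen).hom ↔
      ∀ (m : ℕ), 0 < m → ∀ s' ∈ 𝒮.deg ⊤ hY (m * n), imgAt u hY U hU s' = 0 →
        ∃ k, 0 < k ∧ s ^ k * s' = 0 := by
  rw [injective_iff_map_eq_zero]
  constructor
  · intro h m _ s' hs' h0
    have hs'' : s' ∈ 𝒮.deg ⊤ hY (m • n) := by rwa [smul_eq_mul]
    have h1 := h (Away.mk (𝒮.deg ⊤ hY) hs m s' hs'') (str_mul_inj u hY hL hLq hj hU hgen hs m (by
      rw [formula u hY hL hLq hj hPL hP hr hn hs hU hgen m s' hs'', h0, map_zero, zero_mul]))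
    rw [← (HomogeneousLocalization.val_injective _).eq_iff, Away.val_mk, HomogeneousLocalization.val_zero,
      Localization.mk_eq_mk', IsLocalization.mk'_eq_zero_iff] at h1
    obtain ⟨⟨_, k, rfl⟩, hk⟩ := h1
    refine ⟨k + 1, k.succ_pos, ?_⟩
    rw [pow_succ', mul_assoc]
    exact mul_eq_zero_of_right s hk
  · intro h z hz
    obtain ⟨m, x, hx, rfl⟩ := Away.mk_surjective (𝒮.deg ⊤ hY) hs z
    have e := formula u hY hL hLq hj hPL hP hr hn hs hU hgen m x hx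
    rw [hz, map_zero, zero_mul] at e
    have hx' : x * s ∈ 𝒮.deg ⊤ hY ((m + 1) * n) := by
      rw [add_mul, one_mul, ← smul_eq_mul]; exact SetLike.mul_mem_graded hx hs
    have h0 : imgAt u hY U hU (x * s) = 0 := by
      rw [imgAt, map_mul, show u.gradedAt ⊤ hY U hU (le_preimage_top U) x = 0 from e.symm, zero_mul]
    obtain ⟨k, -, hk⟩ := h (m + 1) m.succ_pos _ hx' h0
    rw [← (HomogeneousLocalization.val_injective _).eq_iff, Away.val_mk, HomogeneousLocalization.val_zero,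
      Localization.mk_eq_mk', IsLocalization.mk'_eq_zero_iff]
    refine ⟨⟨s ^ (k + 1), k + 1, rfl⟩, ?_⟩
    show s ^ (k + 1) * x = 0
    linear_combination hk

theorem surjective_of_isClosedImmersion {R S : CommRingCat.{u}} (f : R ⟶ S) (h : IsClosedImmersion (Spec.map f)) :
    Function.Surjective f.hom := by
  obtain ⟨-, h1⟩ := IsClosedImmersion.isAffine_surjective_of_isAffine (f := Spec.map f)
  intro y
  obtain ⟨x, hx⟩ := h1 ((Scheme.ΓSpecIso S).inv.hom y)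
  refine ⟨(Scheme.ΓSpecIso R).hom.hom x, ?_⟩
  have e := congr($(Scheme.ΓSpecIso_naturality f) x)
  simp only [CommRingCat.comp_apply] at e
  change (Scheme.Hom.appTop (Spec.map f)).hom x = _ at hx
  rw [show (Scheme.ΓSpecIso S).hom.hom ((Scheme.Hom.appTop (Spec.map f)).hom x) = y by
    rw [hx]; exact Iso.inv_hom_id_apply _ y] at e
  exact e.symm

/-- A family of sections with the properties of the criterion. -/
structure Family where
  ι : Type u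
  deg : ι → ℕ
  sec : ι → 𝒮.presheaf.obj (op ⊤)
  deg_pos : ∀ a, 0 < deg a
  sec_mem : ∀ a, sec a ∈ 𝒮.deg ⊤ hY (deg a)
  cover : ⨆ a, genOpen (𝒮L := 𝒮L) u (deg a) (sec a) = ⊤
  affine : ∀ a, IsAffineOpen (genOpen (𝒮L := 𝒮L) u (deg a) (sec a))

include hLq hj hPL hL in
theorem Family.domQ_eq_top (F : Family (𝒮L := 𝒮L) u hY) : RelProj.domQ u pL chartL = ⊤ := by
  refine top_unique fun z _ => ?_
  obtain ⟨a, ha⟩ := Opens.mem_iSup.1 (F.cover.ge (Set.mem_univ (pL z)))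
  exact (mem_domQ_line_iff u hY hL hLq hj hPL).2 ⟨_, _, F.deg_pos a, F.sec_mem a, ha⟩

/-- The ring maps of a family. -/
abbrev Family.theta (F : Family (𝒮L := 𝒮L) u hY) (a : F.ι) :=
  ProjQ.theta u hY hL hLq hj hPL hP hr (F.deg_pos a) (F.sec_mem a) (F.affine a) le_rfl

include hLq hj hPL hL hP hr in
theorem Family.exists_factor (F : Family (𝒮L := 𝒮L) u hY) (Pr : MorphismProperty Scheme.{u})
    [IsZariskiLocalAtTarget Pr] (h : ∀ a, Pr (Spec.map (F.theta u hY hL hLq hj hPL hP hr a))) :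
    ∃ r' : ((RelProj.domQ u pL chartL : PL.Opens) : Scheme.{u}) ⟶
        ((⨆ a, pbasic chart ⊤ hY (F.sec a) : P.Opens) : Scheme.{u}),
      r' ≫ (⨆ a, pbasic chart ⊤ hY (F.sec a)).ι = r ∧ Pr r' := by
  have hW : (⨆ a, (RelQuot.stdChart chart ⊤ hY (F.deg_pos a) (F.sec a) (F.sec_mem a)).opensRange) =
      ⨆ a, pbasic chart ⊤ hY (F.sec a) :=
    iSup_congr fun a => Opens.ext ((Scheme.Hom.coe_opensRange _).trans (range_stdChart _ _ _ _))
  rw [← hW]
  refine exists_factor_of_pieces Pr r _ _ _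
    (fun a => isPullback_kmap u hY hL hLq hj hPL hP hr (F.deg_pos a) (F.sec_mem a) (F.affine a) rfl)
    (fun a => ?_) fun z => ?_
  · rw [← map_theta]; exact h a
  · obtain ⟨a, ha⟩ := Opens.mem_iSup.1 (F.cover.ge (Set.mem_univ (pL z.1)))
    refine ⟨a, ?_⟩
    rw [range_stdChart]
    exact (apply_mem_iff u hP hPL hr z hY (F.affine a) (le_preimage_top _) ha (F.deg_pos a) _ (F.sec_mem a)).2
      ((mem_pbasic_imgAt_iff u hY hL hLq hj hPL (F.sec_mem a) (F.affine a) ha).2 ha)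

variable (hdom : RelProj.domQ u pL chartL = ⊤) (W : P.Opens)
  (r' : ((RelProj.domQ u pL chartL : PL.Opens) : Scheme.{u}) ⟶ (W : Scheme.{u})) (hr' : r' ≫ W.ι = r)
  [IsAffineHom r']

include hLq hj hPL hL hP hr hn hs hr' in
theorem isAffineOpen_genOpen (hW : pbasic chart ⊤ hY s ≤ W) : IsAffineOpen (genOpen (𝒮L := 𝒮L) u n s) := by
  have h1 : IsAffineOpen (pbasic chart ⊤ hY s) :=
    (Proj.isAffineOpen_basicOpen (𝒮.deg ⊤ hY) s hs hn).image_of_isOpenImmersion _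
  have h2 : IsAffineOpen (W.ι ⁻¹ᵁ pbasic chart ⊤ hY s) := by
    rw [← W.ι.isAffineOpen_iff_of_isOpenImmersion, Scheme.Hom.image_preimage_eq_opensRange_inf,
      Scheme.Opens.opensRange_ι, inf_eq_right.2 hW]
    exact h1
  have h3 : IsAffineOpen ((RelProj.domQ u pL chartL).ι ''ᵁ (r ⁻¹ᵁ pbasic chart ⊤ hY s)) := by
    rw [← hr', Scheme.Hom.comp_preimage]
    exact (h2.preimage r').image_of_isOpenImmersion _
  rw [image_preimage_pbasic_line u hY hL hLq hj hPL hP hr hn hs] at h3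
  have e : inv pL ⁻¹ᵁ (pL ⁻¹ᵁ genOpen (𝒮L := 𝒮L) u n s) = genOpen (𝒮L := 𝒮L) u n s := by
    rw [← Scheme.Hom.comp_preimage, IsIso.inv_hom_id]; rfl
  exact e ▸ h3.preimage (inv pL)

include hr' in
theorem kmap_of_factor (Pr : MorphismProperty Scheme.{u}) [Pr.IsStableUnderBaseChange] (hPr : Pr r')
    (hW : pbasic chart ⊤ hY s ≤ W) (hU : IsAffineOpen (genOpen (𝒮L := 𝒮L) u n s)) :
    Pr (Spec.map (theta u hY hL hLq hj hPL hP hr hn hs hU le_rfl)) := by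
  rw [map_theta]
  have hc : Set.range (RelQuot.stdChart chart ⊤ hY hn s hs) ⊆ Set.range W.ι := by
    rw [Scheme.Opens.range_ι, range_stdChart]; exact hW
  exact MorphismProperty.of_isPullback (isPullback_lift
    (isPullback_kmap u hY hL hLq hj hPL hP hr hn hs hU rfl) W hc r' hr').flip hPr

include hP in
omit hr' in
theorem exists_pbasic_le {y : P} (hy : y ∈ W) :
    ∃ (d : ℕ) (f : 𝒮.presheaf.obj (op ⊤)), 0 < d ∧ f ∈ 𝒮.deg ⊤ hY d ∧ y ∈ pbasic chart ⊤ hY f ∧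
      pbasic chart ⊤ hY f ≤ W := by
  obtain ⟨w, rfl⟩ := exists_emb (chart := chart) hY (x := y) trivial
  obtain ⟨d, f, hd, hf, hwf, hsub⟩ := Proj16.exists_basicOpen_subset
    ((RelProj.emb p chart ⊤ hY ⁻¹ᵁ W).2) hy
  refine ⟨d, f, hd, hf, ⟨w, hwf, rfl⟩, ?_⟩
  rintro _ ⟨v, hv, rfl⟩
  exact hsub hv

include hLq hj hPL hL hP hr hr' hdom in
/-- The family attached to a factorisation. -/
theorem exists_family :
    ∃ F : Family (𝒮L := 𝒮L) u hY, (∀ a, pbasic chart ⊤ hY (F.sec a) ≤ W) ∧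
      W ≤ ⨆ a, pbasic chart ⊤ hY (F.sec a) := by
  refine ⟨⟨{a : ℕ × 𝒮.presheaf.obj (op ⊤) // 0 < a.1 ∧ a.2 ∈ 𝒮.deg ⊤ hY a.1 ∧ pbasic chart ⊤ hY a.2 ≤ W},
    fun a => a.1.1, fun a => a.1.2, fun a => a.2.1, fun a => a.2.2.1, ?_, fun a =>
      isAffineOpen_genOpen u hY hL hLq hj hPL hP hr a.2.1 a.2.2.1 W r' hr' a.2.2.2⟩, fun a => a.2.2.2, ?_⟩
  · refine top_unique fun x _ => ?_
    let z : ((RelProj.domQ u pL chartL : PL.Opens) : Scheme.{u}) := ⟨inv pL x, hdom.ge trivial⟩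
    have hz : r z ∈ W := by
      rw [← hr', Scheme.Hom.comp_apply]
      exact (r' z).2
    obtain ⟨d, f, hd, hf, hzf, hle⟩ := exists_pbasic_le hY hP W hz
    refine Opens.mem_iSup.2 ⟨⟨(d, f), hd, hf, hle⟩, ?_⟩
    have h1 : inv pL x ∈ (RelProj.domQ u pL chartL).ι ''ᵁ (r ⁻¹ᵁ pbasic chart ⊤ hY f) := ⟨z, hzf, rfl⟩
    rw [image_preimage_pbasic_line u hY hL hLq hj hPL hP hr hd hf] at h1
    have e : pL (inv pL x) = x := by rw [← Scheme.Hom.comp_apply, IsIso.inv_hom_id]; rfl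
    exact e ▸ (show pL (inv pL x) ∈ genOpen (𝒮L := 𝒮L) u d f from h1)
  · intro y hy
    obtain ⟨d, f, hd, hf, hyf, hle⟩ := exists_pbasic_le hY hP W hy
    exact Opens.mem_iSup.2 ⟨⟨(d, f), hd, hf, hle⟩, hyf⟩

end Groth.Agent.ProjQ
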