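import Groth.Agent.ProjQ.Props
import Groth.Agent.VeryAmpleX.GrSym
import Groth.Agent.InvX.Frame

/-!
# The relative `Proj` of the graded symmetric algebra of an invertible module
-/

universe u

open CategoryTheory CategoryTheory.Limits AlgebraicGeometry TopologicalSpace Opposite HomogeneousLocalization
open scoped HomogeneousIdeal

set_option linter.style.haveILetI false
set_option backward.isDefEq.respectTransparency false
set_option backward.isDefEq.respectTransparency.types false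

noncomputable section

namespace Groth.Agent.ProjQ

open Groth.Agent

variable {X : Scheme.{u}}

/-- An affine open with a frame of `L`. -/
abbrev LineTriv (L : X.Modules) : Type u :=
  Σ U : X.affineOpens, {e : Γ(L, U.1) // InvX.IsFrame e}

variable {L : X.Modules}

theorem exists_lineTriv_le (hL : PicF.IsInvertible L) {W : X.Opens} {x : X} (hx : x ∈ W) :
    ∃ a : LineTriv L, x ∈ a.1.1 ∧ a.1.1 ≤ W := by
  obtain ⟨V, hxV, e, he⟩ := InvX.exists_frame hL x
  obtain ⟨U, hU, hxU, hle⟩ := exists_affine_le (show x ∈ V ⊓ W from ⟨hxV, hx⟩)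
  exact ⟨⟨⟨U, hU⟩, AModX.res L (hle.trans inf_le_left) e, he.res _⟩, hxU, hle.trans inf_le_right⟩

/-- A trivialisation on a smaller affine open. -/
def LineTriv.restr (a : LineTriv L) {U : X.Opens} (hU : IsAffineOpen U) (i : U ≤ a.1.1) : LineTriv L :=
  ⟨⟨U, hU⟩, AModX.res L i a.2.1, a.2.2.res i⟩

variable {𝒮L : RelProj.QCGrAlg X} {j : L ⟶ 𝒮L.toModule}

variable (j) in
/-- The generator attached to a frame. -/
abbrev lgen (a : LineTriv L) : 𝒮L.presheaf.obj (op a.1.1) := VeryAmpleX.jLin j a.1.1 a.2.1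

theorem res_lgen (a : LineTriv L) {U : X.Opens} (hU : IsAffineOpen U) (i : U ≤ a.1.1) :
    𝒮L.res a.1.2 hU i (lgen j a) = lgen j (a.restr hU i) :=
  VeryAmpleX.jLin_res j i a.2.1

theorem res_str {U V : X.Opens} (hU : IsAffineOpen U) (hV : IsAffineOpen V) (i : V ≤ U) (c : Γ(X, U)) :
    𝒮L.res hU hV i ((𝒮L.str.app (op U)).hom c) = (𝒮L.str.app (op V)).hom (AModX.resR i c) :=
  (congr($(𝒮L.str.naturality (homOfLE i).op) c)).symm

section algebra

variable (hLq : Coh.IsQCoh L) (hj : RelProj.IsGrSymAlg L 𝒮L j)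

include hj in
theorem lgen_mem (a : LineTriv L) : lgen j a ∈ 𝒮L.deg a.1.1 a.1.2 1 := hj.2 a.1.1 a.1.2 a.2.1

include hj in
theorem strMul_mem (a : LineTriv L) (c : Γ(X, a.1.1)) (n : ℕ) :
    (𝒮L.str.app (op a.1.1)).hom c * lgen j a ^ n ∈ 𝒮L.deg a.1.1 a.1.2 n := by
  have h := SetLike.mul_mem_graded (A := 𝒮L.deg a.1.1 a.1.2) (𝒮L.str_mem a.1.1 a.1.2 c)
    (SetLike.pow_mem_graded n (lgen_mem hj a))
  rw [zero_add, smul_eq_mul, mul_one] at h
  exact h

include hLq hj in
theorem exists_poly (a : LineTriv L) (x : 𝒮L.presheaf.obj (op a.1.1)) :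
    ∃ p : Polynomial Γ(X, a.1.1), Polynomial.eval₂ (𝒮L.str.app (op a.1.1)).hom (lgen j a) p = x := by
  obtain ⟨e, he, hej⟩ := SymSh.exists_sec hLq hj.1 a.1.2
  rw [← e.symm_apply_apply x]
  generalize e x = y
  induction y using SymmetricAlgebra.induction with
  | algebraMap r =>
    exact ⟨Polynomial.C r, by rw [Polynomial.eval₂_C, ← he r, e.symm_apply_apply]⟩
  | ι m =>
    obtain ⟨c, hc⟩ := a.2.2.exists_coord le_rfl m
    rw [AModX.res_self] at hc
    refine ⟨Polynomial.C c * Polynomial.X, ?_⟩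
    rw [Polynomial.eval₂_mul, Polynomial.eval₂_C, Polynomial.eval₂_X, ← hej m, e.symm_apply_apply]
    refine Eq.trans ?_ (congrArg (fun z : Γ(L, a.1.1) => (show 𝒮L.presheaf.obj (op a.1.1) from j.app a.1.1 z)) hc).symm
    exact ((j.val.app (op a.1.1)).hom.map_smul c a.2.1).symm
  | mul p q hp hq =>
    obtain ⟨p', hp'⟩ := hp
    obtain ⟨q', hq'⟩ := hq
    exact ⟨p' * q', by rw [Polynomial.eval₂_mul, hp', hq', map_mul]⟩
  | add p q hp hq =>
    obtain ⟨p', hp'⟩ := hp
    obtain ⟨q', hq'⟩ := hq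
    exact ⟨p' + q', by rw [Polynomial.eval₂_add, hp', hq', map_add]⟩

include hLq hj in
theorem exists_coord (a : LineTriv L) {d : ℕ} {x : 𝒮L.presheaf.obj (op a.1.1)}
    (hx : x ∈ 𝒮L.deg a.1.1 a.1.2 d) :
    ∃ c : Γ(X, a.1.1), x = (𝒮L.str.app (op a.1.1)).hom c * lgen j a ^ d := by
  classical
  obtain ⟨p, hp⟩ := exists_poly hLq hj a x
  rw [← DirectSum.decompose_of_mem_same _ hx, ← hp]
  clear hp hx x
  induction p using Polynomial.induction_on' with
  | add p q hp hq =>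
    obtain ⟨c, hc⟩ := hp
    obtain ⟨c', hc'⟩ := hq
    refine ⟨c + c', ?_⟩
    rw [Polynomial.eval₂_add, DirectSum.decompose_add, DirectSum.add_apply, AddSubgroup.coe_add, hc, hc', map_add,
      add_mul]
  | monomial n c =>
    rw [Polynomial.eval₂_monomial]
    by_cases h : n = d
    · subst h
      exact ⟨c, DirectSum.decompose_of_mem_same _ (strMul_mem hj a c n)⟩
    · exact ⟨0, by rw [DirectSum.decompose_of_mem_ne _ (strMul_mem hj a c n) h, map_zero, zero_mul]⟩

include hLq hj in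
theorem exists_eval (a : LineTriv L) :
    ∃ F : 𝒮L.presheaf.obj (op a.1.1) →+* Γ(X, a.1.1),
      (∀ c, F ((𝒮L.str.app (op a.1.1)).hom c) = c) ∧ F (lgen j a) = 1 := by
  letI := VeryAmpleX.secAlg 𝒮L.toQCAlg a.1.1
  have hco : ∀ m : Γ(L, a.1.1), ∃ c : Γ(X, a.1.1), m = c • a.2.1 := fun m => by
    obtain ⟨c, hc⟩ := a.2.2.exists_coord le_rfl m
    rw [AModX.res_self] at hc
    exact ⟨c, hc⟩
  choose co hco using hco
  have huniq : ∀ c c' : Γ(X, a.1.1), c • a.2.1 = c' • a.2.1 → c = c' := fun c c' h =>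
    a.2.2.coord_unique le_rfl (by rw [AModX.res_self]; exact h)
  let lin : L.val.obj (op a.1.1) →ₗ[Γ(X, a.1.1)] Γ(X, a.1.1) :=
    { toFun := fun m => co m
      map_add' := fun m n => huniq _ _ (by
        refine (hco (show Γ(L, a.1.1) from m + n)).symm.trans ?_
        rw [add_smul, ← hco, ← hco])
      map_smul' := fun r m => huniq _ _ (by
        refine (hco (show Γ(L, a.1.1) from r • m)).symm.trans ?_
        show _ = (r * co m) • a.2.1
        rw [mul_smul, ← hco]) }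
  refine ⟨((VeryAmpleX.isSymmetricAlgebra_jLin hLq hj.1 a.1.2).lift lin).toRingHom, fun c => ?_, ?_⟩
  · exact ((VeryAmpleX.isSymmetricAlgebra_jLin hLq hj.1 a.1.2).lift lin).commutes c
  · show (VeryAmpleX.isSymmetricAlgebra_jLin hLq hj.1 a.1.2).lift lin (VeryAmpleX.jLin j a.1.1 a.2.1) = 1
    rw [IsSymmetricAlgebra.lift_eq]
    exact huniq _ _ ((hco a.2.1).symm.trans (one_smul _ _).symm)

include hLq hj in
theorem coord_inj (a : LineTriv L) {c c' : Γ(X, a.1.1)} (n : ℕ)
    (h : (𝒮L.str.app (op a.1.1)).hom c * lgen j a ^ n = (𝒮L.str.app (op a.1.1)).hom c' * lgen j a ^ n) :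
    c = c' := by
  obtain ⟨F, hF, hFg⟩ := exists_eval hLq hj a
  simpa [map_mul, map_pow, hF, hFg] using congrArg F h

include hLq hj in
/-- `x` generates the degree `n` part iff its coordinate is a unit. -/
theorem deg_subset_span_iff (a : LineTriv L) (n : ℕ) (c : Γ(X, a.1.1)) :
    (𝒮L.deg a.1.1 a.1.2 n : Set (𝒮L.presheaf.obj (op a.1.1))) ⊆
        (Ideal.span {(𝒮L.str.app (op a.1.1)).hom c * lgen j a ^ n} : Set (𝒮L.presheaf.obj (op a.1.1))) ↔
      IsUnit c := by
  constructor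
  · intro h
    obtain ⟨F, hF, hFg⟩ := exists_eval hLq hj a
    obtain ⟨y, hy⟩ := Ideal.mem_span_singleton'.1 (h (strMul_mem hj a 1 n))
    have := congrArg F hy
    simp only [map_mul, map_pow, hF, hFg, one_pow, mul_one] at this
    exact isUnit_iff_exists_inv'.2 ⟨F y, this⟩
  · rintro ⟨c, rfl⟩ x hx
    obtain ⟨c', rfl⟩ := exists_coord hLq hj a hx
    refine Ideal.mem_span_singleton'.2 ⟨(𝒮L.str.app (op a.1.1)).hom (c' * ↑c⁻¹), ?_⟩
    rw [← mul_assoc, ← map_mul, mul_assoc, Units.inv_mul, mul_one]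

end algebra

variable (hLq : Coh.IsQCoh L) (hj : RelProj.IsGrSymAlg L 𝒮L j) {PL : Scheme.{u}} {pL : PL ⟶ X}
  {chartL : ∀ (U : X.Opens) (hU : IsAffineOpen U), (((pL ⁻¹ᵁ U : PL.Opens) : Scheme.{u}) ≅ Proj (𝒮L.deg U hU))}

include hLq hj in
/-- The generator is nowhere zero on the `Proj`. -/
theorem pbasic_lgen (a : LineTriv L) : pbasic chartL a.1.1 a.1.2 (lgen j a) = pL ⁻¹ᵁ a.1.1 := by
  refine le_antisymm pbasic_le fun x hx => ?_
  obtain ⟨w, rfl⟩ := exists_emb (chart := chartL) a.1.2 hx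
  refine emb_mem_pbasic.2 fun hw => w.not_irrelevant_le ?_
  refine (HomogeneousIdeal.toIdeal_irrelevant_le _).2 fun i hi y hy => ?_
  obtain ⟨c, rfl⟩ := exists_coord hLq hj a hy
  exact Ideal.mul_mem_left _ _ (Ideal.pow_mem_of_mem _ hw i hi)

variable (hPL : RelProj.IsRelProj 𝒮L pL chartL)

include hLq hj in
theorem isIso_toOpen (a : LineTriv L) : IsIso (Proj16.toOpen 𝒮L a.1.1 a.1.2) := by
  let 𝒜 := 𝒮L.deg a.1.1 a.1.2
  let g := lgen j a
  have hg : g ∈ 𝒜 1 := lgen_mem hj a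
  have htop : ∀ y : Proj 𝒜, g ∉ y.asHomogeneousIdeal := by
    refine fun y hy => y.not_irrelevant_le ?_
    refine (HomogeneousIdeal.toIdeal_irrelevant_le _).2 fun i hi z hz => ?_
    obtain ⟨c, rfl⟩ := exists_coord hLq hj a hz
    exact Ideal.mul_mem_left _ _ (Ideal.pow_mem_of_mem _ hy i hi)
  haveI : Epi (Proj.awayι 𝒜 g hg one_pos).base := by
    rw [TopCat.epi_iff_surjective]
    intro y
    exact (Proj.opensRange_awayι 𝒜 g hg one_pos).ge (show y ∈ Proj.basicOpen 𝒜 g from htop y)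
  haveI : IsIso (Proj.awayι 𝒜 g hg one_pos) := AlgebraicGeometry.IsOpenImmersion.isIso _
  haveI : IsIso (chartStr (𝒜 := 𝒮L) a.1.1 a.1.2 g) := by
    rw [ConcreteCategory.isIso_iff_bijective]
    have hφ : ∀ c, ((chartStr (𝒜 := 𝒮L) a.1.1 a.1.2 g).hom c).val =
        Localization.mk ((𝒮L.str.app (op a.1.1)).hom c) (1 : Submonoid.powers g) := fun c => rfl
    refine ⟨fun c c' h => ?_, fun x => ?_⟩
    · have h1 := congrArg HomogeneousLocalization.val h
      rw [hφ, hφ, Localization.mk_eq_mk_iff, Localization.r_iff_exists] at h1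
      obtain ⟨⟨_, k, rfl⟩, hk⟩ := h1
      refine coord_inj hLq hj a k ?_
      simpa [mul_comm] using hk
    · obtain ⟨n, x, hx, rfl⟩ := Away.mk_surjective 𝒜 hg x
      obtain ⟨c, hc⟩ := exists_coord hLq hj a hx
      refine ⟨c, HomogeneousLocalization.val_injective _ ?_⟩
      rw [hφ, Away.val_mk, Localization.mk_eq_mk_iff, Localization.r_iff_exists]
      refine ⟨1, ?_⟩
      simp [hc, g, mul_comm]
  have h : Proj.awayι 𝒜 g hg one_pos ≫ Proj.toSpecZero 𝒜 ≫ Spec.map (𝒮L.strZero a.1.1 a.1.2) =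
      Spec.map (chartStr (𝒜 := 𝒮L) a.1.1 a.1.2 g) := by
    rw [Proj.awayι_toSpecZero_assoc, chartStr, Spec.map_comp]
  haveI : IsIso (Proj.toSpecZero 𝒜 ≫ Spec.map (𝒮L.strZero a.1.1 a.1.2)) := IsIso.of_isIso_fac_left h
  rw [Proj16.toOpen, ← Category.assoc]
  infer_instance

include hLq hj hPL in
theorem isIso_structure (hL : PicF.IsInvertible L) : IsIso pL := by
  refine (IsZariskiLocalAtTarget.iff_of_iSup_eq_top (P := MorphismProperty.isomorphisms Scheme.{u})
    (fun a : LineTriv L => a.1.1) (top_unique fun y _ => ?_)).2 fun a => ?_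
  · obtain ⟨a, ha, -⟩ := exists_lineTriv_le hL (W := ⊤) (x := y) trivial
    exact Opens.mem_iSup.2 ⟨a, ha⟩
  haveI := isIso_toOpen hLq hj a
  have h : pL ∣_ a.1.1 = (chartL a.1.1 a.1.2).hom ≫ Proj16.toOpen 𝒮L a.1.1 a.1.2 := by
    rw [← cancel_mono a.1.1.ι, morphismRestrict_ι, Category.assoc, Proj16.toOpen_ι]
    exact (hPL.chart_over a.1.1 a.1.2).symm
  rw [MorphismProperty.isomorphisms.iff, h]
  infer_instance

include hLq hj hPL in
/-- The standard open of a section is the preimage of the locus of its coordinate. -/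
theorem pbasic_coord (a : LineTriv L) (c : Γ(X, a.1.1)) (n : ℕ) :
    pbasic chartL a.1.1 a.1.2 ((𝒮L.str.app (op a.1.1)).hom c * lgen j a ^ n) = pL ⁻¹ᵁ X.basicOpen c := by
  have key : pbasic chartL a.1.1 a.1.2 ((𝒮L.str.app (op a.1.1)).hom c * lgen j a) = pL ⁻¹ᵁ X.basicOpen c := by
    ext x
    rw [SetLike.mem_coe, SetLike.mem_coe]
    by_cases hx : pL x ∈ a.1.1
    · have hxr : x ∈ Set.range (RelQuot.stdChart chartL a.1.1 a.1.2 one_pos (lgen j a) (lgen_mem hj a)) := by
        rw [range_stdChart, SetLike.mem_coe, pbasic_lgen hLq hj a]; exact hx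
      obtain ⟨z, rfl⟩ := hxr
      show _ ↔ pL _ ∈ X.basicOpen c
      have h1 := Proj.awayι_preimage_basicOpen (𝒮L.deg a.1.1 a.1.2) (lgen_mem hj a) one_pos
        (g := (𝒮L.str.app (op a.1.1)).hom c * lgen j a) (by simpa using strMul_mem hj a c 1) one_pos
      rw [RelQuot.stdChart, Scheme.Hom.comp_apply, emb_mem_pbasic]
      refine (SetLike.ext_iff.1 h1 z).trans ?_
      have hs := congr($(stdChart_comp hPL a.1.2 one_pos (lgen j a) (lgen_mem hj a)) z)
      simp only [RelQuot.stdChart, Scheme.Hom.comp_apply] at hs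
      rw [hs]
      show _ ↔ Spec.map (chartStr a.1.1 a.1.2 (lgen j a)) z ∈ a.1.2.fromSpec ⁻¹ᵁ X.basicOpen c
      rw [a.1.2.fromSpec_preimage_basicOpen]
      show Away.isLocalizationElem _ _ ∉ z.asIdeal ↔ (chartStr a.1.1 a.1.2 (lgen j a)).hom c ∉ z.asIdeal
      refine not_congr (iff_of_eq (congrArg (fun t => t ∈ z.asIdeal) ?_))
      apply HomogeneousLocalization.val_injective
      rw [Away.isLocalizationElem, Away.val_mk,
        show ((chartStr (𝒜 := 𝒮L) a.1.1 a.1.2 (lgen j a)).hom c).val =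
          Localization.mk ((𝒮L.str.app (op a.1.1)).hom c) (1 : Submonoid.powers (lgen j a)) from rfl,
        Localization.mk_eq_mk_iff, Localization.r_iff_exists]
      exact ⟨1, by simp [mul_comm]⟩
    · exact ⟨fun h => absurd (pbasic_le h) hx, fun h => absurd (X.basicOpen_le c h) hx⟩
  rcases n with _ | n
  · rw [pow_zero, mul_one, ← key, pbasic_mul, pbasic_lgen hLq hj a]
    exact (inf_eq_left.2 pbasic_le).symm
  · rw [← key]
    induction n with
    | zero => rw [pow_one]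
    | succ n ih =>
      rw [pow_succ, ← mul_assoc, pbasic_mul, ih, pbasic_lgen hLq hj a]
      exact inf_eq_left.2 pbasic_le

end Groth.Agent.ProjQ
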