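import Groth.Agent.ProjQ.Line
import Groth.Agent.ProjQ.SameBase
import Mathlib.AlgebraicGeometry.Morphisms.UnderlyingMap

/-!
# `G(ψ)` and `r_{L,ψ}` over an affine base
-/

universe u

open CategoryTheory CategoryTheory.Limits AlgebraicGeometry TopologicalSpace Opposite HomogeneousLocalization
open scoped HomogeneousIdeal

set_option linter.style.haveILetI false
set_option backward.isDefEq.respectTransparency false
set_option backward.isDefEq.respectTransparency.types false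

noncomputable section

namespace Groth.Agent.ProjQ

open Groth.Agent

section localization

variable {S : Scheme.{u}} {𝒜 : RelProj.QCGrAlg S}

/-- The graded pieces over a basic open are localizations of those over the affine open. -/
theorem exists_res_eq_mul_unit {U D : S.Opens} (G : RelTwistX.Good U D) (hU : IsAffineOpen U)
    (hD : IsAffineOpen D) {i : ℕ} {b : 𝒜.presheaf.obj (op D)} (hb : b ∈ 𝒜.deg D hD i) :
    ∃ (x : 𝒜.presheaf.obj (op U)) (v : (𝒜.presheaf.obj (op D))ˣ), x ∈ 𝒜.deg U hU i ∧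
      b = 𝒜.res hU hD G.le x * v := by
  classical
  obtain ⟨r, rfl⟩ := G
  let ψ := 𝒜.res hU hD (S.basicOpen_le r)
  let _inst := (𝒜.presheaf.map (homOfLE (S.basicOpen_le r)).op).hom.toAlgebra
  let c := (𝒜.str.app (op U)).hom r
  have hloc : IsLocalization.Away c (𝒜.presheaf.obj (op (S.basicOpen r))) := 𝒜.isQC U hU r
  obtain ⟨⟨x, s, hs⟩, hxs⟩ := IsLocalization.surj (Submonoid.powers c) b
  obtain ⟨k, rfl⟩ := (Submonoid.mem_powers_iff _ _).mp hs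
  change b * ψ (c ^ k) = ψ x at hxs
  have hu : IsUnit (ψ (c ^ k)) :=
    IsLocalization.map_units (M := Submonoid.powers c) (𝒜.presheaf.obj (op (S.basicOpen r))) ⟨c ^ k, k, rfl⟩
  have hc0 : ψ (c ^ k) ∈ 𝒜.deg (S.basicOpen r) hD 0 := by
    rw [map_pow]
    exact SetLike.pow_mem_graded _ (ψ.map_mem (𝒜.str_mem U hU r)) |> (by simpa using ·)
  have hbi : b * ψ (c ^ k) ∈ 𝒜.deg (S.basicOpen r) hD i := by
    simpa only [add_zero] using SetLike.mul_mem_graded (A := 𝒜.deg (S.basicOpen r) hD) hb hc0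
  have hxi : ψ (DirectSum.decompose (𝒜.deg U hU) x i : 𝒜.presheaf.obj (op U)) = b * ψ (c ^ k) := by
    rw [GradedRingHom.map_directSumDecompose, ← hxs, DirectSum.decompose_of_mem_same _ hbi]
  obtain ⟨v, hv⟩ := hu
  exact ⟨_, v⁻¹, SetLike.coe_mem (DirectSum.decompose (𝒜.deg U hU) x i),
    by rw [hxi, ← hv, mul_assoc, Units.mul_inv, mul_one]⟩

end localization

variable {Y X : Scheme.{u}} {q : X ⟶ Y} {L : X.Modules} {𝒮 : RelProj.QCGrAlg Y} {𝒮L : RelProj.QCGrAlg X}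
  {j : L ⟶ 𝒮L.toModule} (u : RelProj.QGrHom q 𝒮 𝒮L)
  {P : Scheme.{u}} {p : P ⟶ Y}
  {chart : ∀ (U : Y.Opens) (hU : IsAffineOpen U), (((p ⁻¹ᵁ U : P.Opens) : Scheme.{u}) ≅ Proj (𝒮.deg U hU))}
  {PL : Scheme.{u}} {pL : PL ⟶ X}
  {chartL : ∀ (U : X.Opens) (hU : IsAffineOpen U), (((pL ⁻¹ᵁ U : PL.Opens) : Scheme.{u}) ≅ Proj (𝒮L.deg U hU))}
  (hY : IsAffineOpen (⊤ : Y.Opens))

theorem le_preimage_top (V : X.Opens) : V ≤ q ⁻¹ᵁ ⊤ := le_top.trans (Scheme.Hom.preimage_top q).ge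

/-- The open `X_f` where a section generates. -/
def genOpen (n : ℕ) (f : 𝒮.presheaf.obj (op ⊤)) : X.Opens :=
  ⨆ V : {V : X.affineOpens // ((𝒮L.deg V.1 V.2 n : AddSubgroup (𝒮L.presheaf.obj (op (V.1 : X.Opens)))) :
      Set (𝒮L.presheaf.obj (op (V.1 : X.Opens)))) ⊆ (Ideal.span {(u.appLE ⊤ (V.1 : X.Opens)
      (le_top.trans (Scheme.Hom.preimage_top q).ge)).hom f} : Set (𝒮L.presheaf.obj (op (V.1 : X.Opens))))},
    (V.1.1 : X.Opens)

/-- The image of a global section over an affine open. -/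
abbrev imgAt (V : X.Opens) (hV : IsAffineOpen V) (f : 𝒮.presheaf.obj (op ⊤)) : 𝒮L.presheaf.obj (op V) :=
  u.gradedAt ⊤ hY V hV (le_preimage_top V) f

theorem imgAt_res {V W : X.Opens} (hV : IsAffineOpen V) (hW : IsAffineOpen W) (i : W ≤ V)
    (f : 𝒮.presheaf.obj (op ⊤)) : imgAt u hY W hW f = 𝒮L.res hV hW i (imgAt u hY V hV f) :=
  gradedAt_res_right_apply u ⊤ hY hV hW (le_preimage_top V) i f

variable (hL : PicF.IsInvertible L) (hLq : Coh.IsQCoh L) (hj : RelProj.IsGrSymAlg L 𝒮L j)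
  (hPL : RelProj.IsRelProj 𝒮L pL chartL)

include hPL in
theorem mem_pbasic_imgAt_congr {V V' : X.Opens} (hV : IsAffineOpen V) (hV' : IsAffineOpen V')
    (f : 𝒮.presheaf.obj (op ⊤)) {x : PL} (hx : pL x ∈ V) (hx' : pL x ∈ V') :
    x ∈ pbasic chartL V hV (imgAt u hY V hV f) ↔ x ∈ pbasic chartL V' hV' (imgAt u hY V' hV' f) := by
  obtain ⟨W, hW, hxW, hle⟩ := exists_affine_le (show pL x ∈ V ⊓ V' from ⟨hx, hx'⟩)
  rw [← mem_pbasic_res hPL hV hW (hle.trans inf_le_left) _ hxW,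
    ← mem_pbasic_res hPL hV' hW (hle.trans inf_le_right) _ hxW, ← imgAt_res, ← imgAt_res]

include hLq hj in
theorem exists_coord_img (a : LineTriv L) {n : ℕ} {f : 𝒮.presheaf.obj (op ⊤)} (hf : f ∈ 𝒮.deg ⊤ hY n) :
    ∃ c, imgAt u hY a.1.1 a.1.2 f = (𝒮L.str.app (op a.1.1)).hom c * lgen j a ^ n :=
  exists_coord hLq hj a ((u.gradedAt ⊤ hY a.1.1 a.1.2 (le_preimage_top _)).map_mem hf)

theorem coord_res (a : LineTriv L) {U : X.Opens} (hU : IsAffineOpen U) (i : U ≤ a.1.1) {n : ℕ}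
    {f : 𝒮.presheaf.obj (op ⊤)} {c : Γ(X, a.1.1)}
    (hc : imgAt u hY a.1.1 a.1.2 f = (𝒮L.str.app (op a.1.1)).hom c * lgen j a ^ n) :
    imgAt u hY U hU f = (𝒮L.str.app (op U)).hom (AModX.resR i c) *
      (show 𝒮L.presheaf.obj (op U) from lgen j (a.restr hU i)) ^ n := by
  rw [imgAt_res u hY a.1.2 hU i f, hc, map_mul, map_pow, res_str a.1.2 hU i, res_lgen a hU i]

include hLq hj in
theorem mem_genOpen_iff (a : LineTriv L) {n : ℕ} {f : 𝒮.presheaf.obj (op ⊤)} {c : Γ(X, a.1.1)}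
    (hc : imgAt u hY a.1.1 a.1.2 f = (𝒮L.str.app (op a.1.1)).hom c * lgen j a ^ n) {y : X} (hy : y ∈ a.1.1) :
    y ∈ genOpen (𝒮L := 𝒮L) u n f ↔ y ∈ X.basicOpen c := by
  constructor
  · intro h
    obtain ⟨⟨⟨V, hV⟩, hVn⟩, hyV⟩ := Opens.mem_iSup.1 h
    obtain ⟨D, hD, G, G', hyD⟩ := RelTwistX.exists_good hV a.1.2 hyV hy
    have hD' : (𝒮L.deg D hD n : Set (𝒮L.presheaf.obj (op D))) ⊆
        (Ideal.span {imgAt u hY D hD f} : Set (𝒮L.presheaf.obj (op D))) := by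
      intro b hb
      obtain ⟨x, v, hx, rfl⟩ := exists_res_eq_mul_unit G hV hD hb
      obtain ⟨t, rfl⟩ := Ideal.mem_span_singleton'.1 (hVn hx)
      refine Ideal.mem_span_singleton'.2 ⟨𝒮L.res hV hD G.le t * v, ?_⟩
      rw [imgAt_res u hY hV hD G.le f, map_mul, mul_right_comm]
      rfl
    rw [coord_res u hY a hD G'.le hc] at hD'
    have hu := (deg_subset_span_iff hLq hj (a.restr hD G'.le) n _).1 hD'
    have h1 := X.basicOpen_of_isUnit hu
    change X.basicOpen (X.presheaf.map (homOfLE G'.le).op c) = D at h1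
    rw [X.basicOpen_res] at h1
    exact (h1.ge hyD).2
  · intro h
    have hD := a.1.2.basicOpen c
    refine Opens.mem_iSup.2 ⟨⟨⟨X.basicOpen c, hD⟩, ?_⟩, h⟩
    show (𝒮L.deg (X.basicOpen c) hD n : Set (𝒮L.presheaf.obj (op (X.basicOpen c)))) ⊆
      (Ideal.span {imgAt u hY (X.basicOpen c) hD f} : Set (𝒮L.presheaf.obj (op (X.basicOpen c))))
    rw [coord_res u hY a hD (X.basicOpen_le c) hc]
    exact (deg_subset_span_iff hLq hj (a.restr hD (X.basicOpen_le c)) n _).2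
      (RingedSpace.isUnit_res_basicOpen X.toLocallyRingedSpace.toRingedSpace c)

include hLq hj hPL hL in
theorem mem_pbasic_imgAt_iff {n : ℕ} {f : 𝒮.presheaf.obj (op ⊤)} (hf : f ∈ 𝒮.deg ⊤ hY n) {V : X.Opens}
    (hV : IsAffineOpen V) {x : PL} (hx : pL x ∈ V) :
    x ∈ pbasic chartL V hV (imgAt u hY V hV f) ↔ pL x ∈ genOpen (𝒮L := 𝒮L) u n f := by
  obtain ⟨a, hxa, -⟩ := exists_lineTriv_le hL (W := ⊤) (x := pL x) trivial
  obtain ⟨c, hc⟩ := exists_coord_img u hY hLq hj a hf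
  rw [mem_pbasic_imgAt_congr u hY hPL hV a.1.2 f hx hxa, mem_genOpen_iff u hY hLq hj a hc hxa, hc,
    pbasic_coord hLq hj hPL a c n]
  rfl

include hLq hj hPL hL in
theorem mem_domQ_line_iff {x : PL} :
    x ∈ RelProj.domQ u pL chartL ↔
      ∃ (n : ℕ) (s : 𝒮.presheaf.obj (op ⊤)), 0 < n ∧ s ∈ 𝒮.deg ⊤ hY n ∧ pL x ∈ genOpen (𝒮L := 𝒮L) u n s := by
  obtain ⟨V, hV, hxV, -⟩ := exists_affine_le (show pL x ∈ (⊤ : X.Opens) from trivial)
  rw [mem_domQ_iff u hPL hY hV (le_preimage_top V) hxV]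
  exact exists_congr fun n => exists_congr fun s => and_congr_right fun hn => and_congr_right fun hs =>
    mem_pbasic_imgAt_iff u hY hL hLq hj hPL hs hV hxV

variable (hP : RelProj.IsRelProj 𝒮 p chart)
  {r : ((RelProj.domQ u pL chartL : PL.Opens) : Scheme.{u}) ⟶ P}
  (hr : RelProj.IsProjQMapOn u p chart pL chartL (RelProj.domQ u pL chartL) r)

include hLq hj hPL hL hP hr in
theorem image_preimage_pbasic_line {d : ℕ} (hd : 0 < d) {f : 𝒮.presheaf.obj (op ⊤)} (hf : f ∈ 𝒮.deg ⊤ hY d) :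
    (RelProj.domQ u pL chartL).ι ''ᵁ (r ⁻¹ᵁ pbasic chart ⊤ hY f) = pL ⁻¹ᵁ genOpen (𝒮L := 𝒮L) u d f := by
  rw [preimage_pbasic u hP hPL hr hY hd f hf]
  apply le_antisymm
  · refine iSup_le fun ⟨⟨V, hV⟩, hle⟩ x hx => ?_
    exact (mem_pbasic_imgAt_iff u hY hL hLq hj hPL hf hV (pbasic_le hx)).1 hx
  · intro x hx
    obtain ⟨V, hV, hxV, -⟩ := exists_affine_le (show pL x ∈ (⊤ : X.Opens) from trivial)
    exact Opens.mem_iSup.2 ⟨⟨⟨V, hV⟩, le_preimage_top V⟩, (mem_pbasic_imgAt_iff u hY hL hLq hj hPL hf hV hxV).2 hx⟩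

omit hLq hj hPL in
theorem pbasic_eq_bot_of_isNilpotent {V : X.Opens} (hV : IsAffineOpen V) {s : 𝒮L.presheaf.obj (op V)}
    (hs : IsNilpotent s) : pbasic chartL V hV s = ⊥ := by
  refine bot_unique fun x hx => ?_
  obtain ⟨w, rfl⟩ := exists_emb (chart := chartL) hV (pbasic_le hx)
  obtain ⟨N, hN⟩ := hs
  exact emb_mem_pbasic.1 hx (w.isPrime.mem_of_pow_mem N (hN ▸ zero_mem _))

include hP in
theorem exists_mem_pbasic_top {n : ℕ} (hn : 0 < n) {s : 𝒮.presheaf.obj (op ⊤)} (hs : s ∈ 𝒮.deg ⊤ hY n)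
    (h : ¬ IsNilpotent s) : ∃ y : P, y ∈ pbasic chart ⊤ hY s := by
  obtain ⟨w, -, hw⟩ := Proj16.exists_point (𝒮.deg ⊤ hY) (Ideal.IsHomogeneous.bot (𝒮.deg ⊤ hY)) hn hs
    (by rwa [← mem_nilradical, nilradical, Ideal.zero_eq_bot] at h)
  exact ⟨RelProj.emb p chart ⊤ hY w, emb_mem_pbasic.2 hw⟩

include hLq hj hPL hL hP hr in
theorem isDominant_iff :
    IsDominant r ↔ ∀ (n : ℕ), 0 < n → ∀ s ∈ 𝒮.deg ⊤ hY n,
      (∀ x : X, ∃ (V : X.Opens) (_ : IsAffineOpen V), x ∈ V ∧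
        IsNilpotent ((u.appLE ⊤ V (le_top.trans (Scheme.Hom.preimage_top q).ge)).hom s)) → IsNilpotent s := by
  constructor
  · intro hdom n hn s hs hloc
    by_contra hne
    obtain ⟨y, hy⟩ := exists_mem_pbasic_top hY hP hn hs hne
    obtain ⟨_, hz, ⟨x, rfl⟩⟩ := mem_closure_iff.1 (hdom.denseRange y) _ (pbasic chart ⊤ hY s).2 hy
    obtain ⟨V, hV, hxV, hnil⟩ := hloc (pL x.1)
    have h1 := (apply_mem_iff u hP hPL hr x hY hV (le_preimage_top V) hxV hn s hs).1 hz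
    have h2 : pbasic chartL V hV (u.gradedAt ⊤ hY V hV (le_preimage_top V) s) = ⊥ :=
      pbasic_eq_bot_of_isNilpotent hV hnil
    rw [h2] at h1
    exact h1
  · intro h
    refine ⟨fun y => mem_closure_iff.2 fun O hO hyO => ?_⟩
    obtain ⟨w, rfl⟩ := exists_emb (chart := chart) hY (x := y) trivial
    obtain ⟨d, f, hd, hf, hwf, hsub⟩ := Proj16.exists_basicOpen_subset
      (hO.preimage (RelProj.emb p chart ⊤ hY).continuous) hyO
    have hne : ¬ IsNilpotent f := fun ⟨N, hN⟩ =>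
      hwf (w.isPrime.mem_of_pow_mem N (hN ▸ zero_mem _))
    have h1 := mt (h d hd f hf) hne
    push Not at h1
    obtain ⟨y0, hy0⟩ := h1
    obtain ⟨a, hya, -⟩ := exists_lineTriv_le hL (W := ⊤) (x := y0) trivial
    obtain ⟨c, hc⟩ := exists_coord_img u hY hLq hj a hf
    have hcne : X.basicOpen c ≠ ⊥ := fun hb => by
      obtain ⟨N, hN⟩ := (Scheme.isNilpotent_iff_basicOpen_eq_bot_of_isCompact a.1.2.isCompact c).2 hb
      refine hy0 a.1.1 a.1.2 hya ⟨N + 1, ?_⟩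
      show (imgAt u hY a.1.1 a.1.2 f) ^ (N + 1) = 0
      rw [hc, mul_pow, ← map_pow, pow_succ, hN, zero_mul, map_zero, zero_mul]
    obtain ⟨y1, hy1⟩ : ∃ y1, y1 ∈ X.basicOpen c := by
      by_contra! hb
      exact hcne (bot_unique fun y hy => hb y hy)
    haveI := isIso_structure hLq hj hPL hL
    obtain ⟨x, rfl⟩ := (pL.homeomorph).surjective y1
    have hx : x ∈ (RelProj.domQ u pL chartL).ι ''ᵁ (r ⁻¹ᵁ pbasic chart ⊤ hY f) := by
      rw [image_preimage_pbasic_line u hY hL hLq hj hPL hP hr hd hf]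
      exact (mem_genOpen_iff u hY hLq hj a hc (X.basicOpen_le c hy1)).2 hy1
    obtain ⟨x', ⟨w', hw', e⟩, -⟩ := hx
    exact ⟨r x', e ▸ hsub hw', ⟨x', rfl⟩⟩

end Groth.Agent.ProjQ
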